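import Cfsg.Agent.KSG55.Phan.Gen
import Cfsg.Agent.Lib.LinearGroup.Generation
import Cfsg.Agent.Lib.LinearGroup.Card
import Cfsg.Agent.Lib.Unitary.Moves
import Cfsg.Agent.AutPSL.Main

/-!
An automorphism of `SU₂(q)` preserving the diagonal torus is a diagonal semilinear twist.
-/

set_option autoImplicit false
set_option linter.unusedSectionVars false

namespace Cfsg.Agent.KSG55.Phan

open Cfsg.Agent.Unitary Matrix
open scoped commutatorElement

/-- Two homs of `SL₂` agreeing modulo the centre agree: the centre has no element of order `p`. -/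
theorem eq_of_mod_center {L : Type*} [Field L] {p : ℕ} [Fact p.Prime] [CharP L p]
    (f g : Matrix.SpecialLinearGroup (Fin 2) L →* Matrix.SpecialLinearGroup (Fin 2) L)
    (h : ∀ s, ∃ z ∈ Subgroup.center (Matrix.SpecialLinearGroup (Fin 2) L), f s = z * g s) : f = g := by
  refine MonoidHom.ext fun s => ?_
  have hle : f.eqLocus g = ⊤ := LinearGroup.eq_top_of_transvection_mem fun i j hij c => by
    set t := Matrix.SpecialLinearGroup.transvection hij c
    obtain ⟨z, hz, hft⟩ := h t
    show f t = g t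
    have htp : t ^ p = 1 := by
      have key : ∀ k : ℕ, t ^ k = Matrix.SpecialLinearGroup.transvection hij ((k : L) * c) := by
        intro k
        induction k with
        | zero => simp
        | succ k ih =>
          rw [pow_succ, ih, show t = Matrix.SpecialLinearGroup.transvection hij c from rfl,
            ← Matrix.SpecialLinearGroup.transvection_add, Nat.cast_succ, add_mul, one_mul]
      rw [key, CharP.cast_eq_zero, zero_mul]
      exact Subtype.ext (Matrix.transvection_zero _ _)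
    have hzp : z ^ p = 1 := by
      have e := congrArg (fun x => x ^ p) hft
      simp only [Commute.mul_pow ((Subgroup.mem_center_iff.1 hz (g t)).symm : Commute z (g t))] at e
      rwa [← map_pow, ← map_pow, htp, map_one, map_one, mul_one, eq_comm] at e
    obtain ⟨r, -, hr⟩ := Matrix.SpecialLinearGroup.mem_center_iff.1 hz
    have h00 : ((z ^ p : Matrix.SpecialLinearGroup (Fin 2) L) : Matrix (Fin 2) (Fin 2) L) 0 0 = 1 := by rw [hzp]; simp
    rw [Matrix.SpecialLinearGroup.coe_pow, ← hr, Matrix.scalar_apply, Matrix.diagonal_pow] at h00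
    simp at h00
    have hr1 : r = 1 := frobenius_inj L p (by simpa [frobenius_def] using h00)
    have hz1 : z = 1 := Subtype.ext (by rw [← hr, hr1, map_one]; rfl)
    rw [hft, hz1, one_mul]
  exact (hle ▸ Subgroup.mem_top s : s ∈ f.eqLocus g)

/-- Field automorphisms of a finite field are powers of Frobenius. -/
theorem exists_pow_eq {K : Type*} [Field K] [Fintype K] {p : ℕ} [Fact p.Prime] [CharP K p] (σ : K ≃+* K) :
    ∃ k : ℕ, ∀ x, σ x = x ^ p ^ k := by
  letI : Algebra (ZMod p) K := ZMod.algebra K p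
  let a : K ≃ₐ[ZMod p] K := AlgEquiv.ofRingEquiv (f := σ)
    (fun x => RingHom.congr_fun (RingHom.ext_zmod (σ.toRingHom.comp (algebraMap (ZMod p) K)) (algebraMap (ZMod p) K)) x)
  obtain ⟨k, hk⟩ := (FiniteField.bijective_frobeniusAlgEquivOfAlgebraic_pow (ZMod p) K).surjective a
  refine ⟨k.1, fun x => ?_⟩
  rw [show σ x = a x from rfl, ← hk]
  have : ∀ j : ℕ, (FiniteField.frobeniusAlgEquivOfAlgebraic (ZMod p) K ^ j) x = x ^ p ^ j := by
    intro j
    induction j with
    | zero => simp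
    | succ j ih =>
      rw [pow_succ', AlgEquiv.mul_apply, ih, FiniteField.coe_frobeniusAlgEquivOfAlgebraic]
      simp only [ZMod.card]
      rw [← pow_mul, ← pow_succ]
  exact this k.1

variable {F : Type*} [Field F] [Fintype F] {q : ℕ} (hF : Fintype.card F = q ^ 2)

/-- The matrix of an element. -/
abbrev mat {n : ℕ} (g : SU n F q) : Matrix (Fin n) (Fin n) F := g.1.1

include hF

/-- The shape of an element of `SU₂`. -/
theorem su2_shape (X : SU 2 F q) :
    mat X 1 1 = mat X 0 0 ^ q ∧ mat X 1 0 = -(mat X 0 1) ^ q ∧ mat X 0 0 ^ (q + 1) + mat X 0 1 ^ (q + 1) = 1 := by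
  have hd : mat X 0 0 * mat X 1 1 - mat X 0 1 * mat X 1 0 = 1 := by rw [← Matrix.det_fin_two]; exact X.1.2
  have e : ∀ i j, (X • (eI j : Fin 2 → F)) i = mat X i j := fun i j => by
    show (mat X *ᵥ Pi.single j 1) i = _
    rw [Matrix.mulVec_single_one]; rfl
  have h : ∀ i j, mat X 0 i * mat X 0 j ^ q + mat X 1 i * mat X 1 j ^ q = if i = j then 1 else 0 := fun i j => by
    rw [← herm_eI_eI hF i j, ← herm_smul_SU X, herm, hermForm, Fin.sum_univ_two, e, e, e, e]
  have h00 := h 0 0; have h01 := h 0 1; have h10 := h 1 0; have h11 := h 1 1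
  simp at h00 h01 h10 h11
  have e1 : mat X 1 1 = mat X 0 0 ^ q := by
    linear_combination -mat X 1 1 * h00 + mat X 0 0 ^ q * hd + mat X 1 0 * h10
  have e2 : mat X 1 0 = -(mat X 0 1) ^ q := by
    linear_combination -mat X 1 0 * h11 - mat X 0 1 ^ q * hd + mat X 1 1 * h01
  refine ⟨e1, by rw [e2], ?_⟩
  rw [e1, e2] at hd
  rw [pow_succ, pow_succ]
  linear_combination hd

/-- Two elements of `SU₂` with the same first row are equal. -/
theorem su2_ext {X Y : SU 2 F q} (h0 : mat X 0 0 = mat Y 0 0) (h1 : mat X 0 1 = mat Y 0 1) : X = Y := by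
  refine Subtype.ext (Subtype.ext ?_)
  ext i j
  obtain ⟨a, b, -⟩ := su2_shape hF X
  obtain ⟨a', b', -⟩ := su2_shape hF Y
  fin_cases i <;> fin_cases j
  · exact h0
  · exact h1
  · show mat X 1 0 = mat Y 1 0
    rw [b, b', h1]
  · show mat X 1 1 = mat Y 1 1
    rw [a, a', h0]

/-- The automorphism is semilinear. -/
theorem exists_semilinear (α : MulAut (SU 2 F q)) :
    ∃ (τ : F ≃+* F) (M : Matrix (Fin 2) (Fin 2) F), M.det ≠ 0 ∧
      ∀ X : SU 2 F q, mat (α X) * M = M * (mat X).map τ := by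
  classical
  let L := (conjHom hF).eqLocusField (RingHom.id F)
  haveI : Fintype L := Fintype.ofFinite L
  have hK : Fintype.card L = q := by
    rw [← Nat.card_eq_fintype_card (α := L)]
    exact (Nat.card_congr (Equiv.subtypeEquivRight fun x => Iff.rfl)).trans (card_fixed hF)
  let ι : L →+* F := L.subtype
  have hι : ∀ a, ι a ^ q = ι a := fun a => a.2
  obtain ⟨u, v, -, -, hu, hv, huv⟩ := exists_std_pair hF (i := (0 : Fin 2)) (j := 1) (by decide)
  obtain ⟨θ, hθ0, hθ⟩ := exists_trace_zero_ne_zero hF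
  have hθ' : θ ^ q = -θ := eq_neg_of_add_eq_zero_right hθ
  set v' := (-θ) • v with hv'
  set P : Matrix (Fin 2) (Fin 2) F := Matrix.of fun k => ![u k, v' k] with hP
  have hPmul : ∀ z : Fin 2 → F, P *ᵥ z = z 0 • u + z 1 • v' := fun z => by
    funext k
    simp [hP, Matrix.mulVec, dotProduct, Fin.sum_univ_two, mul_comm]
  have hform : ∀ z w : Fin 2 → F, herm q (P *ᵥ z) (P *ᵥ w) = θ * (z 0 * w 1 ^ q - z 1 * w 0 ^ q) := by
    intro z w
    simp only [hPmul, hv', herm_add_left, herm_add_right hF, herm_smul_left, herm_smul_right hF, hu, hv, huv,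
      herm_one_swap hF huv, neg_pow_q hF, hθ']
    ring
  have hPu : IsUnit P := by
    refine Matrix.mulVec_injective_iff_isUnit.1 fun z w hzw => ?_
    have h1 := congrArg (fun y => herm q y v) hzw
    have h2 := congrArg (fun y => herm q y u) hzw
    simp only [hPmul, hv', herm_add_left, herm_smul_left, hu, hv, huv, herm_one_swap hF huv,
      mul_zero, mul_one, add_zero, zero_add] at h1 h2
    funext k
    fin_cases k
    · exact h1
    · exact mul_right_cancel₀ (neg_ne_zero.2 hθ0) h2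
  have hPd : IsUnit P.det := (Matrix.isUnit_iff_isUnit_det P).1 hPu
  let f : Matrix.SpecialLinearGroup (Fin 2) L →* Matrix.SpecialLinearGroup (Fin 2) F :=
    { toFun := fun M => ⟨P * (M.1.map ι) * P⁻¹, by
        rw [Matrix.det_conj hPu, ← RingHom.mapMatrix_apply, ← RingHom.map_det, M.2, map_one]⟩
      map_one' := Subtype.ext (by simp [Matrix.mul_nonsing_inv _ hPd])
      map_mul' := fun M N => Subtype.ext (by
        show P * (M.1 * N.1).map ι * P⁻¹ = P * M.1.map ι * P⁻¹ * (P * N.1.map ι * P⁻¹)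
        rw [Matrix.map_mul]
        simp [Matrix.mul_assoc, Matrix.nonsing_inv_mul_cancel_left _ _ hPd]) }
  have hmem : ∀ M, f M ∈ Cfsg.SU 2 F q := by
    intro M x y
    show herm q ((P * (M.1.map ι) * P⁻¹) *ᵥ x) ((P * (M.1.map ι) * P⁻¹) *ᵥ y) = herm q x y
    have hd := congrArg ι M.2
    rw [Matrix.det_fin_two, map_sub, map_mul, map_mul, map_one] at hd
    conv_rhs => rw [← Matrix.one_mulVec x, ← Matrix.one_mulVec y, ← Matrix.mul_nonsing_inv P hPd,
      ← Matrix.mulVec_mulVec, ← Matrix.mulVec_mulVec, hform]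
    rw [← Matrix.mulVec_mulVec, ← Matrix.mulVec_mulVec, ← Matrix.mulVec_mulVec, ← Matrix.mulVec_mulVec, hform]
    simp only [Matrix.mulVec, dotProduct, Fin.sum_univ_two, Matrix.map_apply, add_pow_q hF, mul_pow, hι]
    linear_combination (θ * (((P⁻¹) 0 0 * x 0 + (P⁻¹) 0 1 * x 1) *
        (((P⁻¹) 1 0) ^ q * y 0 ^ q + ((P⁻¹) 1 1) ^ q * y 1 ^ q) -
      ((P⁻¹) 1 0 * x 0 + (P⁻¹) 1 1 * x 1) *
        (((P⁻¹) 0 0) ^ q * y 0 ^ q + ((P⁻¹) 0 1) ^ q * y 1 ^ q))) * hd
  let e0 := f.codRestrict (Cfsg.SU 2 F q) hmem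
  have hinj : Function.Injective e0 := by
    intro M N h
    have h' : P⁻¹ * (P * M.1.map ι * P⁻¹) * P = P⁻¹ * (P * N.1.map ι * P⁻¹) * P :=
      congrArg (fun z : Cfsg.SU 2 F q => P⁻¹ * z.1.1 * P) h
    refine Subtype.ext (Matrix.map_injective ι.injective ?_)
    simpa [Matrix.mul_assoc, Matrix.nonsing_inv_mul _ hPd, Matrix.nonsing_inv_mul_cancel_left _ _ hPd] using h'
  have hcard : Nat.card (Cfsg.SU 2 F q) = Nat.card (Matrix.SpecialLinearGroup (Fin 2) L) := by
    rw [LinearGroup.card_SL_two, Nat.card_eq_fintype_card (α := L), hK]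
    have h := (card_SU_mul hF (n := 2) (by omega)).trans (card_GU hF 2)
    simp [Finset.prod_range_succ, -Nat.card_eq_fintype_card] at h
    exact Nat.eq_of_mul_eq_mul_left (by omega : 0 < q + 1) (h.trans (by ring))
  let e := MulEquiv.ofBijective e0 (hinj.bijective_of_nat_card_le hcard.le)
  have he : ∀ s, mat (e s) = P * s.1.map ι * P⁻¹ := fun s => rfl
  -- the automorphism on `SL₂(q)`
  let a' : MulAut (Matrix.SpecialLinearGroup (Fin 2) L) := (e.trans α).trans e.symm
  let abar : MulAut (Matrix.ProjectiveSpecialLinearGroup (Fin 2) L) :=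
    QuotientGroup.congr _ _ a' (AutPSL.center_map_equiv a')
  obtain ⟨g, σ, β, hβ, hor⟩ := AutPSL.exists_semi le_rfl abar
  obtain rfl : abar = β := hor.elim id fun h => absurd h.1 (by norm_num)
  have hnorm := fun s => AutPSL.normalises_psl g σ s
  choose γ hγ using hnorm
  let γh : Matrix.SpecialLinearGroup (Fin 2) L →* Matrix.SpecialLinearGroup (Fin 2) L :=
    MonoidHom.mk' γ fun s t => AutPSL.rho_injective (by rw [map_mul, hγ, hγ, hγ, map_mul, map_mul])
  obtain ⟨p, f', hp, -, hchar, -⟩ := exists_prime_pow hF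
  haveI : Fact p.Prime := ⟨hp⟩
  haveI : CharP L p := (ι.charP_iff ι.injective p).2 hchar
  have hagree : a'.toMonoidHom = γh :=
    eq_of_mod_center (p := p) _ _ fun s => by
      have h1 : (QuotientGroup.mk (a' s) : Matrix.ProjectiveSpecialLinearGroup (Fin 2) L) = QuotientGroup.mk (γ s) :=
        hβ s (γ s) (hγ s)
      refine ⟨a' s * (γ s)⁻¹, ?_, by simp [γh]⟩
      have h2 : (γ s)⁻¹ * a' s ∈ Subgroup.center _ := QuotientGroup.eq.1 h1.symm
      have := (Subgroup.center _ : Subgroup (Matrix.SpecialLinearGroup (Fin 2) L))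
      rw [show a' s * (γ s)⁻¹ = γ s * ((γ s)⁻¹ * a' s) * (γ s)⁻¹ by group,
        Subgroup.mem_center_iff.1 h2 (γ s), mul_inv_cancel_right]
      exact h2
  obtain ⟨k, hk⟩ := exists_pow_eq (p := p) σ
  let τ : F ≃+* F := RingEquiv.ofBijective (iterateFrobenius F p k)
    ((Finite.injective_iff_bijective).1 (iterateFrobenius F p k).injective)
  have hτ : ∀ a, τ (ι a) = ι (σ a) := fun a => by
    rw [hk, map_pow]; exact iterateFrobenius_def p k (ι a)
  set G : Matrix (Fin 2) (Fin 2) F := ((g : GL (Fin 2) L) : Matrix (Fin 2) (Fin 2) L).map ι with hG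
  set Q : Matrix (Fin 2) (Fin 2) F := (P⁻¹).map τ with hQ
  have hQP : Q * P.map τ = 1 := by
    rw [hQ, ← Matrix.map_mul, Matrix.nonsing_inv_mul _ hPd, Matrix.map_one _ (map_zero τ) (map_one τ)]
  refine ⟨τ, P * G * Q, ?_, fun X => ?_⟩
  · rw [Matrix.det_mul, Matrix.det_mul]
    refine mul_ne_zero (mul_ne_zero hPd.ne_zero ?_) fun h0 => ?_
    · rw [hG, ← RingHom.mapMatrix_apply, ← RingHom.map_det]
      exact (map_ne_zero ι).2 (g.det_ne_zero)
    · have := congrArg Matrix.det hQP
      rw [Matrix.det_mul, h0, zero_mul, Matrix.det_one] at this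
      exact zero_ne_one this
  obtain ⟨s, rfl⟩ := e.surjective X
  have hα : α (e s) = e (a' s) := (e.apply_symm_apply _).symm
  have hγs : a' s = γ s := DFunLike.congr_fun hagree s
  have hmat : (γ s).1 * ((g : GL (Fin 2) L) : Matrix (Fin 2) (Fin 2) L) =
      ((g : GL (Fin 2) L) : Matrix (Fin 2) (Fin 2) L) * s.1.map σ := by
    have h := congrArg (Units.val (α := Matrix (Fin 2) (Fin 2) L)) (hγ s)
    rw [AutPSL.act_coe, AutPSL.rho_coe, AutPSL.rho_coe] at h
    rw [h, Matrix.mul_assoc, ← Units.val_mul, inv_mul_cancel, Units.val_one, Matrix.mul_one]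
  have hmat' : (γ s).1.map ι * G = G * (s.1.map ι).map τ := by
    rw [hG, ← Matrix.map_mul, hmat, Matrix.map_mul, Matrix.map_map, Matrix.map_map]
    congr 1
    ext i j
    exact (hτ _).symm
  rw [hα, hγs, he, he, Matrix.map_mul, Matrix.map_mul]
  calc P * (γ s).1.map ι * P⁻¹ * (P * G * Q) = P * ((γ s).1.map ι * G) * Q := by
        simp [Matrix.mul_assoc, Matrix.nonsing_inv_mul_cancel_left _ _ hPd]
    _ = P * (G * (s.1.map ι).map τ) * Q := by rw [hmat']
    _ = P * G * (Q * P.map τ) * ((s.1.map ι).map τ * Q) := by rw [hQP, Matrix.mul_one]; simp [Matrix.mul_assoc]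
    _ = _ := by rw [hQ]; simp [Matrix.mul_assoc]

/-- An automorphism preserving the diagonal torus is a twist. -/
theorem exists_twist (α : MulAut (SU 2 F q))
    (hdiag : ∀ X : SU 2 F q, mat X 0 1 = 0 → mat (α X) 0 1 = 0) :
    ∃ (τ : F ≃+* F) (r : F) (hd : ∀ i, (![r, 1] : Fin 2 → F) i ^ (q + 1) = 1),
      ∀ X, α X = twist τ ![r, 1] hd X := by
  classical
  obtain ⟨τ, M, hM, hα⟩ := exists_semilinear hF α
  have key : ∀ (τ : F ≃+* F) (r : F),
      (∀ X, mat (α X) 0 0 = τ (mat X 0 0) ∧ mat (α X) 0 1 = r * τ (mat X 0 1)) →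
      ∃ (τ : F ≃+* F) (r : F) (hd : ∀ i, (![r, 1] : Fin 2 → F) i ^ (q + 1) = 1),
        ∀ X, α X = twist τ ![r, 1] hd X := by
    intro τ r h
    have hw : mat (mk2 (0 : F) 1 (q := q) (by simp) hF) 0 0 = 0 ∧ mat (mk2 (0 : F) 1 (q := q) (by simp) hF) 0 1 = 1 :=
      ⟨rfl, rfl⟩
    have hr : r ^ (q + 1) = 1 := by
      obtain ⟨h1, h2⟩ := h (mk2 (0 : F) 1 (by simp) hF)
      rw [hw.1, map_zero] at h1
      rw [hw.2, map_one, mul_one] at h2
      have := (su2_shape hF (α (mk2 (0 : F) 1 (by simp) hF))).2.2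
      rwa [h1, h2, zero_pow (by omega), zero_add] at this
    refine ⟨τ, r, fun i => by fin_cases i <;> simp [hr], fun X => su2_ext hF ?_ ?_⟩
    · rw [(h X).1]
      show _ = tmat τ ![r, 1] (mat X) 0 0
      have : r ≠ 0 := ne_zero_of_norm hr
      simp [tmat, Matrix.mul_apply, Matrix.diagonal, Fin.sum_univ_two]
      field_simp
    · rw [(h X).2]
      show _ = tmat τ ![r, 1] (mat X) 0 1
      simp [tmat, Matrix.mul_apply, Matrix.diagonal, Fin.sum_univ_two]
  obtain ⟨l, hl, hl'⟩ := exists_norm_avoid hF ({1, -1} : Finset F) (le_trans Finset.card_le_two (two_le_q hF))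
  simp only [Finset.mem_insert, Finset.mem_singleton, not_or] at hl'
  set D : SU 2 F q := mk2 l 0 (by rw [hl, zero_pow (by omega), add_zero]) hF with hD
  have hD00 : mat D 0 0 = l := rfl
  have hD01 : mat D 0 1 = 0 := rfl
  have hD10 : mat D 1 0 = 0 := by rw [(su2_shape hF D).2.1, hD01, zero_pow_q hF, neg_zero]
  have hD11 : mat D 1 1 = l ^ q := by rw [(su2_shape hF D).1, hD00]
  have hA01 := hdiag D hD01
  have hA10 : mat (α D) 1 0 = 0 := by rw [(su2_shape hF (α D)).2.1, hA01, zero_pow_q hF, neg_zero]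
  have hdist : τ l ≠ τ (l ^ q) := fun e => by
    have := τ.injective e
    rcases sq_eq_one_iff.1 (show l ^ 2 = 1 by
      rw [pow_two]; calc l * l = l ^ q * l := by rw [← this]
        _ = 1 := by rw [← pow_succ, hl]) with h | h
    exacts [hl'.1 h, hl'.2 h]
  have hent : ∀ i j, mat (α D) i i * M i j = M i j * τ (mat D j j) := by
    intro i j
    have := congrFun (congrFun (hα D) i) j
    simp only [Matrix.mul_apply, Fin.sum_univ_two, Matrix.map_apply] at this
    fin_cases i <;> fin_cases j <;> simpa [hA01, hA10, hD01, hD10] using this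
  have hone : ∀ i, M i 0 = 0 ∨ M i 1 = 0 := fun i => by
    by_contra hc
    push Not at hc
    have h0 := hent i 0; have h1 := hent i 1
    rw [mul_comm (M i 0)] at h0
    rw [mul_comm (M i 1)] at h1
    exact hdist ((hD00 ▸ (mul_right_cancel₀ hc.1 h0).symm).trans (hD11 ▸ mul_right_cancel₀ hc.2 h1))
  rw [Matrix.det_fin_two] at hM
  have hgen : ∀ (X : SU 2 F q) i j, mat (α X) i 0 * M 0 j + mat (α X) i 1 * M 1 j =
      M i 0 * τ (mat X 0 j) + M i 1 * τ (mat X 1 j) := fun X i j => by
    have := congrFun (congrFun (hα X) i) j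
    simpa [Matrix.mul_apply, Fin.sum_univ_two, Matrix.map_apply] using this
  rcases hone 0 with h00 | h01
  · -- antidiagonal
    have h11 : M 1 1 = 0 := (hone 1).resolve_left fun e => hM (by rw [h00, e]; ring)
    have h10 : M 1 0 ≠ 0 := fun e => hM (by rw [h00, e]; ring)
    have h01 : M 0 1 ≠ 0 := fun e => hM (by rw [h00, e]; ring)
    refine key (τ.trans (RingEquiv.ofBijective (conjHom hF)
      ((Finite.injective_iff_bijective).1 (conjHom hF).injective))) (-(M 0 1) / M 1 0) fun X => ?_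
    obtain ⟨e11, e10, -⟩ := su2_shape hF X
    have g0 := hgen X 0 0; have g1 := hgen X 0 1
    rw [h00, h11] at g1
    rw [h00] at g0
    simp only [zero_mul, mul_zero, add_zero, zero_add] at g0 g1
    rw [e10, map_neg, map_pow] at g0
    rw [e11, map_pow] at g1
    refine ⟨?_, ?_⟩
    · show mat (α X) 0 0 = conjHom hF (τ _)
      rw [conjHom_apply]
      exact mul_right_cancel₀ h01 (g1.trans (mul_comm _ _))
    · show mat (α X) 0 1 = _ * conjHom hF (τ _)
      rw [conjHom_apply]
      field_simp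
      linear_combination g0
  · -- diagonal
    have h10 : M 1 0 = 0 := (hone 1).resolve_right fun e => hM (by rw [h01, e]; ring)
    have h00 : M 0 0 ≠ 0 := fun e => hM (by rw [h01, e]; ring)
    have h11 : M 1 1 ≠ 0 := fun e => hM (by rw [h01, e]; ring)
    refine key τ (M 0 0 / M 1 1) fun X => ?_
    have g0 := hgen X 0 0; have g1 := hgen X 0 1
    rw [h01, h10] at g0
    rw [h01] at g1
    simp only [zero_mul, mul_zero, add_zero, zero_add] at g0 g1
    refine ⟨mul_right_cancel₀ h00 (g0.trans (mul_comm _ _)), ?_⟩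
    field_simp
    linear_combination g1

end Cfsg.Agent.KSG55.Phan
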