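import Cfsg.Agent.KSG55.Phan.AutTwo
import Cfsg.Agent.Lib.Unitary.Center
import Cfsg.Prelude.Def_PhanSystems

/-!
From a weak Phan system to a coherent system of homomorphisms.
-/

set_option autoImplicit false
set_option linter.unusedSectionVars false

namespace Cfsg.Agent.KSG55.Phan

open Cfsg.Agent.Unitary Matrix

variable {F : Type*} [Field F] [Fintype F] {q : ℕ} {G : Type*} [Group G]

/-- A coherent system on the consecutive blocks of `SU_m`. -/
structure Sys (F : Type*) [Field F] [Fintype F] (q m : ℕ) (G : Type*) [Group G] where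
  /-- the blocks of size two -/
  χ : ℕ → SU 2 F q →* G
  /-- the blocks of size three -/
  ψ : ℕ → SU 3 F q →* G
  left : ∀ k, k + 3 ≤ m → (ψ k).comp (bl 3 2 0) = χ k
  right : ∀ k, k + 3 ≤ m → (ψ k).comp (bl 3 2 1) = χ (k + 1)
  comm : ∀ i j, i + 2 ≤ j → j + 2 ≤ m → ∀ A B, Commute (χ i A) (χ j B)

/-- A homomorphism of `SU₃` realising a standard pair. -/
structure Good (ψ : SU 3 F q →* G) (A B V : Subgroup G) : Prop where
  inj0 : Function.Injective (ψ.comp (bl 3 2 0 : SU 2 F q →* SU 3 F q))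
  inj1 : Function.Injective (ψ.comp (bl 3 2 1 : SU 2 F q →* SU 3 F q))
  r0 : (ψ.comp (bl 3 2 0 : SU 2 F q →* SU 3 F q)).range = A
  r1 : (ψ.comp (bl 3 2 1 : SU 2 F q →* SU 3 F q)).range = B
  rV : ψ.range = V
  kerC : ψ.ker ≤ Subgroup.center (SU 3 F q)

variable (hF : Fintype.card F = q ^ 2)

include hF

theorem suBlock_eq {k : ℕ} (hk : k + 2 ≤ 3) {s : Set (Fin 3)}
    (hs : ∀ j : Fin 3, j ∉ s ↔ (j : ℕ) < k ∨ k + 2 ≤ (j : ℕ)) :
    suBlock 3 F q s = (bl 3 2 k : SU 2 F q →* SU 3 F q).range := by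
  have e : ∀ (g : SU 3 F q) i j, (g • (eI j : Fin 3 → F)) i = (g.1 : Matrix (Fin 3) (Fin 3) F) i j := fun g i j => by
    show ((g.1 : Matrix (Fin 3) (Fin 3) F) *ᵥ Pi.single j 1) i = _
    rw [Matrix.mulVec_single_one]; rfl
  refine le_antisymm ((Subgroup.closure_le _).2 fun g hg => ?_) ?_
  · refine exists_bl hF hk fun j hj => funext fun i => ?_
    obtain ⟨h1, h2⟩ := hg j ((hs j).2 hj)
    rw [e]
    by_cases hij : i = j
    · subst hij; simp [eI, h1]
    · simp [eI, hij, (h2 i hij).2]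
  · rintro _ ⟨A, rfl⟩
    refine Subgroup.subset_closure fun j hj => ?_
    have hj' := (hs j).1 hj
    have hcol := bl_fix hF hk A hj'
    refine ⟨by rw [← e, hcol]; simp [eI], fun l hl => ⟨?_, by rw [← e, hcol]; simp [eI, hl]⟩⟩
    rw [← e, bl_eq hk, emap_off _ _ _ fun i h => by
      have := congrArg Fin.val h; simp [shift_val] at this; omega]
    simp [eI, Ne.symm hl]

theorem eq_one_of_bl_center {k : ℕ} (hk : k + 2 ≤ 3) {A : SU 2 F q}
    (h : (bl 3 2 k A : SU 3 F q) ∈ Subgroup.center (SU 3 F q)) : A = 1 := by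
  obtain ⟨r, hr⟩ := (mem_center_iff hF (by norm_num)).1 h
  obtain ⟨j, hj⟩ : ∃ j : Fin 3, (j : ℕ) < k ∨ k + 2 ≤ (j : ℕ) := by
    rcases Nat.eq_zero_or_pos k with rfl | h'
    · exact ⟨2, Or.inr le_rfl⟩
    · exact ⟨0, Or.inl h'⟩
  have h1 : r = 1 := by
    have := congrFun ((hr (eI j)).symm.trans (bl_fix hF hk A hj)) j
    simpa [eI] using this
  refine bl_injective hk ?_
  rw [map_one]
  exact eq_of_smul_eq_SU fun v => by rw [hr, h1, one_smul, one_smul]

/-- A standard pair gives a homomorphism of `SU₃`. -/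
theorem exists_good {V A B : Subgroup G} (h : Cfsg.IsStandardUnitaryPair V A B F q) :
    ∃ ψ : SU 3 F q →* G, Good ψ A B V := by
  have hb0 := suBlock_eq hF (k := 0) (by norm_num) (s := ({0, 1} : Set (Fin 3)))
    (fun j => by fin_cases j <;> simp)
  have hb1 := suBlock_eq hF (k := 1) (by norm_num) (s := ({1, 2} : Set (Fin 3)))
    (fun j => by fin_cases j <;> simp)
  have key : ∀ π : SU 3 F q →* V, Function.Surjective π → π.ker ≤ Subgroup.center _ →
      (suBlock 3 F q {0, 1}).map (V.subtype.comp π) = A → (suBlock 3 F q {1, 2}).map (V.subtype.comp π) = B →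
      ∃ ψ : SU 3 F q →* G, Good ψ A B V := by
    intro π hsurj hker h0 h1
    have hinj : ∀ k, k + 2 ≤ 3 →
        Function.Injective ((V.subtype.comp π).comp (bl 3 2 k : SU 2 F q →* SU 3 F q)) := fun k hk =>
      (injective_iff_map_eq_one _).2 fun X hX =>
        eq_one_of_bl_center hF hk (hker (Subtype.ext hX : π (bl 3 2 k X) = 1))
    refine ⟨_, hinj 0 (by norm_num), hinj 1 (by norm_num), ?_, ?_, ?_, fun x hx => hker (Subtype.ext hx : π x = 1)⟩
    · rw [MonoidHom.range_comp, ← hb0, h0]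
    · rw [MonoidHom.range_comp, ← hb1, h1]
    · rw [MonoidHom.range_comp, MonoidHom.range_eq_top.2 hsurj, ← MonoidHom.range_eq_map, Subgroup.range_subtype]
  rcases h with ⟨ψ, h0, h1⟩ | ⟨ψ, h0, h1⟩
  · exact key ψ.toMonoidHom ψ.surjective
      (by rw [(MonoidHom.ker_eq_bot_iff _).2 ψ.injective]; exact bot_le) h0 h1
  · refine key (ψ.toMonoidHom.comp (QuotientGroup.mk' _)) (ψ.surjective.comp (QuotientGroup.mk'_surjective _))
      (fun x hx => ?_) h0 h1
    have : (QuotientGroup.mk' (Subgroup.center (SU 3 F q))) x = 1 := ψ.injective (hx.trans (map_one ψ).symm)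
    exact (QuotientGroup.eq_one_iff _).1 this

/-- Diagonal elements of `SU₂` commute. -/
theorem diag_commute {X Y : SU 2 F q} (hX : mat X 0 1 = 0) (hY : mat Y 0 1 = 0) : Commute X Y := by
  obtain ⟨-, hX', -⟩ := su2_shape hF X
  obtain ⟨-, hY', -⟩ := su2_shape hF Y
  rw [hX, zero_pow_q hF, neg_zero] at hX'
  rw [hY, zero_pow_q hF, neg_zero] at hY'
  refine su2_ext hF ?_ ?_
  · show (mat X * mat Y) 0 0 = (mat Y * mat X) 0 0
    simp [Matrix.mul_apply, Fin.sum_univ_two, hX, hY, mul_comm]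
  · show (mat X * mat Y) 0 1 = (mat Y * mat X) 0 1
    simp [Matrix.mul_apply, Fin.sum_univ_two, hX, hY]

omit hF in
/-- Entries of a diagonal twist. -/
theorem twist_refl_apply {a : ℕ} (d : Fin a → F) (hd : ∀ i, d i ^ (q + 1) = 1) (X : SU a F q) (i j : Fin a) :
    mat (twist (RingEquiv.refl F) d hd X) i j = d i * mat X i j * (d j)⁻¹ := by
  show tmat (RingEquiv.refl F) d (mat X) i j = _
  rw [tmat, Matrix.mul_assoc, Matrix.diagonal_mul, Matrix.mul_diagonal, Matrix.map_apply, mul_assoc]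
  rfl

/-- Adjusting the next homomorphism. -/
theorem exists_next {ψ φ : SU 3 F q →* G} {A B C V W : Subgroup G} (hψ : Good ψ A B V)
    (hφ : Good φ B C W) (hcomm : ∀ x ∈ A, ∀ y ∈ C, x * y = y * x) :
    ∃ ψ' : SU 3 F q →* G, Good ψ' B C W ∧ ψ'.comp (bl 3 2 0) = ψ.comp (bl 3 2 1) := by
  classical
  let ea : SU 2 F q ≃* B := (MonoidHom.ofInjective hψ.inj1).trans (MulEquiv.subgroupCongr hψ.r1)
  let eb : SU 2 F q ≃* B := (MonoidHom.ofInjective hφ.inj0).trans (MulEquiv.subgroupCongr hφ.r0)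
  let α : MulAut (SU 2 F q) := ea.trans eb.symm
  have hα : ∀ X, φ (bl 3 2 0 (α X)) = ψ (bl 3 2 1 X) := fun X =>
    congrArg Subtype.val (eb.apply_symm_apply (ea X))
  obtain ⟨l, hl, hl'⟩ := exists_norm_avoid hF ({1, -1} : Finset F) (le_trans Finset.card_le_two (two_le_q hF))
  simp only [Finset.mem_insert, Finset.mem_singleton, not_or] at hl'
  have hl0 := ne_zero_of_norm hl
  have hli : l⁻¹ ^ (q + 1) = 1 := by rw [inv_pow, hl, inv_one]
  set D : SU 3 F q := dg (![l, l⁻¹, 1] : Fin 3 → F) (fun i => by fin_cases i <;> simp [hl, hli])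
    (by simp [Fin.prod_univ_three, hl0]) with hD
  set D' : SU 3 F q := dg (![1, l, l⁻¹] : Fin 3 → F) (fun i => by fin_cases i <;> simp [hl, hli])
    (by simp [Fin.prod_univ_three, hl0]) with hD'
  obtain ⟨A0, hA0⟩ := exists_bl hF (k := 0) (a := 2) (b := 3) (by norm_num) (g := D) fun j hj => by
    obtain rfl : j = 2 := by omega
    rw [hD, dg_smul_eI]; simp
  obtain ⟨C0, hC0⟩ := exists_bl hF (k := 1) (a := 2) (b := 3) (by norm_num) (g := D') fun j hj => by
    obtain rfl : j = 0 := by omega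
    rw [hD', dg_smul_eI]; simp
  have hdt : ψ D * φ D' = φ D' * ψ D :=
    hcomm _ (hψ.r0 ▸ ⟨A0, by rw [MonoidHom.comp_apply, hA0]⟩) _ (hφ.r1 ▸ ⟨C0, by rw [MonoidHom.comp_apply, hC0]⟩)
  set e1 : Fin 2 → F := ![l⁻¹, 1] with he1'
  set e2 : Fin 2 → F := ![1, l] with he2'
  have he1 : ∀ i, e1 i ^ (q + 1) = 1 := fun i => by fin_cases i <;> simp [he1', hli]
  have he2 : ∀ i, e2 i ^ (q + 1) = 1 := fun i => by fin_cases i <;> simp [he2', hl]
  have hd : ∀ X, ψ D * ψ (bl 3 2 1 X) = ψ (bl 3 2 1 (twist (RingEquiv.refl F) e1 he1 X)) * ψ D := fun X => by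
    rw [← map_mul, ← map_mul, hD, dg_conj, twist_bl (k := 1) (by norm_num) _ _ he1 fun i => by fin_cases i <;> rfl]
  have ht : ∀ Y, φ D' * φ (bl 3 2 0 Y) = φ (bl 3 2 0 (twist (RingEquiv.refl F) e2 he2 Y)) * φ D' := fun Y => by
    rw [← map_mul, ← map_mul, hD', dg_conj, twist_bl (k := 0) (by norm_num) _ _ he2 fun i => by fin_cases i <;> rfl]
  have hdiag : ∀ X : SU 2 F q, mat X 0 1 = 0 → mat (α X) 0 1 = 0 := by
    intro X hX
    set Y := α X with hY
    set Y' := twist (RingEquiv.refl F) e2 he2 Y with hY'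
    obtain ⟨X', hX'⟩ := α.surjective Y'
    have hfix : twist (RingEquiv.refl F) e1 he1 X = X := su2_ext hF
      (by rw [twist_refl_apply]; simp [he1', hl0]; field_simp) (by rw [twist_refl_apply, hX]; simp)
    have h1 : Commute (ψ D) (φ (bl 3 2 0 Y)) := by
      rw [hY, hα]; exact (hd X).trans (by rw [hfix])
    have h2 : φ D' * φ (bl 3 2 0 Y) * (φ D')⁻¹ = φ (bl 3 2 0 Y') := by rw [ht, mul_inv_cancel_right]
    have h3 : Commute (ψ D) (φ (bl 3 2 0 Y')) := by
      rw [← h2]; exact ((show Commute (ψ D) (φ D') from hdt).mul_right h1).mul_right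
        (show Commute (ψ D) (φ D') from hdt).inv_right
    rw [← hX', hα] at h3
    have hX'0 : mat X' 0 1 = 0 := by
      have := hψ.inj1 (mul_right_cancel ((hd X').symm.trans h3.eq) : ψ (bl 3 2 1 _) = ψ (bl 3 2 1 X'))
      have h := congrArg (fun g : SU 2 F q => mat g 0 1) this
      simp only [twist_refl_apply] at h
      simp [he1'] at h
      by_contra hne
      exact hl'.1 (inv_eq_one.1 (mul_right_cancel₀ hne (h.trans (one_mul _).symm)))
    have hc : Commute Y Y' := by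
      rw [← hX', hY]
      exact (diag_commute hF hX hX'0).map α.toMonoidHom
    have h00 := congrArg (fun g : SU 2 F q => mat g 0 0) hc.eq
    change (mat Y * mat Y') 0 0 = (mat Y' * mat Y) 0 0 at h00
    simp only [Matrix.mul_apply, Fin.sum_univ_two, hY', twist_refl_apply] at h00
    simp [he2', hl0] at h00
    obtain ⟨-, hs, -⟩ := su2_shape hF Y
    rw [hs] at h00
    by_contra hne
    field_simp at h00
    rcases sq_eq_one_iff.1 (show l ^ 2 = 1 by linear_combination -h00) with h | h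
    exacts [hl'.1 h, hl'.2 h]
  obtain ⟨τ, r, hr, hτ⟩ := exists_twist hF α hdiag
  have hr0 : r ^ (q + 1) = 1 := hr 0
  have hd3 : ∀ i, (![r, 1, 1] : Fin 3 → F) i ^ (q + 1) = 1 := fun i => by fin_cases i <;> simp [hr0]
  set β := twist τ (![r, 1, 1] : Fin 3 → F) hd3 with hβ
  have hβsurj : Function.Surjective β :=
    (Finite.injective_iff_surjective).1 (twist_injective τ hd3)
  have hone : ∀ i, (![1, 1] : Fin 2 → F) i ^ (q + 1) = 1 := fun i => by fin_cases i <;> simp
  have hb0 : ∀ X, β (bl 3 2 0 X) = bl 3 2 0 (α X) := fun X => by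
    rw [hτ, hβ, twist_bl (k := 0) (by norm_num) _ _ hr fun i => by fin_cases i <;> rfl]
  have hb1 : ∀ X, β (bl 3 2 1 X) = bl 3 2 1 (twist τ ![1, 1] hone X) := fun X => by
    rw [hβ, twist_bl (k := 1) (by norm_num) _ _ hone fun i => by fin_cases i <;> rfl]
  have hs1 : Function.Surjective (twist τ ![1, 1] hone : SU 2 F q → SU 2 F q) :=
    (Finite.injective_iff_surjective).1 (twist_injective τ hone)
  refine ⟨φ.comp β, ⟨?_, ?_, ?_, ?_, ?_, fun x hx => ?_⟩, MonoidHom.ext fun X => ?_⟩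
  · intro X Y h
    simp only [MonoidHom.comp_apply, hb0] at h
    exact α.injective (hφ.inj0 h)
  · intro X Y h
    simp only [MonoidHom.comp_apply, hb1] at h
    exact twist_injective τ hone (hφ.inj1 h)
  · rw [← hφ.r0]
    ext g
    constructor
    · rintro ⟨X, rfl⟩; exact ⟨α X, by simp [hb0]⟩
    · rintro ⟨X, rfl⟩
      obtain ⟨X, rfl⟩ := α.surjective X
      exact ⟨X, by simp [hb0]⟩
  · rw [← hφ.r1]
    ext g
    constructor
    · rintro ⟨X, rfl⟩; exact ⟨twist τ ![1, 1] hone X, by simp [hb1]⟩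
    · rintro ⟨X, rfl⟩
      obtain ⟨X, rfl⟩ := hs1 X
      exact ⟨X, by simp [hb1]⟩
  · rw [MonoidHom.range_comp, MonoidHom.range_eq_top.2 hβsurj, ← MonoidHom.range_eq_map, hφ.rV]
  · refine Subgroup.mem_center_iff.2 fun y => twist_injective τ hd3 ?_
    rw [← hβ, map_mul, map_mul]
    exact Subgroup.mem_center_iff.1 (hφ.kerC hx) (β y)
  · show φ (β (bl 3 2 0 X)) = ψ (bl 3 2 1 X)
    rw [hb0, hα]

/-- The coherent system of a weak Phan system. -/
theorem exists_sys (n : ℕ) (hn : 3 ≤ n) (U : ℕ → Subgroup G) (V : ℕ → Subgroup G)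
    (h1 : ∀ i j, i + 2 ≤ j → j < n → ∀ x ∈ U i, ∀ y ∈ U j, x * y = y * x)
    (h2 : ∀ k, k + 1 < n → Cfsg.IsStandardUnitaryPair (V k) (U k) (U (k + 1)) F q) :
    ∃ S : Sys F q (n + 1) G, (∀ k, k + 1 < n → (S.ψ k).range = V k) ∧ (∀ k, k < n → (S.χ k).range = U k) ∧
      ∀ k, k + 1 < n → (S.ψ k).ker ≤ Subgroup.center (SU 3 F q) := by
  classical
  have hφ : ∀ k, ∃ φ : SU 3 F q →* G, k + 1 < n → Good φ (U k) (U (k + 1)) (V k) := fun k => by
    by_cases h : k + 1 < n
    · obtain ⟨φ, hφ⟩ := exists_good hF (h2 k h); exact ⟨φ, fun _ => hφ⟩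
    · exact ⟨1, fun h' => absurd h' h⟩
  choose φ hφ using hφ
  have hstep : ∀ (k : ℕ) (p : SU 3 F q →* G), ∃ p' : SU 3 F q →* G,
      k + 2 < n → Good p (U k) (U (k + 1)) (V k) →
        Good p' (U (k + 1)) (U (k + 2)) (V (k + 1)) ∧ p'.comp (bl 3 2 0) = p.comp (bl 3 2 1) := fun k p => by
    by_cases h : k + 2 < n ∧ Good p (U k) (U (k + 1)) (V k)
    · obtain ⟨p', hp'⟩ := exists_next hF h.2 (hφ (k + 1) h.1) (h1 k (k + 2) le_rfl h.1)
      exact ⟨p', fun _ _ => hp'⟩
    · exact ⟨1, fun h' h'' => absurd ⟨h', h''⟩ h⟩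
  choose nxt hnxt using hstep
  let ψ : ℕ → (SU 3 F q →* G) := fun k => Nat.rec (φ 0) (fun j p => nxt j p) k
  have hgood : ∀ k, k + 1 < n → Good (ψ k) (U k) (U (k + 1)) (V k) := by
    intro k
    induction k with
    | zero => exact hφ 0
    | succ k ih => exact fun h => (hnxt k (ψ k) h (ih (by omega))).1
  have hagree : ∀ k, k + 2 < n → (ψ (k + 1)).comp (bl 3 2 0) = (ψ k).comp (bl 3 2 1) := fun k h =>
    (hnxt k (ψ k) h (hgood k (by omega))).2
  let χ : ℕ → (SU 2 F q →* G) := fun k => if k + 1 < n then (ψ k).comp (bl 3 2 0) else (ψ (k - 1)).comp (bl 3 2 1)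
  have hχ : ∀ k, k < n → (χ k).range = U k := by
    intro k hk
    by_cases h : k + 1 < n
    · simp only [χ, if_pos h]; exact (hgood k h).r0
    · simp only [χ, if_neg h]
      obtain ⟨j, rfl⟩ : ∃ j, k = j + 1 := ⟨k - 1, by omega⟩
      rw [Nat.add_sub_cancel]
      exact (hgood j (by omega)).r1
  refine ⟨⟨χ, ψ, fun k hk => ?_, fun k hk => ?_, fun i j hij hj A B => ?_⟩, fun k hk => (hgood k hk).rV, hχ, fun k hk => (hgood k hk).kerC⟩
  · simp only [χ, if_pos (show k + 1 < n by omega)]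
  · by_cases h : k + 2 < n
    · simp only [χ, if_pos (show k + 1 + 1 < n by omega)]
      exact (hagree k h).symm
    · simp only [χ, if_neg (show ¬ k + 1 + 1 < n by omega), Nat.add_sub_cancel]
  · exact h1 i j hij (by omega) _ (hχ i (by omega) ▸ ⟨A, rfl⟩) _ (hχ j (by omega) ▸ ⟨B, rfl⟩)

end Cfsg.Agent.KSG55.Phan
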