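import Cfsg.Agent.KSG55.Phan.Gen

/-!
A group mapping onto `SU₄(q)`, `q ≥ 4`, that is injective on the preimage of a line stabiliser and satisfies the
triangle and square relations of the orthogonality graph is isomorphic to `SU₄(q)`.
-/

set_option autoImplicit false
set_option linter.unusedSectionVars false

namespace Cfsg.Agent.KSG55.Phan.Four

open Cfsg.Agent.Unitary Matrix
open Cfsg.Agent.KSG55.SUStep (Orth orth_one orth_two orth_three orth_four exists_fixS_one
  exists_fixS_two exists_norm_one_perp exists_split)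

variable {F : Type*} [Field F] [Fintype F] {q : ℕ} {H : Type*} [Group H]

/-- Two vectors span the same line. -/
def Par (x y : Fin 4 → F) : Prop := ∃ c : F, x = c • y

theorem smul_scalar {n : ℕ} (g : SU n F q) (c : F) (v : Fin n → F) : g • (c • v) = c • (g • v) :=
  Matrix.mulVec_smul _ c v

/-- Adjacency of cosets. -/
def Adj (K : Subgroup H) (s a b : H) : Prop := ∃ x ∈ K, ∃ y ∈ K, a⁻¹ * b = x * s * y

/-- The hypotheses of the covering argument in dimension four. -/
structure Cov4 (φ : H →* SU 4 F q) (K : Subgroup H) (s : H) : Prop where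
  inj : ∀ x ∈ K, φ x = 1 → x = 1
  mem : ∀ x ∈ K, Par (φ x • (eI 0 : Fin 4 → F)) (eI 0)
  lift : ∀ g : SU 4 F q, Par (g • (eI 0 : Fin 4 → F)) (eI 0) → ∃ x ∈ K, φ x = g
  s0 : φ s • (eI 0 : Fin 4 → F) = eI 1
  ss : s * s ∈ K
  stab : ∀ x ∈ K, Par (φ x • (eI 1 : Fin 4 → F)) (eI 1) → s⁻¹ * x * s ∈ K
  tri : ∃ k1 ∈ K, φ k1 • (eI 1 : Fin 4 → F) = eI 2 ∧ ∃ x ∈ K, ∃ y ∈ K, s⁻¹ * k1 * s = x * s * y
  square : ∀ g ∈ (fixS {2, 3} : Subgroup (SU 4 F q)), ∃ z m, φ z • (eI 0 : Fin 4 → F) = g • eI 0 ∧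
    Adj K s 1 m ∧ Adj K s m z ∧ Par (φ m • (eI 0 : Fin 4 → F)) (eI 2) ∧
    ∀ u ∈ K, φ u ∈ (fixS {0, 1} : Subgroup (SU 4 F q)) → z⁻¹ * u * z ∈ K
  gen : Subgroup.closure ((K : Set H) ∪ {s}) = ⊤

variable {φ : H →* SU 4 F q} {K : Subgroup H} {s : H}

variable (φ) in
/-- The point of a group element. -/
def vec (h : H) : Fin (4) → F := φ h • eI 0

theorem vec_mul (a b : H) : vec φ (a * b) = φ a • vec φ b := by rw [vec, map_mul, mul_smul]; rfl

theorem adj_mul_left {g a b : H} : Adj K s (g * a) (g * b) ↔ Adj K s a b := by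
  rw [Adj, Adj, _root_.mul_inv_rev, mul_assoc, inv_mul_cancel_left]

theorem adj_congr_left {a a' b : H} (h : a⁻¹ * a' ∈ K) (hb : Adj K s a b) : Adj K s a' b := by
  obtain ⟨x, hx, y, hy, e⟩ := hb
  exact ⟨(a⁻¹ * a')⁻¹ * x, mul_mem (inv_mem h) hx, y, hy, by rw [mul_assoc _ x s, mul_assoc _ (x * s) y, ← e]; group⟩

theorem adj_congr_right {a b b' : H} (h : b⁻¹ * b' ∈ K) (hb : Adj K s a b) : Adj K s a b' := by
  obtain ⟨x, hx, y, hy, e⟩ := hb
  exact ⟨x, hx, y * (b⁻¹ * b'), mul_mem hy h, by rw [← mul_assoc _ y, ← e]; group⟩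

variable (hc : Cov4 φ K s)

include hc

theorem adj_symm {a b : H} (h : Adj K s a b) : Adj K s b a := by
  obtain ⟨x, hx, y, hy, e⟩ := h
  refine ⟨y⁻¹ * (s * s)⁻¹, mul_mem (inv_mem hy) (inv_mem hc.ss), x⁻¹, inv_mem hx, ?_⟩
  calc b⁻¹ * a = (a⁻¹ * b)⁻¹ := by group
    _ = _ := by rw [e]; group

variable (hF : Fintype.card F = q ^ 2)

include hF

theorem vec_norm (h : H) : herm q (vec φ h) (vec φ h) = 1 := by
  rw [vec, herm_smul_SU, herm_eI_eI hF, if_pos rfl]

theorem par_symm {x y : Fin (4) → F} (hx : herm q x x = 1) (h : Par x y) : Par y x := by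
  obtain ⟨c, rfl⟩ := h
  have : c ≠ 0 := fun e => by simp [e] at hx
  exact ⟨c⁻¹, by rw [smul_smul, inv_mul_cancel₀ this, one_smul]⟩

theorem par_trans {x y z : Fin (4) → F} (h : Par x y) (h' : Par y z) : Par x z := by
  obtain ⟨c, rfl⟩ := h; obtain ⟨d, rfl⟩ := h'; exact ⟨c * d, smul_smul c d z⟩

theorem par_vec_of_mem {a b : H} (h : a⁻¹ * b ∈ K) : Par (vec φ b) (vec φ a) := by
  obtain ⟨c, hc'⟩ := hc.mem _ h
  refine ⟨c, ?_⟩
  rw [show b = a * (a⁻¹ * b) by group, vec_mul, show vec φ (a⁻¹ * b) = c • eI 0 from hc', smul_scalar]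
  rfl

theorem herm_par {x y y' : Fin (4) → F} (h : Par y' y) (h0 : herm q x y = 0) : herm q x y' = 0 := by
  obtain ⟨c, rfl⟩ := h; rw [herm_smul_right hF, h0, mul_zero]

theorem vec_s : vec φ s = eI 1 := hc.s0

theorem vec_right {x y : H} (hy : y ∈ K) : Par (vec φ (x * y)) (vec φ x) :=
  par_vec_of_mem hc hF (by rwa [inv_mul_cancel_left])

theorem vec_xsy {x y : H} (hy : y ∈ K) : Par (vec φ (x * s * y)) (φ x • eI 1) := by
  have := vec_right hc hF (x := x * s) hy
  rwa [vec_mul x s, vec_s hc hF] at this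

theorem adj_orth {a b : H} (h : Adj K s a b) : herm q (vec φ a) (vec φ b) = 0 := by
  obtain ⟨x, hx, y, hy, e⟩ := h
  rw [show a = a * 1 by group, show b = a * (a⁻¹ * b) by group, e, vec_mul, vec_mul, herm_smul_SU]
  refine herm_par hc hF (vec_xsy hc hF hy) ?_
  obtain ⟨c, hc'⟩ := par_symm hc hF (vec_norm hc hF x) (par_vec_of_mem hc hF (a := 1) (b := x) (by simpa using hx))
  rw [hc', herm_smul_left, show (φ x • (eI 1 : Fin (4) → F)) = φ x • eI 1 from rfl, vec, herm_smul_SU,
    herm_eI_eI hF, if_neg (by simp), mul_zero]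

/-- Adjacent cosets with the same point are equal. -/
theorem same_of_par {p a b : H} (ha : Adj K s p a) (hb : Adj K s p b) (h : Par (vec φ b) (vec φ a)) :
    a⁻¹ * b ∈ K := by
  obtain ⟨x1, hx1, y1, hy1, e1⟩ := ha
  obtain ⟨x2, hx2, y2, hy2, e2⟩ := hb
  have hg : Par (φ (x1⁻¹ * x2) • (eI 1 : Fin (4) → F)) (eI 1) := by
    rw [show a = p * (x1 * s * y1) by rw [← e1]; group, show b = p * (x2 * s * y2) by rw [← e2]; group, vec_mul,
      vec_mul p] at h
    obtain ⟨c, h⟩ := h
    rw [← smul_scalar, smul_left_cancel_iff] at h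
    have h2 : Par (φ x2 • eI 1) (φ x1 • (eI 1 : Fin (4) → F)) :=
      par_trans hc hF (par_symm hc hF (vec_norm hc hF _) (vec_xsy hc hF hy2))
        (par_trans hc hF ⟨c, h⟩ (vec_xsy hc hF hy1))
    obtain ⟨d, hd⟩ := h2
    exact ⟨d, by rw [map_mul, mul_smul, hd, map_inv, smul_scalar, inv_smul_smul]⟩
  have hmem := hc.stab _ (mul_mem (inv_mem hx1) hx2) hg
  rw [show a⁻¹ * b = (p⁻¹ * a)⁻¹ * (p⁻¹ * b) by group, e1, e2,
    show (x1 * s * y1)⁻¹ * (x2 * s * y2) = y1⁻¹ * (s⁻¹ * (x1⁻¹ * x2) * s) * y2 by group]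
  exact mul_mem (mul_mem (inv_mem hy1) hmem) hy2

/-- The triangle relation. -/
theorem adj_of_orth {p a b : H} (ha : Adj K s p a) (hb : Adj K s p b) (h : herm q (vec φ a) (vec φ b) = 0) :
    Adj K s a b := by
  obtain ⟨x1, hx1, y1, hy1, e1⟩ := ha
  obtain ⟨x2, hx2, y2, hy2, e2⟩ := hb
  set g := x1⁻¹ * x2 with hg
  have hgK : g ∈ K := mul_mem (inv_mem hx1) hx2
  set w := φ g • (eI 1 : Fin (4) → F) with hw
  have hww : herm q w w = 1 := by rw [hw, herm_smul_SU, herm_eI_eI hF, if_pos rfl]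
  have hw1 : herm q w (eI 1) = 0 := by
    rw [show a = p * (x1 * s * y1) by rw [← e1]; group, show b = p * (x2 * s * y2) by rw [← e2]; group, vec_mul,
      vec_mul p, herm_smul_SU] at h
    have h1 := herm_par hc hF (par_symm hc hF (vec_norm hc hF _) (vec_xsy hc hF hy2)) h
    rw [herm_eq_zero_comm hF] at h1
    have h2 := herm_par hc hF (par_symm hc hF (vec_norm hc hF _) (vec_xsy hc hF hy1)) h1
    rw [← herm_smul_SU (φ x1⁻¹), ← mul_smul, ← map_mul, ← mul_smul, ← map_mul, inv_mul_cancel, map_one,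
      one_smul] at h2
    exact h2
  have hw0 : herm q w (eI 0) = 0 := by
    obtain ⟨c, hc'⟩ := par_symm hc hF (vec_norm hc hF g) (par_vec_of_mem hc hF (a := 1) (b := g) (by simpa using hgK))
    have h1 : vec φ (1 : H) = (eI 0 : Fin (4) → F) := by rw [vec, map_one, one_smul]
    rw [h1] at hc'
    rw [hc', herm_smul_right hF, hw, vec, herm_smul_SU, herm_eI_eI hF, if_neg (by simp), mul_zero]
  obtain ⟨k1, hk1, hk1p, x, hx, y, hy, hrel⟩ := hc.tri
  obtain ⟨A, hA, hAw⟩ := exists_fixS_one hF (n := 4) (S := {0, 1})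
    (by rw [Finset.card_compl, Fintype.card_fin]; simp)
    (eI_mem_supp (i := 2) (by simp [Fin.ext_iff, Nat.mod_eq_of_lt])) (x' := w)
    (by
      intro i hi
      simp only [Finset.mem_insert, Finset.mem_singleton] at hi
      rcases hi with rfl | rfl
      · rw [← herm_eI_right hF 0 w, hw0]
      · rw [← herm_eI_right hF 1 w, hw1])
    (by rw [herm_eI_eI hF, if_pos rfl]) hww
  obtain ⟨at', hat, rfl⟩ := hc.lift A ⟨1, by rw [one_smul]; exact mem_fixS.1 hA 0 (by simp)⟩
  have h1 : s⁻¹ * at' * s ∈ K :=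
    hc.stab _ hat ⟨1, by rw [one_smul]; exact mem_fixS.1 hA 1 (by simp)⟩
  have h2 : s⁻¹ * ((at' * k1)⁻¹ * g) * s ∈ K :=
    hc.stab _ (mul_mem (inv_mem (mul_mem hat hk1)) hgK) ⟨1, by
      rw [one_smul, map_mul, mul_smul, ← hw, map_inv, inv_smul_eq_iff, map_mul, mul_smul, hk1p, hAw]⟩
  refine ⟨y1⁻¹ * (s⁻¹ * at' * s) * x, mul_mem (mul_mem (inv_mem hy1) h1) hx,
    y * (s⁻¹ * ((at' * k1)⁻¹ * g) * s) * y2, mul_mem (mul_mem hy h2) hy2, ?_⟩
  calc a⁻¹ * b = (p⁻¹ * a)⁻¹ * (p⁻¹ * b) := by group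
    _ = y1⁻¹ * (s⁻¹ * at' * s) * (s⁻¹ * k1 * s) * (s⁻¹ * ((at' * k1)⁻¹ * g) * s) * y2 := by
      rw [e1, e2, hg]; group
    _ = _ := by rw [hrel]; group

/-- Every orthogonal point gives a neighbour. -/
theorem exists_adj (p : H) {z : Fin (4) → F} (hz : herm q z z = 1) (hzp : herm q z (vec φ p) = 0) :
    ∃ m, Adj K s p m ∧ vec φ m = z := by
  obtain ⟨A, hA, hAz⟩ := exists_fixS_one hF (n := 4) (S := {0})
    (by rw [Finset.card_compl, Fintype.card_fin]; simp)
    (eI_mem_supp (i := 1) (by simp [Fin.ext_iff, Nat.mod_eq_of_lt])) (x' := (φ p)⁻¹ • z)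
    (by
      intro i hi
      rw [Finset.mem_singleton] at hi
      subst hi
      rw [← herm_eI_right hF 0 ((φ p)⁻¹ • z), ← herm_smul_SU (φ p), smul_inv_smul]
      exact hzp)
    (by rw [herm_eI_eI hF, if_pos rfl]) (by rw [herm_smul_SU, hz])
  obtain ⟨a, ha, rfl⟩ := hc.lift A ⟨1, by rw [one_smul]; exact mem_fixS.1 hA 0 (by simp)⟩
  exact ⟨p * (a * s), ⟨a, ha, 1, one_mem K, by group⟩,
    by rw [vec_mul, vec_mul, vec_s hc hF, hAz, smul_inv_smul]⟩

theorem vec_one : vec φ (1 : H) = (eI 0 : Fin (4) → F) := by rw [vec, map_one, one_smul]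

/-- Middle points of `b`. -/
def Good (b : H) : Prop :=
  ∀ m, Adj K s 1 m → herm q (vec φ m) (vec φ b) = 0 → Adj K s m b

/-- The lifting property. -/
def Lifted (h : H) : Prop :=
  (Par (vec φ h) (eI 0) → h ∈ K) ∧ (herm q (vec φ h) (eI 0) = 0 → Adj K s 1 h) ∧
    (¬ Par (vec φ h) (eI 0) → herm q (vec φ h) (eI 0) ≠ 0 → Good (φ := φ) (K := K) (s := s) (q := q) h)

theorem lifted_one : Lifted (φ := φ) (K := K) (s := s) (1 : H) :=
  ⟨fun _ => one_mem K, fun h => by rw [vec_one hc hF, herm_eI_eI hF, if_pos rfl] at h; exact absurd h one_ne_zero,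
    fun h => absurd ⟨1, by rw [vec_one hc hF, one_smul]⟩ h⟩

theorem lifted_mul_mem {h x : H} (hh : Lifted (φ := φ) (K := K) (s := s) h) (hx : x ∈ K) :
    Lifted (φ := φ) (K := K) (s := s) (h * x) := by
  have hp : Par (vec φ (h * x)) (vec φ h) := vec_right hc hF hx
  have hp' := par_symm hc hF (vec_norm hc hF _) hp
  have hz : ∀ {z : Fin (4) → F}, herm q (vec φ (h * x)) z = 0 → herm q (vec φ h) z = 0 := fun {z} e =>
    (herm_eq_zero_comm hF).1 (herm_par hc hF hp' ((herm_eq_zero_comm hF).1 e))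
  refine ⟨fun e => mul_mem (hh.1 (par_trans hc hF hp' e)) hx,
    fun e => adj_congr_right (by rwa [inv_mul_cancel_left]) (hh.2.1 (hz e)), fun h1 h2 m hm hm' => ?_⟩
  refine adj_congr_right (by rwa [inv_mul_cancel_left]) (hh.2.2 (fun e => h1 (par_trans hc hF hp e)) (fun e => h2 ?_)
    m hm (herm_par hc hF hp' hm'))
  exact (herm_eq_zero_comm hF).1 (herm_par hc hF hp ((herm_eq_zero_comm hF).1 e))

omit hc in
/-- Four orthogonal vectors without isotropic ones span. -/
theorem eq_zero_of_orth_four {a : Fin 4 → Fin 4 → F} (ha : Orth q a) {x : Fin 4 → F}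
    (h : ∀ i, herm q x (a i) = 0) : x = 0 := by
  classical
  have hinj : Function.Injective (fun c : Fin 4 → F => ∑ i, c i • a i) := fun c d e => funext fun j => by
    have := congrArg (fun y => herm q y (a j)) e
    simp only [herm_sum_left, herm_smul_left] at this
    rw [Finset.sum_eq_single j (fun i _ hi => by rw [ha.perp i j hi, mul_zero]) (by simp),
      Finset.sum_eq_single j (fun i _ hi => by rw [ha.perp i j hi, mul_zero]) (by simp)] at this
    exact mul_right_cancel₀ (ha.ne j) this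
  refine eq_zero_of_herm hF fun y => ?_
  obtain ⟨c, rfl⟩ := (Finite.injective_iff_surjective.1 hinj) y
  rw [herm_swap hF (∑ i, c i • a i) x, herm_sum_left, Finset.sum_eq_zero fun i _ => by
    rw [herm_smul_left, show herm q (a i) x = 0 from (herm_eq_zero_comm hF).1 (h i), mul_zero], zero_pow_q hF]

omit hc in
/-- The norm of a vector less its component along a norm one vector. -/
theorem herm_sub_proj {n : ℕ} {p : Fin n → F} (hp : herm q p p = 1) (v : Fin n → F) :
    herm q (v - herm q v p • p) (v - herm q v p • p) = herm q v v - herm q v p ^ (q + 1) ∧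
      herm q (v - herm q v p • p) p = 0 := by
  refine ⟨?_, by rw [herm_sub_left, herm_smul_left, hp, mul_one, sub_self]⟩
  rw [herm_sub_left, herm_sub_right hF, herm_sub_right hF, herm_smul_left, herm_smul_left, herm_smul_right hF,
    herm_smul_right hF, hp, herm_swap hF v p, pow_succ]
  ring

/-- All middle points of a non-degenerate pair. -/
theorem good_nd {b m : H} (h1 : Adj K s 1 m) (h2 : Adj K s m b) (hc1 : herm q (vec φ b) (eI 0) ^ (q + 1) ≠ 1) :
    Good (φ := φ) (K := K) (s := s) (q := q) b := by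
  classical
  have e0 : herm q (eI 0) (eI 0 : Fin 4 → F) = 1 := by rw [herm_eI_eI hF, if_pos rfl]
  have e11 : herm q (eI 1) (eI 1 : Fin 4 → F) = 1 := by rw [herm_eI_eI hF, if_pos rfl]
  set c := herm q (vec φ b) (eI 0) with hcdef
  set w := vec φ b - c • eI 0 with hw
  obtain ⟨hww, hw0⟩ := herm_sub_proj hF e0 (vec φ b)
  rw [← hcdef, vec_norm hc hF] at hww
  rw [← hcdef] at hw0
  obtain ⟨d, hd⟩ := exists_norm_eq hF (t := herm q w w) (herm_self_fixed hF w)
  have hd0 : d ≠ 0 := fun e => by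
    rw [e, zero_pow (by omega)] at hd
    exact hc1 (sub_eq_zero.1 (hww.symm.trans hd.symm)).symm
  obtain ⟨g, hg, hgw⟩ := exists_fixS_one hF (n := 4) (S := {0}) (by decide) (x := d⁻¹ • w) (x' := eI 1)
    (fun i hi => by rw [Finset.mem_singleton.1 hi, Pi.smul_apply, ← herm_eI_right hF 0 w, hw0, smul_zero])
    (eI_mem_supp (by decide)) (by rw [herm_smul_left, herm_smul_right hF, ← hd, inv_pow, pow_succ]; field_simp) e11
  have hg0 : g • (eI 0 : Fin 4 → F) = eI 0 := mem_fixS.1 hg 0 (Finset.mem_singleton_self 0)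
  obtain ⟨gl, hgl, hglg⟩ := hc.lift g ⟨1, by rw [one_smul, hg0]⟩
  have hvb : vec φ (gl * b) = c • eI 0 + d • eI 1 := by
    rw [vec_mul, hglg, show vec φ b = c • eI 0 + d • (d⁻¹ • w) by
      rw [smul_smul, mul_inv_cancel₀ hd0, one_smul, hw]; abel, smul_add g, smul_scalar, smul_scalar, hg0, hgw]
  obtain ⟨p, hp, hp0⟩ := exists_fixS_one hF (n := 4) (S := {2, 3}) (by decide) (x := eI 0)
    (x' := c • eI 0 + d • eI 1) (eI_mem_supp (by decide))
    (add_mem (Submodule.smul_mem _ _ (eI_mem_supp (by decide))) (Submodule.smul_mem _ _ (eI_mem_supp (by decide))))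
    e0 (by rw [← hvb]; exact vec_norm hc hF _)
  obtain ⟨z, m0, hz, hm0, hm0z, hm02, hzu⟩ := hc.square p hp
  have hvz : vec φ z = c • eI 0 + d • eI 1 := by rw [← hp0]; exact hz
  have hall : ∀ mm, Adj K s 1 mm → herm q (vec φ mm) (vec φ z) = 0 → Adj K s mm z := by
    intro mm hmm h
    have x0 : vec φ mm 0 = 0 := by
      rw [← herm_eI_right hF 0 (vec φ mm), herm_eq_zero_comm hF, ← vec_one hc hF]; exact adj_orth hc hF hmm
    have x1 : vec φ mm 1 = 0 := by
      rw [hvz, herm_add_right hF, herm_smul_right hF, herm_smul_right hF, herm_eI_right hF, herm_eI_right hF, x0,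
        mul_zero, zero_add, mul_eq_zero] at h
      exact h.resolve_left (pow_ne_zero _ hd0)
    obtain ⟨u, hu, hu2⟩ := exists_fixS_one hF (n := 4) (S := {0, 1}) (by decide) (x := eI 2) (x' := vec φ mm)
      (eI_mem_supp (by decide)) (fun i hi => by
        simp only [Finset.mem_insert, Finset.mem_singleton] at hi
        rcases hi with rfl | rfl <;> assumption)
      (by rw [herm_eI_eI hF, if_pos rfl]) (vec_norm hc hF mm)
    obtain ⟨ul, hul, hulu⟩ := hc.lift u ⟨1, by rw [one_smul]; exact mem_fixS.1 hu 0 (by decide)⟩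
    have hA : Adj K s 1 (ul * m0) :=
      adj_congr_left (a := ul) (by rw [mul_one]; exact inv_mem hul) (by simpa using (adj_mul_left (g := ul)).2 hm0)
    have hB : Adj K s (ul * m0) z :=
      adj_congr_right (b := ul * z)
        (by rw [show (ul * z)⁻¹ * z = (z⁻¹ * ul * z)⁻¹ by group]; exact inv_mem (hzu ul hul (hulu ▸ hu)))
        ((adj_mul_left (g := ul)).2 hm0z)
    refine adj_congr_left (same_of_par hc hF hA hmm ?_) hB
    obtain ⟨e, he⟩ := hm02
    have : Par (vec φ (ul * m0)) (vec φ mm) := ⟨e, by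
      rw [vec_mul, hulu, ← hu2, ← smul_scalar]; exact congrArg (u • ·) he⟩
    exact par_symm hc hF (vec_norm hc hF _) this
  have hK1 : ∀ {x : H}, Adj K s 1 x → Adj K s 1 (gl * x) := fun h =>
    adj_congr_left (a := gl) (by rw [mul_one]; exact inv_mem hgl) (by simpa using (adj_mul_left (g := gl)).2 h)
  have hmz := hall _ (hK1 h1) (by rw [hvz, ← hvb]; exact adj_orth hc hF ((adj_mul_left (g := gl)).2 h2))
  have hsame := same_of_par hc hF hmz ((adj_mul_left (g := gl)).2 h2) ⟨1, by rw [one_smul, hvz, hvb]⟩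
  intro m' h1' h'
  refine (adj_mul_left (g := gl)).1 (adj_congr_right hsame (hall _ (hK1 h1') ?_))
  rw [hvz, ← hvb, vec_mul, vec_mul, herm_smul_SU]
  exact h'

/-- All middle points of a non-degenerate pair, from any point. -/
theorem good_nd_at {p b m m' : H} (h1 : Adj K s p m) (h2 : Adj K s m b)
    (hc1 : herm q (vec φ b) (vec φ p) ^ (q + 1) ≠ 1) (h1' : Adj K s p m')
    (h' : herm q (vec φ m') (vec φ b) = 0) : Adj K s m' b := by
  refine (adj_mul_left (g := p⁻¹)).1 (good_nd hc hF (b := p⁻¹ * b) (m := p⁻¹ * m)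
    (by rw [← inv_mul_cancel p]; exact adj_mul_left.2 h1) (adj_mul_left.2 h2) ?_ (p⁻¹ * m')
    (by rw [← inv_mul_cancel p]; exact adj_mul_left.2 h1') ?_)
  · rw [vec_mul, map_inv, ← herm_smul_SU (φ p), smul_inv_smul, show φ p • (eI 0 : Fin 4 → F) = vec φ p from rfl]
    exact hc1
  · rw [vec_mul, vec_mul, herm_smul_SU]; exact h'

omit hc in
/-- The scalars used to link two middle points of a degenerate pair. -/
theorem exists_aux (hq : 4 ≤ q) : ∃ z : F, z ^ (q + 1) ≠ 1 ∧ z + z ^ q ≠ 2 := by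
  classical
  by_cases h2 : (2 : F) = 0
  · obtain ⟨w, hw, hw1⟩ := exists_norm_avoid hF ({1} : Finset F) (by simp; omega)
    obtain ⟨σ, hσ, hσ1⟩ := exists_fixed_avoid hF ({0, 1} : Finset F) (lt_of_le_of_lt Finset.card_le_two (by omega))
    simp only [Finset.mem_insert, Finset.mem_singleton, not_or] at hσ1
    rw [Finset.mem_singleton] at hw1
    refine ⟨σ * w, fun e => ?_, fun e => ?_⟩
    · rw [mul_pow, hw, mul_one, pow_succ, hσ] at e
      refine hσ1.2 (sub_eq_zero.1 (mul_self_eq_zero.1 ?_))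
      linear_combination e - (σ - 1) * h2
    · rw [h2, mul_pow, hσ, ← mul_add, mul_eq_zero] at e
      rw [pow_succ] at hw
      refine hw1 (sub_eq_zero.1 (mul_self_eq_zero.1 ?_))
      linear_combination w * (e.resolve_left hσ1.1) - hw - w * h2
  · refine ⟨0, ?_, ?_⟩
    · rw [zero_pow (by omega)]; exact zero_ne_one
    · rw [zero_pow_q hF, add_zero]; exact Ne.symm h2

omit hc in
/-- A set closed under addition containing the norm one multiples of a nonzero scalar is everything. -/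
theorem eq_univ_of_norm_mul (P : F → Prop) (h0 : P 0) (hadd : ∀ a b, P a → P b → P (a + b)) {t : F} (ht : t ≠ 0)
    (hn : ∀ w : F, w ^ (q + 1) = 1 → P (t * w)) : ∀ x, P x := by
  classical
  let N : Set F := {w | w ^ (q + 1) = 1}
  let R := Subsemiring.closure N
  have hRP : ∀ r ∈ R, P (t * r) := by
    intro r hr
    rw [Subsemiring.mem_closure_iff] at hr
    induction hr using AddSubmonoid.closure_induction with
    | mem w hw =>
      refine hn w ?_
      induction hw using Submonoid.closure_induction with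
      | mem w hw => exact hw
      | one => exact one_pow _
      | mul a b _ _ ha hb => rw [mul_pow, ha, hb, one_mul]
    | zero => rw [mul_zero]; exact h0
    | add a b _ _ ha hb => rw [mul_add]; exact hadd _ _ ha hb
  have hneg : (-1 : F) ∈ R :=
    Subsemiring.subset_closure (show (-1 : F) ^ (q + 1) = 1 by rw [pow_succ, neg_pow_q hF, one_pow]; ring)
  let L : Subfield F :=
    { R with
      neg_mem' := fun {x} hx => by rw [show -x = -1 * x by ring]; exact R.mul_mem hneg hx
      inv_mem' := fun x hx => by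
        by_cases h : x = 0
        · subst h; rw [_root_.inv_zero]; exact R.zero_mem
        · rw [show x⁻¹ = x ^ (Fintype.card F - 2) from inv_eq_of_mul_eq_one_right (by
            rw [← pow_succ', show Fintype.card F - 2 + 1 = Fintype.card F - 1 by
              have := Fintype.one_lt_card (α := F); omega]
            exact FiniteField.pow_card_sub_one_eq_one x h)]
          exact R.pow_mem hx _ }
  haveI : Fintype L := Fintype.ofFinite L
  have hL : q + 1 ≤ Fintype.card L := by
    have := Nat.card_le_card_of_injective (fun w : {x : F // x ^ (q + 1) = 1} => (⟨w.1, Subsemiring.subset_closure w.2⟩ : L))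
      (fun a b e => Subtype.ext (congrArg (fun y : L => (y : F)) e))
    rwa [card_norm_eq_one hF, Nat.card_eq_fintype_card] at this
  have hd : Fintype.card F = Fintype.card L ^ Module.finrank L F := Module.card_eq_pow_finrank
  have hd1 : Module.finrank L F = 1 := by
    by_contra hne
    have hpos : 0 < Module.finrank L F := Module.finrank_pos
    have := Nat.pow_le_pow_right (show 0 < Fintype.card L by omega) (show 2 ≤ Module.finrank L F by omega)
    rw [← hd, hF] at this
    have := Nat.pow_lt_pow_left (show q < Fintype.card L by omega) (two_ne_zero)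
    omega
  rw [hd1, pow_one] at hd
  have hsurj := ((Fintype.bijective_iff_injective_and_card (fun y : L => (y : F))).2 ⟨Subtype.val_injective, hd.symm⟩).2
  intro x
  obtain ⟨y, hy⟩ := hsurj (t⁻¹ * x)
  have := hRP _ (show t⁻¹ * x ∈ R from hy ▸ y.2)
  rwa [mul_inv_cancel_left₀ ht] at this

variable {γ : F} (hγ : γ ^ (q + 1) = -1)

/-- The point `p₀ + p₁ + γ p₂`. -/
def vv (γ : F) : Fin 4 → F := ![1, 1, γ, 0]

/-- The middle points of `p₀` and `p₀ + p₁ + γ p₂`. -/
def mv (γ t : F) : Fin 4 → F := ![0, t, γ * t, 1]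

omit hc hF in
theorem herm_four (u v : Fin 4 → F) :
    herm q u v = u 0 * v 0 ^ q + u 1 * v 1 ^ q + u 2 * v 2 ^ q + u 3 * v 3 ^ q := by
  rw [herm, hermForm, Fin.sum_univ_four]

/-- The base hypothesis replacing `4 ≤ q`: the lifts of two spanning middle points of the degenerate pair agree. -/
def Base4 (φ : H →* SU 4 F q) (K : Subgroup H) (s : H) : Prop :=
  ∃ γ : F, γ ^ (q + 1) = -1 ∧ ∃ t1 t2 : F,
    (∀ P : F → Prop, P 0 → (∀ a b, P a → P b → P (a + b)) → P t1 → P t2 → ∀ x, P x) ∧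
    ∀ t, (t = t1 ∨ t = t2) → ∃ z m m', Adj K s 1 m ∧ Adj K s m z ∧ Adj K s 1 m' ∧ Adj K s m' z ∧
      Par (vec φ z) (vv γ) ∧ Par (vec φ m) (eI 3) ∧ Par (vec φ m') (mv γ t)

include hγ

/-- The degenerate base pair. -/
theorem good_vv (hq : 4 ≤ q ∨ ∃ t1 t2 : F,
    (∀ P : F → Prop, P 0 → (∀ a b, P a → P b → P (a + b)) → P t1 → P t2 → ∀ x, P x) ∧
    ∀ t, (t = t1 ∨ t = t2) → ∃ z m m', Adj K s 1 m ∧ Adj K s m z ∧ Adj K s 1 m' ∧ Adj K s m' z ∧
      Par (vec φ z) (vv γ) ∧ Par (vec φ m) (eI 3) ∧ Par (vec φ m') (mv γ t)) {m0 z0 : H} (h1 : Adj K s 1 m0) (h2 : Adj K s m0 z0) (hz : Par (vec φ z0) (vv γ))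
    (hm : Par (vec φ m0) (eI 3)) : Good (φ := φ) (K := K) (s := s) (q := q) z0 := by
  classical
  have hγ' : γ * γ ^ q = -1 := by rw [← pow_succ', hγ]
  have hγ0 : γ ≠ 0 := fun e => by rw [e, zero_mul] at hγ'; exact one_ne_zero (neg_eq_zero.1 hγ'.symm)
  have hmv : ∀ t, herm q (mv γ t) (mv γ t) = 1 ∧ herm q (mv γ t) (eI 0) = 0 ∧ herm q (mv γ t) (vv γ) = 0 := fun t => by
    refine ⟨?_, by rw [herm_eI_right hF]; rfl, ?_⟩
    · rw [herm_four]
      simp [mv, zero_pow_q hF, mul_pow]
      linear_combination t * t ^ q * hγ'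
    · rw [herm_four]
      simp [mv, vv, zero_pow_q hF]
      linear_combination t * hγ'
  have hz' : Par (vv γ) (vec φ z0) := par_symm hc hF (vec_norm hc hF z0) hz
  -- every middle point has this shape
  have shape : ∀ m', Adj K s 1 m' → herm q (vec φ m') (vec φ z0) = 0 → ∃ t, Par (vec φ m') (mv γ t) := by
    intro m' h1' h'
    set v := vec φ m' with hv
    have v0 : v 0 = 0 := by
      rw [← herm_eI_right hF 0 v, herm_eq_zero_comm hF, ← vec_one hc hF]; exact adj_orth hc hF h1'
    have hp := herm_par hc hF hz' h'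
    rw [herm_four] at hp
    simp [vv, zero_pow_q hF, v0] at hp
    have v2 : v 2 = γ * v 1 := by linear_combination -γ * hp + v 2 * hγ'
    have hn := vec_norm hc hF m'
    rw [← hv, herm_four, v0, v2, zero_pow_q hF, mul_pow] at hn
    have h3 : v 3 ≠ 0 := fun e => by
      rw [e, zero_pow_q hF] at hn
      exact one_ne_zero (show (1 : F) = 0 by linear_combination -hn + v 1 * v 1 ^ q * hγ')
    refine ⟨v 1 / v 3, v 3, funext fun i => ?_⟩
    fin_cases i
    · simpa [mv] using v0
    · show v 1 = v 3 * (v 1 / v 3); field_simp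
    · show v 2 = v 3 * (γ * (v 1 / v 3)); rw [v2]; field_simp
    · simp [mv]
  let S : F → Prop := fun t => ∀ m', Adj K s 1 m' → Par (vec φ m') (mv γ t) → Adj K s m' z0
  have hS0 : S 0 := by
    intro m' h1' hp
    refine adj_congr_left (same_of_par hc hF h1 h1' (par_trans hc hF hp ?_)) h2
    have : mv γ (0 : F) = eI 3 := funext fun i => by fin_cases i <;> simp [mv, eI]
    rw [this]
    exact par_symm hc hF (vec_norm hc hF m0) hm
  have hadd : ∀ a b, S a → S b → S (a + b) := by
    intro a b ha hb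
    set r : Fin 4 → F := ![0, 1, γ, 0] with hr
    have hrr : herm q r r = 0 := by
      rw [herm_four]; simp [hr, zero_pow_q hF]; linear_combination hγ'
    obtain ⟨β, hβ⟩ := exists_trace_eq hF (t := -herm q ((-a ^ q) • (eI 3 : Fin 4 → F)) ((-a ^ q) • eI 3))
      (by rw [neg_pow_q hF, herm_self_fixed hF])
    have hwr : herm q ((-a ^ q) • (eI 3 : Fin 4 → F)) r = 0 := by
      rw [herm_smul_left, herm_eI_left]; simp [hr, zero_pow_q hF]
    set τ := Qel hF hrr hwr hβ with hτ
    have hfix : ∀ v : Fin 4 → F, herm q v r = 0 → v 3 = 0 → τ • v = v := fun v e1 e2 => by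
      rw [hτ, Qel_smul, e1, herm_smul_right hF, herm_eI_right hF, e2]; simp
    have hτM : ∀ c, τ • mv γ c = mv γ (a + c) := fun c => by
      have e1 : herm q (mv γ c) r = 0 := by
        rw [herm_four]; simp [mv, hr, zero_pow_q hF]; linear_combination c * hγ'
      rw [hτ, Qel_smul, e1, herm_smul_right hF, herm_eI_right hF, neg_pow_q hF, pow_q_pow_q hF]
      funext i
      fin_cases i <;> simp [mv, hr] <;> ring
    have hτ0 : τ • (eI 0 : Fin 4 → F) = eI 0 :=
      hfix _ (by rw [herm_eI_left]; simp [hr, zero_pow_q hF]) (by simp [eI])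
    have hτv : τ • vv γ = vv γ := hfix _ (by
      rw [herm_four]; simp [vv, hr, zero_pow_q hF]; linear_combination hγ') rfl
    obtain ⟨x, hx, hxτ⟩ := hc.lift τ ⟨1, by rw [one_smul, hτ0]⟩
    have hK1 : ∀ {y : H}, Adj K s 1 y → Adj K s 1 (x * y) := fun h =>
      adj_congr_left (a := x) (by rw [mul_one]; exact inv_mem hx) (by simpa using (adj_mul_left (g := x)).2 h)
    have hmap : ∀ {y : H} {c : F}, Par (vec φ y) (mv γ c) → Par (vec φ (x * y)) (mv γ (a + c)) := fun {y c} h => by
      obtain ⟨e, he⟩ := h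
      exact ⟨e, by rw [vec_mul, hxτ, he, smul_scalar, hτM]⟩
    obtain ⟨ma, hma, hva⟩ := exists_adj hc hF 1 (hmv 0).1 (by rw [vec_one hc hF]; exact (hmv 0).2.1)
    have hma0 := hS0 ma hma ⟨1, by rw [one_smul, hva]⟩
    have hxz : (x * z0)⁻¹ * z0 ∈ K := by
      refine same_of_par hc hF ((adj_mul_left (g := x)).2 hma0)
        (ha _ (hK1 hma) (by simpa using hmap (y := ma) (c := 0) ⟨1, by rw [one_smul, hva]⟩)) ?_
      obtain ⟨e, he⟩ := hz
      exact ⟨1, by rw [one_smul, vec_mul, hxτ, he, smul_scalar, hτv]⟩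
    intro m' h1' hp
    obtain ⟨mb, hmb, hvb⟩ := exists_adj hc hF 1 (hmv b).1 (by rw [vec_one hc hF]; exact (hmv b).2.1)
    have hxb : Adj K s (x * mb) z0 :=
      adj_congr_right hxz ((adj_mul_left (g := x)).2 (hb mb hmb ⟨1, by rw [one_smul, hvb]⟩))
    have hp2 : Par (vec φ (x * mb)) (mv γ (a + b)) := hmap ⟨1, by rw [one_smul, hvb]⟩
    exact adj_congr_left (same_of_par hc hF (hK1 hmb) h1' (par_trans hc hF hp (par_symm hc hF (vec_norm hc hF _) hp2))) hxb
  rcases hq with hq | ⟨t1, t2, hspan, hts⟩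
  swap
  · have hS12 : ∀ t, (t = t1 ∨ t = t2) → S t := by
      intro t ht m' h1' hp
      obtain ⟨z, m, mt, a1, a2, a3, a4, pz, pm, pmt⟩ := hts t ht
      have e1 : Par (vec φ m0) (vec φ m) := par_trans hc hF hm (par_symm hc hF (vec_norm hc hF m) pm)
      have e2 : Adj K s m z0 := adj_congr_left (same_of_par hc hF h1 a1
        (par_symm hc hF (vec_norm hc hF m0) e1)) h2
      have hzz : z⁻¹ * z0 ∈ K := same_of_par hc hF a2 e2 (par_trans hc hF hz (par_symm hc hF (vec_norm hc hF z) pz))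
      exact adj_congr_left (same_of_par hc hF a3 h1' (par_trans hc hF hp (par_symm hc hF (vec_norm hc hF mt) pmt)))
        (adj_congr_right hzz a4)
    intro m' h1' h'
    obtain ⟨t', ht'⟩ := shape m' h1' h'
    exact hspan S hS0 hadd (hS12 t1 (Or.inl rfl)) (hS12 t2 (Or.inr rfl)) t' m' h1' ht'
  -- one further middle point
  obtain ⟨z, hzN, hzT⟩ := exists_aux hF hq
  have hz1 : z ≠ 1 := fun e => hzN (by rw [e, one_pow])
  set E := (z - 1) ^ (q + 1) with hE
  set D := 1 - z ^ (q + 1) with hD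
  have hE0 : E ≠ 0 := pow_ne_zero _ (sub_ne_zero.2 hz1)
  obtain ⟨T, hT, hTn⟩ := exists_fixed_avoid hF ({0, D / E, (D + E) / E} : Finset F)
    (lt_of_le_of_lt Finset.card_le_three (by omega))
  simp only [Finset.mem_insert, Finset.mem_singleton, not_or] at hTn
  obtain ⟨t, ht⟩ := exists_norm_eq hF hT
  have ht0 : t ≠ 0 := fun e => hTn.1 (by rw [← ht, e, zero_pow (by omega)])
  have hgood : ∀ t', t' ^ (q + 1) = T → S t' := by
    intro t' ht' m' h1' hp
    set av : Fin 4 → F := ![z - 1, 1, γ * z, 0] with hav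
    set e := γ ^ q * (z ^ q - 1) with he
    set cv : Fin 4 → F := ![0, γ ^ q * z ^ q, -1, -(t' ^ q * e)] with hcv
    have hEexp : E = z * z ^ q - z - z ^ q + 1 := by
      rw [hE, pow_succ, sub_pow_q hF, one_pow]; ring
    have hee : e * e ^ q = -E := by
      rw [he, hEexp, mul_pow, sub_pow_q hF, pow_q_pow_q hF, pow_q_pow_q hF, one_pow]
      linear_combination (z * z ^ q - z - z ^ q + 1) * hγ'
    have haa : herm q av av = 2 - (z + z ^ q) := by
      rw [herm_four]; simp [hav, zero_pow_q hF, sub_pow_q hF, mul_pow]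
      linear_combination z * z ^ q * hγ'
    have hav0 : herm q av (eI 0) = z - 1 := by rw [herm_eI_right hF]; rfl
    have havv : herm q av (vv γ) = 0 := by
      rw [herm_four]; simp [hav, vv, zero_pow_q hF]; linear_combination z * hγ'
    have hcc : herm q cv cv = D - T * E := by
      rw [herm_four, ← ht', hD]
      simp [hcv, zero_pow_q hF, neg_pow_q hF, mul_pow, pow_q_pow_q hF, pow_succ]
      linear_combination z * z ^ q * hγ' + t' * t' ^ q * hee
    have hcv0 : herm q cv (eI 0) = 0 := by rw [herm_eI_right hF]; rfl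
    have hca : herm q cv av = 0 := by
      rw [herm_four]; simp [hcv, hav, zero_pow_q hF, mul_pow]
    have hcvv : herm q cv (vv γ) = e := by
      rw [herm_four]; simp [hcv, vv, zero_pow_q hF, he]; ring
    have hcm : herm q cv (mv γ t') = 0 := by
      rw [herm_four]; simp [hcv, mv, zero_pow_q hF, mul_pow, he]; ring
    have hma : herm q (eI 3) av = 0 := by rw [herm_eI_left]; simp [hav, zero_pow_q hF]
    have haa0 : herm q av av ≠ 0 := by rw [haa, sub_ne_zero]; exact Ne.symm hzT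
    have hcc0 : herm q cv cv ≠ 0 := by
      rw [hcc, sub_ne_zero]; intro h; exact hTn.2.1 (by rw [h]; field_simp)
    obtain ⟨k, hk⟩ := exists_norm_eq hF (t := herm q av av) (herm_self_fixed hF _)
    obtain ⟨l, hl⟩ := exists_norm_eq hF (t := herm q cv cv) (herm_self_fixed hF _)
    have hk0 : k ≠ 0 := fun e => haa0 (by rw [← hk, e, zero_pow (by omega)])
    have hl0 : l ≠ 0 := fun e => hcc0 (by rw [← hl, e, zero_pow (by omega)])
    obtain ⟨a1, ha1, hva⟩ := exists_adj hc hF z0 (z := k⁻¹ • av)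
      (by rw [herm_smul_left, herm_smul_right hF, ← hk, inv_pow, pow_succ]; field_simp)
      (by rw [herm_smul_left, herm_par hc hF hz havv, mul_zero])
    have hm0a : Adj K s m0 a1 := adj_of_orth hc hF (adj_symm hc h2) ha1 (by
      obtain ⟨d, hd⟩ := hm
      rw [hva, hd, herm_smul_left, herm_smul_right hF, hma, mul_zero, mul_zero])
    obtain ⟨mc, hmc, hvc⟩ := exists_adj hc hF 1 (z := l⁻¹ • cv)
      (by rw [herm_smul_left, herm_smul_right hF, ← hl, inv_pow, pow_succ]; field_simp)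
      (by rw [vec_one hc hF, herm_smul_left, hcv0, mul_zero])
    have hnd1 : herm q (vec φ a1) (eI 0) ^ (q + 1) ≠ 1 := by
      rw [hva, herm_smul_left, hav0, mul_pow, ← hE, inv_pow, hk]
      intro h
      rw [haa] at h
      field_simp [show (2 : F) - (z + z ^ q) ≠ 0 from haa ▸ haa0] at h
      exact hzN (by rw [hEexp] at h; rw [pow_succ]; linear_combination h)
    have hca1 : Adj K s mc a1 := good_nd hc hF h1 hm0a hnd1 mc hmc (by
      rw [hva, hvc, herm_smul_left, herm_smul_right hF, hca, mul_zero, mul_zero])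
    have hnd2 : herm q (vec φ z0) (vec φ mc) ^ (q + 1) ≠ 1 := by
      obtain ⟨d, hd⟩ := hz
      have hdn : d ^ (q + 1) = 1 := by
        have h := vec_norm hc hF z0
        rw [hd, herm_smul_left, herm_smul_right hF, herm_four] at h
        simp [vv, zero_pow_q hF] at h
        rw [pow_succ]; linear_combination h - d * d ^ q * hγ'
      rw [hd, hvc, herm_smul_left, herm_smul_right hF, herm_swap hF cv (vv γ), hcvv, mul_pow, hdn, one_mul, mul_pow,
        ← pow_mul, ← pow_mul, mul_comm q, pow_mul, pow_mul, show e ^ (q + 1) = -E by rw [pow_succ', hee], inv_pow, hl,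
        neg_pow_q hF, show E ^ q = E from norm_fixed hF (z - 1), inv_pow,
        herm_self_fixed hF, hcc]
      intro h
      rw [hcc] at hcc0
      field_simp at h
      exact hTn.2.2 (by rw [eq_div_iff hE0]; linear_combination h)
    have hm1 : Adj K s mc m' := adj_of_orth hc hF hmc h1' (by
      rw [hvc, herm_smul_left, herm_par hc hF hp hcm, mul_zero])
    exact good_nd_at hc hF hca1 (adj_symm hc ha1) hnd2 hm1 (herm_par hc hF hz (by
      obtain ⟨d, hd⟩ := hp; rw [hd, herm_smul_left, (hmv t').2.2, mul_zero]))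
  have hall : ∀ t', S t' := eq_univ_of_norm_mul hF S hS0 hadd ht0 fun w hw => hgood _ (by rw [mul_pow, ht, hw, mul_one])
  intro m' h1' h'
  obtain ⟨t', ht'⟩ := shape m' h1' h'
  exact hall t' m' h1' ht'

omit hγ

/-- All middle points of a point at distance two give the same lift. -/
theorem good_of_mid (hq : 4 ≤ q ∨ Base4 φ K s) {b m : H} (h1 : Adj K s 1 m) (h2 : Adj K s m b) (hb : ¬ Par (vec φ b) (eI 0))
    (hc0 : herm q (vec φ b) (eI 0) ≠ 0) : Good (φ := φ) (K := K) (s := s) (q := q) b := by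
  classical
  by_cases hc1 : herm q (vec φ b) (eI 0) ^ (q + 1) = 1
  swap
  · exact good_nd hc hF h1 h2 hc1
  obtain ⟨γ, hγ, hq⟩ : ∃ γ : F, γ ^ (q + 1) = -1 ∧ (4 ≤ q ∨ ∃ t1 t2 : F,
      (∀ P : F → Prop, P 0 → (∀ a b, P a → P b → P (a + b)) → P t1 → P t2 → ∀ x, P x) ∧
      ∀ t, (t = t1 ∨ t = t2) → ∃ z m m', Adj K s 1 m ∧ Adj K s m z ∧ Adj K s 1 m' ∧ Adj K s m' z ∧
        Par (vec φ z) (vv γ) ∧ Par (vec φ m) (eI 3) ∧ Par (vec φ m') (mv γ t)) := by
    rcases hq with hq | ⟨γ, hγ, hb⟩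
    · obtain ⟨γ, hγ⟩ := exists_norm_eq hF (t := (-1 : F)) (by rw [neg_pow_q hF, one_pow])
      exact ⟨γ, hγ, Or.inl hq⟩
    · exact ⟨γ, hγ, Or.inr hb⟩
  have hn : γ * γ ^ q = -1 := by rw [← pow_succ', hγ]
  set c := herm q (vec φ b) (eI 0) with hcdef
  set r : Fin 4 → F := c⁻¹ • vec φ b - eI 0 with hr
  have e0 : herm q (eI 0) (eI 0 : Fin 4 → F) = 1 := by rw [herm_eI_eI hF, if_pos rfl]
  have hm0 : herm q (vec φ m) (eI 0) = 0 := by
    rw [herm_eq_zero_comm hF, ← vec_one hc hF]; exact adj_orth hc hF h1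
  have hr0 : herm q r (eI 0) = 0 := by
    rw [hr, herm_sub_left, herm_smul_left, ← hcdef, inv_mul_cancel₀ hc0, e0, sub_self]
  have hrm : herm q r (vec φ m) = 0 := by
    rw [hr, herm_sub_left, herm_smul_left, (herm_eq_zero_comm hF).1 (adj_orth hc hF h2),
      (herm_eq_zero_comm hF).1 hm0, mul_zero, sub_zero]
  have hrr : herm q r r = 0 := by
    rw [show herm q r r = herm q r (c⁻¹ • vec φ b) by rw [hr, herm_sub_right hF, hr0, sub_zero], herm_smul_right hF,
      hr, herm_sub_left, herm_smul_left, vec_norm hc hF, herm_swap hF (vec φ b) (eI 0), ← hcdef]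
    rw [pow_succ] at hc1
    rw [inv_eq_of_mul_eq_one_right (by rw [mul_comm]; exact hc1 : c * c ^ q = 1)]
    ring
  have hrne : r ≠ 0 := fun e => hb ⟨c, by
    rw [show (eI 0 : Fin 4 → F) = c⁻¹ • vec φ b from (sub_eq_zero.1 (hr ▸ e)).symm, smul_smul,
      mul_inv_cancel₀ hc0, one_smul]⟩
  obtain ⟨x, y, hxy, hxx, hyy, hxy0, hxp, hyp⟩ :=
    exists_split hF (orth_two hF (by rw [e0]; exact one_ne_zero) (by rw [vec_norm hc hF]; exact one_ne_zero)
      ((herm_eq_zero_comm hF).1 hm0)) hrr hrne (fun i => by fin_cases i <;> assumption)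
  have hγ0 : γ ≠ 0 := fun e => by rw [e, zero_mul] at hn; exact one_ne_zero (neg_eq_zero.1 hn.symm)
  obtain ⟨A, hA, hAx, hAy⟩ := exists_fixS_two hF (n := 4) (S := {0}) (by decide) (a := x) (b := γ⁻¹ • y)
    (a' := eI 1) (b' := eI 2)
    (fun i hi => by rw [Finset.mem_singleton.1 hi, ← herm_eI_right hF 0 x]; exact hxp 0)
    (fun i hi => by
      rw [Finset.mem_singleton.1 hi, Pi.smul_apply, ← herm_eI_right hF 0 y, show herm q y (eI 0) = 0 from hyp 0,
        smul_zero])
    (eI_mem_supp (by decide)) (eI_mem_supp (by decide)) hxx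
    (by
      rw [herm_smul_left, herm_smul_right hF, hyy, inv_pow]
      have : γ ^ q ≠ 0 := pow_ne_zero _ hγ0
      field_simp
      linear_combination -hn)
    (by rw [herm_smul_right hF, hxy0, mul_zero]) (by rw [herm_eI_eI hF, if_pos rfl]) (by rw [herm_eI_eI hF, if_pos rfl])
    (by rw [herm_eI_eI hF, if_neg (by decide)])
  obtain ⟨g, hg, rfl⟩ := hc.lift A ⟨1, by rw [one_smul]; exact mem_fixS.1 hA 0 (by simp)⟩
  have hy' : φ g • y = γ • eI 2 := by
    rw [show y = γ • γ⁻¹ • y by rw [smul_smul, mul_inv_cancel₀ hγ0, one_smul], smul_scalar, hAy]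
  have hvv : (vv γ : Fin 4 → F) = eI 0 + (eI 1 + γ • eI 2) := funext fun i => by fin_cases i <;> simp [vv, eI]
  have hgb : Par (vec φ (g * b)) (vv γ) := ⟨c, by
    rw [vec_mul, hvv, show vec φ b = c • (eI 0 + (x + y)) by
      rw [← hxy, hr, add_sub_cancel, smul_smul, mul_inv_cancel₀ hc0, one_smul], smul_scalar, smul_add (φ g),
      smul_add (φ g), mem_fixS.1 hA 0 (by simp), hAx, hy']⟩
  have hgm : Par (vec φ (g * m)) (eI 3) := by
    set v := vec φ (g * m) with hv
    refine ⟨v 3, ?_⟩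
    have hvg : v = φ g • vec φ m := vec_mul g m
    have q0 : v 0 = 0 := by
      rw [← herm_eI_right hF 0 v, hvg, ← mem_fixS.1 hA 0 (by simp), herm_smul_SU]; exact hm0
    have q1 : v 1 = 0 := by
      rw [← herm_eI_right hF 1 v, hvg, ← hAx, herm_smul_SU]; exact (herm_eq_zero_comm hF).1 (hxp 1)
    have q2 : v 2 = 0 := by
      rw [← herm_eI_right hF 2 v, hvg, ← hAy, herm_smul_SU, herm_smul_right hF,
        show herm q (vec φ m) y = 0 from (herm_eq_zero_comm hF).1 (hyp 1), mul_zero]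
    funext i
    fin_cases i
    · simpa [eI] using q0
    · simpa [eI] using q1
    · simpa [eI] using q2
    · simp [eI]
  have hg1 : ∀ {m' : H}, Adj K s 1 m' → Adj K s 1 (g * m') := fun h =>
    adj_congr_left (a := g) (by rw [mul_one]; exact inv_mem hg) (by simpa using (adj_mul_left (g := g)).2 h)
  intro m' h1' h'
  refine (adj_mul_left (g := g)).1 (good_vv hc hF hγ hq (hg1 h1) ((adj_mul_left (g := g)).2 h2) hgb hgm _ (hg1 h1') ?_)
  rw [vec_mul, vec_mul, herm_smul_SU]
  exact h'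

omit hc in
/-- A middle point of a pair joined through a third point. -/
theorem exists_pair (hq : 3 ≤ q) {p b m : Fin 4 → F} (hp : herm q p p = 1) (hb : herm q b b = 1)
    (hm : herm q m m = 1) (hmp : herm q m p = 0) (hbp : herm q b p ≠ 0) (hmb : herm q m b ≠ 0)
    (hne : ∀ c : F, b ≠ c • p) :
    ∃ a z, (herm q a a = 1 ∧ herm q a p = 0 ∧ herm q a b = 0) ∧
      herm q z z = 1 ∧ herm q z a = 0 ∧ herm q z m = 0 ∧ herm q z b = 0 := by
  classical
  set c := herm q b p with hcdef
  set b' := b - c • p with hb'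
  obtain ⟨hb'b', hb'p⟩ := herm_sub_proj hF hp b
  rw [← hcdef, hb] at hb'b'
  rw [← hcdef] at hb'p
  have cm : ∀ {x y : Fin 4 → F}, herm q x y = 0 → herm q y x = 0 := fun h => (herm_eq_zero_comm hF).1 h
  have hperp : ∀ a : Fin 4 → F, herm q a p = 0 → herm q a b' = 0 → herm q a b = 0 := fun a h1 h2 => by
    rw [show b = b' + c • p by rw [hb', sub_add_cancel], herm_add_right hF, herm_smul_right hF, h1, h2, mul_zero,
      add_zero]
  obtain ⟨hνv, hm''b⟩ := herm_sub_proj hF hb m
  rw [hm] at hνv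
  set ν := 1 - herm q m b ^ (q + 1) with hν
  set m'' := m - herm q m b • b with hm''
  suffices ∃ a, herm q a a = 1 ∧ herm q a p = 0 ∧ herm q a b = 0 ∧ herm q m a ^ (q + 1) ≠ ν by
    obtain ⟨a, haa, hap, hab, hav⟩ := this
    obtain ⟨h3, h3a⟩ := herm_sub_proj hF haa m''
    have hm''a : herm q m'' a = herm q m a := by
      rw [hm'', herm_sub_left, herm_smul_left, cm hab, mul_zero, sub_zero]
    set m3 := m'' - herm q m'' a • a with hm3
    rw [hm''a, hνv] at h3
    have h3b : herm q m3 b = 0 := by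
      rw [hm3, herm_sub_left, herm_smul_left, hab, hm''b, mul_zero, sub_zero]
    obtain ⟨z, hz, hzo⟩ := exists_norm_one_perp hF (n := 4) (orth_three hF (x := a) (y := b) (z := m3)
      (by rw [haa]; exact one_ne_zero) (by rw [hb]; exact one_ne_zero)
      (by rw [h3, sub_ne_zero]; exact Ne.symm hav) hab (cm h3a) (cm h3b)) (by norm_num)
    refine ⟨a, z, ⟨haa, hap, hab⟩, hz, hzo 0, ?_, hzo 1⟩
    have hsum : m = m3 + herm q m'' a • a + herm q m b • b := by rw [hm3, hm'']; abel
    rw [hsum, herm_add_right hF, herm_add_right hF, herm_smul_right hF, herm_smul_right hF,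
      show herm q z m3 = 0 from hzo 2, show herm q z a = 0 from hzo 0, show herm q z b = 0 from hzo 1]
    simp
  by_cases hc1 : c ^ (q + 1) = 1
  · -- degenerate
    rw [hc1, sub_self] at hb'b'
    have hb'0 : b' ≠ 0 := fun e => hne c (sub_eq_zero.1 (hb' ▸ e))
    obtain ⟨x, y, hxy, hxx, hyy, hxy0, hxp, hyp⟩ :=
      exists_split hF (orth_one hF (by rw [hp]; exact one_ne_zero)) hb'b' hb'0
        (fun i => by rw [Subsingleton.elim i 0]; exact hb'p)
    obtain ⟨y0, hy0, hy0o⟩ := exists_norm_one_perp hF (n := 4) (orth_three hF (x := p) (y := x) (z := y)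
      (by rw [hp]; exact one_ne_zero) (by rw [hxx]; exact one_ne_zero) (by rw [hyy]; simp)
      (cm (hxp 0)) (cm (hyp 0)) hxy0) (by norm_num)
    have hy0p : herm q y0 p = 0 := hy0o 0
    have hy0b : herm q y0 b' = 0 := by
      rw [show b' = x + y from hxy, herm_add_right hF, show herm q y0 x = 0 from hy0o 1, show herm q y0 y = 0 from hy0o 2, add_zero]
    have hmb' : herm q m b' = herm q m b := by
      rw [hb', herm_sub_right hF, herm_smul_right hF, hmp, mul_zero, sub_zero]
    obtain ⟨K, hK⟩ : ∃ K : F, K ^ (q + 1) ≠ ν := by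
      by_cases h : ν = 0
      · exact ⟨1, by rw [h, one_pow]; exact one_ne_zero⟩
      · exact ⟨0, by rw [zero_pow (by omega)]; exact Ne.symm h⟩
    set σ := ((K - herm q m y0) / herm q m b') ^ q with hσ
    refine ⟨y0 + σ • b', ?_, ?_, hperp _ ?_ ?_, ?_⟩
    · rw [herm_add_left, herm_add_right hF, herm_add_right hF, herm_smul_left, herm_smul_left, herm_smul_right hF,
        herm_smul_right hF, hy0, hy0b, cm hy0b, hb'b']
      ring
    · rw [herm_add_left, herm_smul_left, hy0p, hb'p, mul_zero, add_zero]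
    · rw [herm_add_left, herm_smul_left, hy0p, hb'p, mul_zero, add_zero]
    · rw [herm_add_left, herm_smul_left, hy0b, hb'b', mul_zero, add_zero]
    · rw [herm_add_right hF, herm_smul_right hF, hσ, pow_q_pow_q hF, div_mul_cancel₀ _ (by rw [hmb']; exact hmb),
        add_sub_cancel]
      exact hK
  · -- non-degenerate
    have hb'0 : herm q b' b' ≠ 0 := by rw [hb'b', sub_ne_zero]; exact Ne.symm hc1
    have hp0 : herm q p p ≠ 0 := by rw [hp]; exact one_ne_zero
    obtain ⟨y1, hy1, hy1o⟩ := exists_norm_one_perp hF (n := 4) (orth_two hF hp0 hb'0 (cm hb'p)) (by norm_num)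
    have hy1p : herm q y1 p = 0 := hy1o 0
    have hy1b : herm q y1 b' = 0 := hy1o 1
    obtain ⟨y2, hy2, hy2o⟩ := exists_norm_one_perp hF (n := 4) (orth_three hF (x := p) (y := b') (z := y1) hp0 hb'0
      (by rw [hy1]; exact one_ne_zero) (cm hb'p) (cm hy1p) (cm hy1b)) (by norm_num)
    have hy2p : herm q y2 p = 0 := hy2o 0
    have hy2b : herm q y2 b' = 0 := hy2o 1
    have hy21 : herm q y2 y1 = 0 := hy2o 2
    by_cases h1 : herm q m y1 ^ (q + 1) = ν
    swap
    · exact ⟨y1, hy1, hy1p, hperp _ hy1p hy1b, h1⟩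
    by_cases h2 : herm q m y2 ^ (q + 1) = ν
    swap
    · exact ⟨y2, hy2, hy2p, hperp _ hy2p hy2b, h2⟩
    by_cases hν0 : ν = 0
    · exfalso
      rw [hν0] at h1 h2
      have u0 : herm q m y1 = 0 := (pow_eq_zero_iff (by omega)).1 h1
      have w0 : herm q m y2 = 0 := (pow_eq_zero_iff (by omega)).1 h2
      set k := herm q m b' / herm q b' b' with hk
      have hmk : m = k • b' := sub_eq_zero.1 (eq_zero_of_orth_four hF
        (orth_four hF (x := p) (y := b') (z := y1) (w := y2) hp0 hb'0 (by rw [hy1]; exact one_ne_zero)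
          (by rw [hy2]; exact one_ne_zero) (cm hb'p) (cm hy1p) (cm hy2p) (cm hy1b) (cm hy2b) (cm hy21)) fun i => by
        rw [herm_sub_left, herm_smul_left]
        fin_cases i
        · show herm q m p - k * herm q b' p = 0; rw [hmp, hb'p, mul_zero, sub_zero]
        · show herm q m b' - k * herm q b' b' = 0; rw [hk, div_mul_cancel₀ _ hb'0, sub_self]
        · show herm q m y1 - k * herm q b' y1 = 0; rw [u0, cm hy1b, mul_zero, sub_zero]
        · show herm q m y2 - k * herm q b' y2 = 0; rw [w0, cm hy2b, mul_zero, sub_zero])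
      set N := herm q b' b' with hN
      have hmb' : herm q m b = k * N := by
        rw [hmk, herm_smul_left, show b = b' + c • p by rw [hb', sub_add_cancel], herm_add_right hF,
          herm_smul_right hF, hb'p, mul_zero, add_zero]
      have hnk : k * k ^ q * N = 1 := by
        rw [hmk, herm_smul_left, herm_smul_right hF] at hm
        linear_combination hm
      have hNq : N ^ q = N := herm_self_fixed hF b'
      rw [hν, sub_eq_zero, hmb', mul_pow, pow_succ, pow_succ, hNq] at hν0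
      have hN1 : N = 1 := by linear_combination -hν0 - N * hnk
      rw [hN1] at hb'b'
      exact pow_ne_zero _ hbp (sub_eq_self.1 hb'b'.symm)
    set u := herm q m y1 with hu
    set w := herm q m y2 with hw
    have hu0 : u ≠ 0 := fun e => hν0 (by rw [← h1, e, zero_pow (by omega)])
    have hw0 : w ≠ 0 := fun e => hν0 (by rw [← h2, e, zero_pow (by omega)])
    obtain ⟨T, hT, hTn⟩ := exists_fixed_avoid hF ({0, -1} : Finset F) (lt_of_le_of_lt Finset.card_le_two (by omega))
    simp only [Finset.mem_insert, Finset.mem_singleton, not_or] at hTn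
    obtain ⟨β, hβ⟩ := exists_norm_eq hF hT
    have hβ0 : β ≠ 0 := fun e => hTn.1 (by rw [← hβ, e, zero_pow (by omega)])
    obtain ⟨ω, hω, hne'⟩ := exists_trace_avoid hF (X := u ^ q * β ^ q * w)
      (mul_ne_zero (mul_ne_zero (pow_ne_zero _ hu0) (pow_ne_zero _ hβ0)) hw0) 0
    set a0 := ω • y1 + β • y2 with ha0
    have hNa : herm q a0 a0 = 1 + T := by
      rw [ha0, herm_add_left, herm_add_right hF, herm_add_right hF, herm_smul_left, herm_smul_left, herm_smul_left,
        herm_smul_left, herm_smul_right hF, herm_smul_right hF, herm_smul_right hF, herm_smul_right hF, hy1, hy2,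
        hy21, cm hy21, ← hβ]
      rw [pow_succ] at hω ⊢
      linear_combination hω
    have hT1 : 1 + T ≠ 0 := fun e => hTn.2 (by linear_combination e)
    obtain ⟨κ, hκ⟩ := exists_norm_eq hF (t := 1 + T) (by rw [add_pow_q hF, one_pow, hT])
    have hκ0 : κ ≠ 0 := fun e => hT1 (by rw [← hκ, e, zero_pow (by omega)])
    have ha0p : herm q a0 p = 0 := by
      rw [ha0, herm_add_left, herm_smul_left, herm_smul_left, hy1p, hy2p, mul_zero, mul_zero, add_zero]
    have ha0b : herm q a0 b' = 0 := by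
      rw [ha0, herm_add_left, herm_smul_left, herm_smul_left, hy1b, hy2b, mul_zero, mul_zero, add_zero]
    refine ⟨κ⁻¹ • a0, ?_, ?_, ?_, ?_⟩
    · rw [herm_smul_left, herm_smul_right hF, hNa, ← hκ, inv_pow, pow_succ]; field_simp
    · rw [herm_smul_left, ha0p, mul_zero]
    · rw [herm_smul_left, hperp _ ha0p ha0b, mul_zero]
    · rw [herm_smul_right hF, ha0, herm_add_right hF, herm_smul_right hF, herm_smul_right hF, ← hu, ← hw, mul_pow,
        ← pow_mul, mul_comm q, pow_mul, inv_pow, hκ, inv_pow, add_pow_q hF, one_pow, hT]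
      intro h
      field_simp at h
      refine hne' ?_
      rw [pow_succ] at h h1 h2 hω hβ
      simp only [mul_pow, add_pow_q hF, pow_q_pow_q hF] at h ⊢
      linear_combination h - u * u ^ q * hω - w * w ^ q * hβ - h1 - T * h2

theorem lifted_adj (hq3 : 3 ≤ q) (hq : 4 ≤ q ∨ Base4 φ K s) {h b : H} (hh : Lifted (φ := φ) (K := K) (s := s) h) (hb : Adj K s h b) :
    Lifted (φ := φ) (K := K) (s := s) b := by
  have e1 := vec_one (φ := φ) hc hF
  have e0 : herm q (eI 0) (eI 0 : Fin 4 → F) = 1 := by rw [herm_eI_eI hF, if_pos rfl]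
  have hor := adj_orth hc hF hb
  have fromK : h ∈ K → Adj K s 1 b := fun hK => adj_congr_left (by simpa using hK) hb
  have orth0 : ∀ {x : H}, Adj K s 1 x → herm q (vec φ x) (eI 0) = 0 := fun hx => by
    rw [herm_eq_zero_comm hF, ← e1]; exact adj_orth hc hF hx
  refine ⟨fun hp => ?_, fun hp => ?_, fun hp1 hp2 => ?_⟩
  · have : Adj K s h 1 := adj_symm hc (hh.2.1 (herm_par hc hF (par_symm hc hF (vec_norm hc hF b) hp) hor))
    simpa using same_of_par hc hF this hb (by rwa [e1])
  · by_cases hP : Par (vec φ h) (eI 0)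
    · exact fromK (hh.1 hP)
    by_cases hO : herm q (vec φ h) (eI 0) = 0
    · exact adj_of_orth hc hF (adj_symm hc (hh.2.1 hO)) hb (by rw [e1, herm_eq_zero_comm hF]; exact hp)
    obtain ⟨m, hm, hv⟩ := exists_adj hc hF 1 (z := vec φ b) (vec_norm hc hF b) (by rwa [e1])
    have hmh : Adj K s m h := hh.2.2 hP hO m hm (by rw [hv]; exact (herm_eq_zero_comm hF).1 hor)
    exact adj_congr_right (same_of_par hc hF (adj_symm hc hmh) hb ⟨1, by rw [one_smul, hv]⟩) hm
  · by_cases hP : Par (vec φ h) (eI 0)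
    · exact absurd (orth0 (fromK (hh.1 hP))) hp2
    by_cases hO : herm q (vec φ h) (eI 0) = 0
    · exact good_of_mid hc hF hq (hh.2.1 hO) hb hp1 hp2
    obtain ⟨z0, hz0, hz0o⟩ : ∃ z, herm q z z = 1 ∧ herm q z (vec φ h) = 0 ∧ herm q z (eI 0) = 0 := by
      by_cases hn : herm q (vec φ h) (eI 0) ^ (q + 1) = 1
      · obtain ⟨h1, h2⟩ := herm_sub_proj hF e0 (vec φ h)
        rw [vec_norm hc hF, hn, sub_self] at h1
        obtain ⟨x, y, hxy, hxx, hyy, hxy0, hxp, hyp⟩ := exists_split hF (orth_one hF (by rw [e0]; exact one_ne_zero))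
          h1 (fun e => hP ⟨_, sub_eq_zero.1 e⟩) (fun i => by rw [Subsingleton.elim i 0]; exact h2)
        obtain ⟨z, hz, hzo⟩ := exists_norm_one_perp hF (n := 4) (orth_three hF (x := eI 0) (y := x) (z := y)
          (by rw [e0]; exact one_ne_zero) (by rw [hxx]; exact one_ne_zero) (by rw [hyy]; simp)
          ((herm_eq_zero_comm hF).1 (hxp 0)) ((herm_eq_zero_comm hF).1 (hyp 0)) hxy0) (by norm_num)
        refine ⟨z, hz, ?_, hzo 0⟩
        rw [show vec φ h = herm q (vec φ h) (eI 0) • eI 0 + (x + y) by rw [← hxy, add_sub_cancel],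
          herm_add_right hF, herm_smul_right hF, herm_add_right hF, show herm q z (eI 0) = 0 from hzo 0,
          show herm q z x = 0 from hzo 1, show herm q z y = 0 from hzo 2]
        simp
      · obtain ⟨h1, h2⟩ := herm_sub_proj hF e0 (vec φ h)
        rw [vec_norm hc hF] at h1
        obtain ⟨z, hz, hzo⟩ := exists_norm_one_perp hF (n := 4) (orth_two hF
          (y := vec φ h - herm q (vec φ h) (eI 0) • eI 0) (x := eI 0) (by rw [e0]; exact one_ne_zero)
          (by rw [h1, sub_ne_zero]; exact Ne.symm hn) ((herm_eq_zero_comm hF).1 h2)) (by norm_num)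
        have z0' : herm q z (eI 0) = 0 := hzo 0
        have z1' : herm q z (vec φ h - herm q (vec φ h) (eI 0) • eI 0) = 0 := hzo 1
        refine ⟨z, hz, ?_, z0'⟩
        rwa [herm_sub_right hF, herm_smul_right hF, z0', mul_zero, sub_zero] at z1'
    obtain ⟨hz0h, hz00⟩ := hz0o
    obtain ⟨m, hm, rfl⟩ := exists_adj hc hF 1 hz0 (by rwa [e1])
    have hmh : Adj K s m h := hh.2.2 hP hO m hm hz0h
    by_cases hmb : herm q (vec φ m) (vec φ b) = 0
    · exact good_of_mid hc hF hq hm (adj_of_orth hc hF (adj_symm hc hmh) hb hmb) hp1 hp2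
    obtain ⟨a, z, ⟨haa, ha0, hab⟩, hz, hza, hzm, hzb⟩ := exists_pair hF hq3 e0 (vec_norm hc hF b)
      (vec_norm hc hF m) hz00 hp2 hmb (fun c e => hp1 ⟨c, e⟩)
    -- replace the middle of the square through `h` by one through `z`
    have hmb' : ¬ Par (vec φ b) (vec φ m) := by
      rintro ⟨c, hc'⟩
      exact hp2 (by rw [hc', herm_smul_left, hz00, mul_zero])
    have hgood : Good (φ := φ) (K := K) (s := s) (q := q) (m⁻¹ * b) := by
      refine good_of_mid hc hF hq (m := m⁻¹ * h) (by rw [← inv_mul_cancel m]; exact adj_mul_left.2 hmh)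
        (adj_mul_left.2 hb) ?_ ?_
      · rintro ⟨c, hc'⟩
        refine hmb' ⟨c, ?_⟩
        rw [vec_mul, map_inv, inv_smul_eq_iff, smul_scalar] at hc'
        exact hc'
      · rw [vec_mul, map_inv, ← herm_smul_SU (φ m), smul_inv_smul]
        exact fun e => hmb ((herm_eq_zero_comm hF).1 e)
    obtain ⟨hz', hz'm, hz'v⟩ := exists_adj hc hF m hz hzm
    have hmz1 : Adj K s 1 (m⁻¹ * hz') := by
      rw [← inv_mul_cancel m]
      exact adj_mul_left.2 hz'm
    have hmz2 : herm q (vec φ (m⁻¹ * hz')) (vec φ (m⁻¹ * b)) = 0 := by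
      rw [vec_mul, vec_mul, herm_smul_SU, hz'v]
      exact hzb
    have hz'b : Adj K s hz' b := (adj_mul_left (g := m⁻¹)).1 (hgood _ hmz1 hmz2)
    by_cases hzP : Par (vec φ hz') (eI 0)
    · exfalso
      obtain ⟨c, hc'⟩ := hzP
      rw [hz'v] at hc'
      rw [hc', herm_smul_left, mul_eq_zero] at hzb
      rcases hzb with rfl | hzb
      · rw [zero_smul] at hc'; rw [hc', herm_zero_left] at hz; exact zero_ne_one hz
      · exact hp2 ((herm_eq_zero_comm hF).1 hzb)
    by_cases hzO : herm q (vec φ hz') (eI 0) = 0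
    · exact good_of_mid hc hF hq (adj_of_orth hc hF (adj_symm hc hm) hz'm (by
        rw [e1, herm_eq_zero_comm hF]; exact hzO)) hz'b hp1 hp2
    obtain ⟨ma, hma, hva⟩ := exists_adj hc hF 1 haa (by rwa [e1])
    have hmaz : Adj K s ma hz' := good_of_mid hc hF hq hm hz'm hzP hzO ma hma (by
      rw [hva, hz'v, herm_eq_zero_comm hF]; exact hza)
    exact good_of_mid hc hF hq hma (adj_of_orth hc hF (adj_symm hc hmaz) hz'b (by rw [hva]; exact hab)) hp1 hp2

/-- The covering map is injective. -/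
theorem cov4_injective_of (hq3 : 3 ≤ q) (hq : 4 ≤ q ∨ Base4 φ K s) (h : H) (hh : φ h = 1) : h = 1 := by
  have key : ∀ h, Lifted (φ := φ) (K := K) (s := s) h := fun h => by
    have hmem : h ∈ Subgroup.closure ((K : Set H) ∪ {s}) := hc.gen ▸ Subgroup.mem_top h
    induction hmem using Subgroup.closure_induction_right with
    | one => exact lifted_one hc hF
    | mul_right x y _ hy hx =>
      rcases hy with hy | hy
      · exact lifted_mul_mem hc hF hx hy
      · rw [Set.mem_singleton_iff.1 hy]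
        exact lifted_adj hc hF hq3 hq hx ⟨1, one_mem K, 1, one_mem K, by group⟩
    | mul_inv_cancel x y _ hy hx =>
      rcases hy with hy | hy
      · exact lifted_mul_mem hc hF hx (inv_mem hy)
      · rw [Set.mem_singleton_iff.1 hy]
        exact lifted_adj hc hF hq3 hq hx ⟨(s * s)⁻¹, inv_mem hc.ss, 1, one_mem K, by group⟩
  exact hc.inj h ((key h).1 ⟨1, by rw [vec, hh, one_smul, one_smul]⟩) hh

/-- The covering map is injective for larger fields. -/
theorem cov4_injective (hq : 4 ≤ q) (h : H) (hh : φ h = 1) : h = 1 :=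
  cov4_injective_of hc hF (by omega) (Or.inl hq) h hh

end Cfsg.Agent.KSG55.Phan.Four
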