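import Cfsg.Agent.KSG55.SUStep.Geom

/-!
Coordinate embeddings of special unitary groups, semilinear diagonal automorphisms, consecutive blocks.
-/

set_option autoImplicit false
set_option linter.unusedSectionVars false

namespace Cfsg.Agent.KSG55.Phan

open Cfsg.Agent.Unitary Matrix Cfsg.Agent.KSG55.SUStep

variable {F : Type*} [Field F] [Fintype F] {a b c q : ℕ}

/-- The incidence matrix of an embedding. -/
def incl (f : Fin a ↪ Fin b) : Matrix (Fin b) (Fin a) F := Matrix.of fun i j => if f j = i then 1 else 0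

/-- A matrix placed on the image of an embedding. -/
def emat (f : Fin a ↪ Fin b) (A : Matrix (Fin a) (Fin a) F) : Matrix (Fin b) (Fin b) F :=
  1 + (incl f : Matrix (Fin b) (Fin a) F) * ((A - 1) * (incl f : Matrix (Fin b) (Fin a) F)ᵀ)

theorem incl_transpose_mulVec (f : Fin a ↪ Fin b) (v : Fin b → F) :
    (incl f : Matrix (Fin b) (Fin a) F)ᵀ *ᵥ v = v ∘ f := by
  funext i
  simp [incl, Matrix.mulVec, dotProduct]

theorem incl_mulVec_apply (f : Fin a ↪ Fin b) (w : Fin a → F) (i : Fin a) :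
    ((incl f : Matrix (Fin b) (Fin a) F) *ᵥ w) (f i) = w i := by
  simp [incl, Matrix.mulVec, dotProduct]

theorem incl_mulVec_off (f : Fin a ↪ Fin b) (w : Fin a → F) {j : Fin b} (h : ∀ i, f i ≠ j) :
    ((incl f : Matrix (Fin b) (Fin a) F) *ᵥ w) j = 0 := by
  simp [incl, Matrix.mulVec, dotProduct, h]

theorem emat_apply (f : Fin a ↪ Fin b) (A : Matrix (Fin a) (Fin a) F) (v : Fin b → F) (i : Fin a) :
    (emat f A *ᵥ v) (f i) = (A *ᵥ (v ∘ f)) i := by
  rw [emat, Matrix.add_mulVec, Matrix.one_mulVec, Pi.add_apply, ← Matrix.mulVec_mulVec, incl_mulVec_apply,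
    ← Matrix.mulVec_mulVec, incl_transpose_mulVec, Matrix.sub_mulVec, Matrix.one_mulVec, Pi.sub_apply,
    Function.comp_apply]
  ring

theorem emat_off (f : Fin a ↪ Fin b) (A : Matrix (Fin a) (Fin a) F) (v : Fin b → F) {j : Fin b}
    (h : ∀ i, f i ≠ j) : (emat f A *ᵥ v) j = v j := by
  rw [emat, Matrix.add_mulVec, Matrix.one_mulVec, Pi.add_apply, ← Matrix.mulVec_mulVec, incl_mulVec_off _ _ h,
    add_zero]

theorem det_emat (f : Fin a ↪ Fin b) (A : Matrix (Fin a) (Fin a) F) : (emat f A).det = A.det := by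
  rw [emat, Matrix.det_one_add_mul_comm, Matrix.mul_assoc]
  rw [show (incl f : Matrix (Fin b) (Fin a) F)ᵀ * (incl f : Matrix (Fin b) (Fin a) F) = 1 by
    ext i j; simp [incl, Matrix.mul_apply, Matrix.one_apply, eq_comm]]
  simp

theorem ext_parts (f : Fin a ↪ Fin b) {x y : Fin b → F} (h1 : ∀ i, x (f i) = y (f i))
    (h2 : ∀ j, (∀ i, f i ≠ j) → x j = y j) : x = y := by
  funext j
  by_cases h : ∃ i, f i = j
  · obtain ⟨i, rfl⟩ := h; exact h1 i
  · exact h2 j (not_exists.1 h)

/-- The form splits along an embedding. -/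
theorem herm_split (f : Fin a ↪ Fin b) (u v : Fin b → F) :
    herm q u v = herm q (u ∘ f) (v ∘ f) + ∑ j ∈ (Finset.univ.map f)ᶜ, u j * v j ^ q := by
  rw [herm, hermForm, ← Finset.sum_add_sum_compl (Finset.univ.map f) (fun j => u j * v j ^ q), Finset.sum_map]
  rfl

/-- A special unitary group on a set of coordinates. -/
def emap (f : Fin a ↪ Fin b) : SU a F q →* SU b F q :=
  MonoidHom.mk' (fun A => ⟨⟨emat f (A.1 : Matrix (Fin a) (Fin a) F), by rw [det_emat]; exact A.1.2⟩, fun u v => by
    show herm q (emat f (A.1 : Matrix (Fin a) (Fin a) F) *ᵥ u) (emat f (A.1 : Matrix (Fin a) (Fin a) F) *ᵥ v) =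
      herm q u v
    have he : ∀ w : Fin b → F, (emat f (A.1 : Matrix (Fin a) (Fin a) F) *ᵥ w) ∘ f =
        (A.1 : Matrix (Fin a) (Fin a) F) *ᵥ (w ∘ f) := fun w => funext fun i => emat_apply f _ w i
    rw [herm_split f, herm_split f u v, he, he]
    refine congrArg₂ (· + ·) (A.2 _ _) (Finset.sum_congr rfl fun j hj => ?_)
    rw [Finset.mem_compl, Finset.mem_map] at hj
    push Not at hj
    rw [emat_off f _ _ fun i => hj i (Finset.mem_univ i), emat_off f _ _ fun i => hj i (Finset.mem_univ i)]⟩)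
    fun A B => eq_of_smul_eq_SU fun v => by
      rw [mul_smul]
      show emat f ((A * B : SU a F q).1 : Matrix (Fin a) (Fin a) F) *ᵥ v =
        emat f (A.1 : Matrix (Fin a) (Fin a) F) *ᵥ (emat f (B.1 : Matrix (Fin a) (Fin a) F) *ᵥ v)
      refine ext_parts f (fun i => ?_) fun j h => ?_
      · rw [emat_apply, emat_apply, show (emat f (B.1 : Matrix (Fin a) (Fin a) F) *ᵥ v) ∘ f =
          (B.1 : Matrix (Fin a) (Fin a) F) *ᵥ (v ∘ f) from funext fun i => emat_apply f _ v i, Matrix.mulVec_mulVec]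
        rfl
      · rw [emat_off f _ _ h, emat_off f _ _ h, emat_off f _ _ h]

theorem emap_apply (f : Fin a ↪ Fin b) (A : SU a F q) (v : Fin b → F) (i : Fin a) :
    (emap f A • v) (f i) = (A • (v ∘ f)) i := emat_apply f _ v i

theorem emap_off (f : Fin a ↪ Fin b) (A : SU a F q) (v : Fin b → F) {j : Fin b} (h : ∀ i, f i ≠ j) :
    (emap f A • v) j = v j := emat_off f _ v h

theorem emap_injective (f : Fin a ↪ Fin b) : Function.Injective (emap f : SU a F q → SU b F q) := fun A B h =>
  eq_of_smul_eq_SU fun w => funext fun i => by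
    have := congrArg (fun g : SU b F q => (g • (Function.extend f w 0)) (f i)) h
    simp only [emap_apply] at this
    rwa [show Function.extend f w 0 ∘ f = w from funext fun j => f.injective.extend_apply w 0 j] at this

theorem emap_comp (f : Fin b ↪ Fin c) (g : Fin a ↪ Fin b) :
    (emap f).comp (emap g) = (emap (g.trans f) : SU a F q →* SU c F q) :=
  MonoidHom.ext fun A => eq_of_smul_eq_SU fun v => by
    refine ext_parts f (fun i => ?_) fun j h => ?_
    · rw [MonoidHom.comp_apply, emap_apply]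
      by_cases h : ∃ l, g l = i
      · obtain ⟨l, rfl⟩ := h
        rw [emap_apply]
        exact (emap_apply (g.trans f) A v l).symm
      · rw [emap_off g _ _ (not_exists.1 h), emap_off (g.trans f) A v fun l e => h ⟨l, f.injective e⟩]
        rfl
    · rw [MonoidHom.comp_apply, emap_off f _ _ h, emap_off (g.trans f) A v fun l => h (g l)]

theorem emap_refl (A : SU a F q) : emap (Function.Embedding.refl _) A = A :=
  eq_of_smul_eq_SU fun v => funext fun i => emap_apply (Function.Embedding.refl _) A v i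

theorem emap_commute {a' : ℕ} (f : Fin a ↪ Fin b) (g : Fin a' ↪ Fin b) (h : ∀ i j, f i ≠ g j) (A : SU a F q)
    (B : SU a' F q) : Commute (emap f A : SU b F q) (emap g B) := eq_of_smul_eq_SU fun v => by
  rw [mul_smul, mul_smul]
  refine ext_parts f (fun i => ?_) fun j hj => ?_
  · rw [emap_apply, show (emap g B • v) ∘ f = v ∘ f from funext fun l => emap_off g B v fun j e => h l j e.symm,
      emap_off g B _ fun j e => h i j e.symm, emap_apply]
  · rw [emap_off f _ _ hj]
    by_cases hg : ∃ l, g l = j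
    · obtain ⟨l, rfl⟩ := hg
      rw [emap_apply, emap_apply, show (emap f A • v) ∘ g = v ∘ g from funext fun m => emap_off f A v fun i => h i m]
    · rw [emap_off g _ _ (not_exists.1 hg), emap_off g _ _ (not_exists.1 hg), emap_off f _ _ hj]

/-- An element fixing the remaining coordinates comes from the embedded group. -/
theorem exists_emap (hF : Fintype.card F = q ^ 2) (f : Fin a ↪ Fin b) {g : SU b F q}
    (h : ∀ j, (∀ i, f i ≠ j) → g • (eI j : Fin b → F) = eI j) : ∃ A, emap f A = g := by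
  classical
  set M : Matrix (Fin a) (Fin a) F := (g.1 : Matrix (Fin b) (Fin b) F).submatrix f f with hM
  have hoff : ∀ (v : Fin b → F) j, (∀ i, f i ≠ j) → (g • v) j = v j := fun v j hj => by
    rw [← herm_eI_right hF j (g • v), ← h j hj, herm_smul_SU, herm_eI_right hF]
  have hin : ∀ (v : Fin b → F) i, (g • v) (f i) = (M *ᵥ (v ∘ f)) i := by
    intro v i
    show ((g.1 : Matrix (Fin b) (Fin b) F) *ᵥ v) (f i) = _
    simp only [Matrix.mulVec, dotProduct]
    rw [← Finset.sum_add_sum_compl (Finset.univ.map f), Finset.sum_map, Finset.sum_eq_zero (s := (Finset.univ.map f)ᶜ)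
      fun j hj => ?_, add_zero]
    · rfl
    · rw [Finset.mem_compl, Finset.mem_map] at hj
      push Not at hj
      have hj' : ∀ i, f i ≠ j := fun i => hj i (Finset.mem_univ i)
      have h1 : ((g.1 : Matrix (Fin b) (Fin b) F) *ᵥ Pi.single j 1) (f i) = (eI j : Fin b → F) (f i) :=
        congrFun (h j hj') (f i)
      rw [Matrix.mulVec_single_one] at h1
      change (g.1 : Matrix (Fin b) (Fin b) F) (f i) j = _ at h1
      rw [h1, show (eI j : Fin b → F) (f i) = 0 by simp [eI, hj' i], zero_mul]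
  have hge : ∀ v, g • v = emat f M *ᵥ v := fun v =>
    ext_parts f (fun i => by rw [hin, emat_apply]) fun j hj => by rw [hoff v j hj, emat_off f _ _ hj]
  refine ⟨⟨⟨M, ?_⟩, fun u w => ?_⟩, eq_of_smul_eq_SU fun v => (hge v).symm⟩
  · rw [← det_emat f]
    have : emat f M = (g.1 : Matrix (Fin b) (Fin b) F) :=
      Matrix.ext_of_mulVec_single fun i => (hge (Pi.single i 1)).symm
    rw [this]; exact g.1.2
  · show herm q (M *ᵥ u) (M *ᵥ w) = herm q u w
    have hx : ∀ x : Fin a → F, (g • Function.extend f x 0) ∘ f = M *ᵥ x ∧ Function.extend f x 0 ∘ f = x := fun x =>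
      have e : Function.extend f x 0 ∘ f = x := funext fun j => f.injective.extend_apply x 0 j
      ⟨funext fun i => by rw [Function.comp_apply, hin, e], e⟩
    have := herm_smul_SU g (Function.extend f u 0) (Function.extend f w 0)
    rw [herm_split f, herm_split f (Function.extend f u 0), (hx u).1, (hx w).1, (hx u).2, (hx w).2,
      Finset.sum_congr rfl fun j hj => ?_] at this
    · exact add_right_cancel this
    · rw [Finset.mem_compl, Finset.mem_map] at hj
      push Not at hj
      rw [hoff _ j fun i => hj i (Finset.mem_univ i), hoff _ j fun i => hj i (Finset.mem_univ i)]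

/-! ### Consecutive blocks -/

/-- The shift by `k`. -/
def shift (k : ℕ) {a b : ℕ} (h : k + a ≤ b) : Fin a ↪ Fin b :=
  ⟨fun i => ⟨k + i, by omega⟩, fun i j e => Fin.ext (by simpa using e)⟩

theorem shift_val (k : ℕ) {a b : ℕ} (h : k + a ≤ b) (i : Fin a) : (shift k h i).1 = k + i.1 := rfl

/-- The block of size `a` starting at `k`. -/
def bl (b a k : ℕ) : SU a F q →* SU b F q := if h : k + a ≤ b then emap (shift k h) else 1

theorem bl_eq {k : ℕ} (h : k + a ≤ b) : (bl b a k : SU a F q →* SU b F q) = emap (shift k h) := dif_pos h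

theorem bl_injective {k : ℕ} (h : k + a ≤ b) : Function.Injective (bl b a k : SU a F q → SU b F q) := by
  rw [bl_eq h]; exact emap_injective _

theorem bl_comp {k l : ℕ} (h1 : k + b ≤ c) (h2 : l + a ≤ b) :
    (bl c b k).comp (bl b a l) = (bl c a (k + l) : SU a F q →* SU c F q) := by
  rw [bl_eq h1, bl_eq h2, bl_eq (by omega : k + l + a ≤ c), emap_comp]
  congr 1
  ext i
  show k + (l + i.1) = k + l + i.1
  omega

theorem bl_comp_apply {k l m : ℕ} (h1 : k + b ≤ c) (h2 : l + a ≤ b) (e : k + l = m) (A : SU a F q) :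
    bl c b k (bl b a l A) = bl c a m A := e ▸ DFunLike.congr_fun (bl_comp h1 h2) A

theorem bl_self (A : SU a F q) : bl a a 0 A = A := by
  rw [bl_eq (by omega), show shift 0 (show 0 + a ≤ a by omega) = Function.Embedding.refl _ from
    Function.Embedding.ext fun i => Fin.ext (Nat.zero_add _), emap_refl]

theorem bl_commute {a' k l : ℕ} (hk : k + a ≤ l) (hl : l + a' ≤ b) (A : SU a F q) (B : SU a' F q) :
    Commute (bl b a k A : SU b F q) (bl b a' l B) := by
  rw [bl_eq (by omega), bl_eq hl]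
  exact emap_commute _ _ (fun i j e => by have := congrArg Fin.val e; simp [shift_val] at this; omega) A B

theorem bl_fix (hF : Fintype.card F = q ^ 2) {k : ℕ} (h : k + a ≤ b) (A : SU a F q) {j : Fin b}
    (hj : (j : ℕ) < k ∨ k + a ≤ j) : bl b a k A • (eI j : Fin b → F) = eI j := by
  rw [bl_eq h]
  have hne : ∀ i, shift k h i ≠ j := fun i e => by have := congrArg Fin.val e; simp [shift_val] at this; omega
  refine ext_parts (shift k h) (fun i => ?_) fun l hl => emap_off _ A _ hl
  rw [emap_apply, show (eI j : Fin b → F) ∘ shift k h = 0 from funext fun l => by simp [eI, hne l]]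
  show ((A.1 : Matrix (Fin a) (Fin a) F) *ᵥ 0) i = _
  simp [eI, hne i]

theorem exists_bl (hF : Fintype.card F = q ^ 2) {k : ℕ} (h : k + a ≤ b) {g : SU b F q}
    (hg : ∀ j : Fin b, (j : ℕ) < k ∨ k + a ≤ j → g • (eI j : Fin b → F) = eI j) : ∃ A, bl b a k A = g := by
  rw [bl_eq h]
  refine exists_emap hF _ fun j hj => hg j ?_
  by_contra hc
  push Not at hc
  exact hj ⟨j - k, by omega⟩ (Fin.ext (by simp [shift_val]; omega))

theorem bl_smul_in {k : ℕ} (h : k + a ≤ b) (A : SU a F q) (v : Fin b → F) (i : Fin a) :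
    (bl b a k A • v) (shift k h i) = (A • (v ∘ shift k h)) i := by
  rw [bl_eq h, emap_apply]

/-- The image of a basis vector in a block. -/
theorem bl_smul_eI {k : ℕ} (h : k + a ≤ b) {A : SU a F q} {i j : Fin a} {t : F}
    (hA : A • (eI i : Fin a → F) = t • eI j) :
    bl b a k A • (eI (shift k h i) : Fin b → F) = t • eI (shift k h j) := by
  refine ext_parts (shift k h) (fun l => ?_) fun l hl => ?_
  · rw [bl_smul_in h, show (eI (shift k h i) : Fin b → F) ∘ shift k h = eI i from
      funext fun m => by simp [eI, Pi.single_apply, (shift k h).injective.eq_iff], hA]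
    simp [eI, Pi.single_apply, (shift k h).injective.eq_iff]
  · rw [bl_eq h, emap_off _ A _ hl]
    simp [eI, Pi.single_apply, Ne.symm (hl i), Ne.symm (hl j)]

theorem lineSmul {n : ℕ} (g : SU n F q) (c : F) (v : Fin n → F) : g • (c • v) = c • (g • v) :=
  Matrix.mulVec_smul _ c v

/-! ### Semilinear diagonal automorphisms -/

/-- The semilinear diagonal map. -/
def tvec (τ : F ≃+* F) (d : Fin a → F) (v : Fin a → F) : Fin a → F := fun i => d i * τ (v i)

variable (hF : Fintype.card F = q ^ 2)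

theorem ne_zero_of_norm {x : F} (h : x ^ (q + 1) = 1) : x ≠ 0 := fun e => by
  rw [e, zero_pow (by omega)] at h; exact zero_ne_one h

theorem herm_tvec (τ : F ≃+* F) {d : Fin a → F} (hd : ∀ i, d i ^ (q + 1) = 1) (u v : Fin a → F) :
    herm q (tvec τ d u) (tvec τ d v) = τ (herm q u v) := by
  simp only [herm, hermForm, tvec, map_sum, map_mul, map_pow]
  refine Finset.sum_congr rfl fun i _ => ?_
  calc d i * τ (u i) * (d i * τ (v i)) ^ q = d i ^ (q + 1) * (τ (u i) * τ (v i) ^ q) := by ring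
    _ = _ := by rw [hd, one_mul]

/-- The matrix of the twisted element. -/
def tmat (τ : F ≃+* F) (d : Fin a → F) (M : Matrix (Fin a) (Fin a) F) : Matrix (Fin a) (Fin a) F :=
  Matrix.diagonal d * M.map τ * Matrix.diagonal fun i => (d i)⁻¹

theorem tmat_tvec (τ : F ≃+* F) {d : Fin a → F} (hd : ∀ i, d i ≠ 0) (M : Matrix (Fin a) (Fin a) F) (v : Fin a → F) :
    tmat τ d M *ᵥ tvec τ d v = tvec τ d (M *ᵥ v) := by
  funext i
  rw [tmat, ← Matrix.mulVec_mulVec, ← Matrix.mulVec_mulVec, Matrix.mulVec_diagonal]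
  simp only [tvec, Matrix.mulVec, dotProduct, map_sum, map_mul, Matrix.map_apply]
  congr 1
  refine Finset.sum_congr rfl fun j _ => ?_
  rw [Finset.sum_eq_single j (fun l _ hl => by simp [Matrix.diagonal, Ne.symm hl]) (by simp)]
  simp [hd j]

theorem tvec_surjective (τ : F ≃+* F) {d : Fin a → F} (hd : ∀ i, d i ≠ 0) (v : Fin a → F) :
    ∃ u, tvec τ d u = v := ⟨fun i => τ.symm ((d i)⁻¹ * v i), funext fun i => by simp [tvec, hd i]⟩

/-- The twist. -/
def twist (τ : F ≃+* F) (d : Fin a → F) (hd : ∀ i, d i ^ (q + 1) = 1) : SU a F q →* SU a F q :=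
  have h0 : ∀ i, d i ≠ 0 := fun i => ne_zero_of_norm (hd i)
  MonoidHom.mk' (fun g => ⟨⟨tmat τ d (g.1 : Matrix (Fin a) (Fin a) F), by
    rw [tmat, Matrix.det_mul, Matrix.det_mul, Matrix.det_diagonal, Matrix.det_diagonal, ← RingEquiv.mapMatrix_apply,
      ← RingEquiv.map_det, g.1.2, map_one, mul_one, ← Finset.prod_mul_distrib]
    exact Finset.prod_eq_one fun i _ => mul_inv_cancel₀ (h0 i)⟩, fun u v => by
    obtain ⟨u, rfl⟩ := tvec_surjective τ h0 u
    obtain ⟨v, rfl⟩ := tvec_surjective τ h0 v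
    show herm q (tmat τ d _ *ᵥ tvec τ d u) (tmat τ d _ *ᵥ tvec τ d v) = herm q (tvec τ d u) (tvec τ d v)
    rw [tmat_tvec τ h0, tmat_tvec τ h0, herm_tvec τ hd, herm_tvec τ hd]
    exact congrArg τ (g.2 u v)⟩)
    fun g h => eq_of_smul_eq_SU fun v => by
      obtain ⟨v, rfl⟩ := tvec_surjective τ h0 v
      rw [mul_smul]
      show tmat τ d ((g * h : SU a F q).1 : Matrix (Fin a) (Fin a) F) *ᵥ tvec τ d v = tmat τ d _ *ᵥ (tmat τ d _ *ᵥ tvec τ d v)
      rw [tmat_tvec τ h0, tmat_tvec τ h0, tmat_tvec τ h0, Matrix.mulVec_mulVec]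
      rfl

theorem twist_tvec (τ : F ≃+* F) {d : Fin a → F} (hd : ∀ i, d i ^ (q + 1) = 1) (g : SU a F q) (v : Fin a → F) :
    twist τ d hd g • tvec τ d v = tvec τ d (g • v) := tmat_tvec τ (fun i => ne_zero_of_norm (hd i)) _ v

theorem twist_injective (τ : F ≃+* F) {d : Fin a → F} (hd : ∀ i, d i ^ (q + 1) = 1) :
    Function.Injective (twist τ d hd : SU a F q → SU a F q) := fun g h e => eq_of_smul_eq_SU fun v => by
  have := congrArg (fun x : SU a F q => x • tvec τ d v) e
  simp only [twist_tvec] at this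
  funext i
  have hi := congrFun this i
  exact τ.injective (mul_left_cancel₀ (ne_zero_of_norm (hd i)) hi)

theorem twist_bl {k : ℕ} (h : k + a ≤ b) (τ : F ≃+* F) {d : Fin b → F} (hd : ∀ i, d i ^ (q + 1) = 1)
    {e : Fin a → F} (he : ∀ i, e i ^ (q + 1) = 1) (hde : ∀ i, d (shift k h i) = e i) (A : SU a F q) :
    twist τ d hd (bl b a k A) = bl b a k (twist τ e he A) := eq_of_smul_eq_SU fun v => by
  obtain ⟨v, rfl⟩ := tvec_surjective τ (fun i => ne_zero_of_norm (hd i)) v
  rw [twist_tvec]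
  refine ext_parts (shift k h) (fun i => ?_) fun j hj => ?_
  · rw [bl_smul_in h, show tvec τ d v ∘ shift k h = tvec τ e (v ∘ shift k h) from
      funext fun i => by simp [tvec, hde], twist_tvec]
    simp only [tvec, hde, bl_smul_in h]
  · rw [bl_eq h, emap_off _ _ _ hj]
    simp only [tvec, emap_off _ _ _ hj]

/-- A diagonal element. -/
def dg (d : Fin a → F) (hd : ∀ i, d i ^ (q + 1) = 1) (hp : ∏ i, d i = 1) : SU a F q :=
  ⟨⟨Matrix.diagonal d, by rw [Matrix.det_diagonal, hp]⟩, fun u v => by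
    show herm q (Matrix.diagonal d *ᵥ u) (Matrix.diagonal d *ᵥ v) = herm q u v
    simp only [herm, hermForm, Matrix.mulVec_diagonal]
    refine Finset.sum_congr rfl fun i _ => ?_
    calc d i * u i * (d i * v i) ^ q = d i ^ (q + 1) * (u i * v i ^ q) := by ring
      _ = _ := by rw [hd, one_mul]⟩

theorem dg_smul (d : Fin a → F) (hd : ∀ i, d i ^ (q + 1) = 1) (hp : ∏ i, d i = 1) (v : Fin a → F) :
    dg d hd hp • v = fun i => d i * v i := funext fun i => Matrix.mulVec_diagonal d v i

theorem dg_smul_eI (d : Fin a → F) (hd : ∀ i, d i ^ (q + 1) = 1) (hp : ∏ i, d i = 1) (i : Fin a) :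
    dg d hd hp • (eI i : Fin a → F) = d i • eI i := by
  rw [dg_smul]; funext j
  by_cases h : j = i
  · subst h; rfl
  · simp [eI, h]

theorem dg_conj (d : Fin a → F) (hd : ∀ i, d i ^ (q + 1) = 1) (hp : ∏ i, d i = 1) (g : SU a F q) :
    dg d hd hp * g = twist (RingEquiv.refl F) d hd g * dg d hd hp := eq_of_smul_eq_SU fun v => by
  rw [mul_smul, mul_smul, show dg d hd hp • v = tvec (RingEquiv.refl F) d v from dg_smul d hd hp v, twist_tvec,
    dg_smul]
  rfl

/-- The element of `SU₂` with given first row. -/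
def mk2 (x y : F) (h : x ^ (q + 1) + y ^ (q + 1) = 1) (hF : Fintype.card F = q ^ 2) : SU 2 F q :=
  ⟨⟨!![x, y; -y ^ q, x ^ q], by rw [Matrix.det_fin_two]; simp; linear_combination h⟩, fun u v => by
    show herm q (!![x, y; -y ^ q, x ^ q] *ᵥ u) (!![x, y; -y ^ q, x ^ q] *ᵥ v) = herm q u v
    simp [herm, hermForm, Matrix.mulVec, dotProduct, Fin.sum_univ_two, add_pow_q hF, neg_pow_q hF, sub_pow_q hF,
      mul_pow, pow_q_pow_q hF]
    linear_combination (u 0 * v 0 ^ q + u 1 * v 1 ^ q) * h⟩

theorem mk2_smul_zero (x y : F) (h : x ^ (q + 1) + y ^ (q + 1) = 1) (u : Fin 2 → F) :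
    (mk2 x y h hF • u) 0 = x * u 0 + y * u 1 := by
  show (!![x, y; -y ^ q, x ^ q] *ᵥ u) 0 = _
  simp [Matrix.mulVec, dotProduct, Fin.sum_univ_two]

end Cfsg.Agent.KSG55.Phan
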