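import Cfsg.Agent.KSG55.Phan.Embed

/-!
Norm one scalars and generation of `SU_m` by consecutive blocks of size two.
-/

set_option autoImplicit false
set_option linter.unusedSectionVars false

namespace Cfsg.Agent.KSG55.Phan

open Cfsg.Agent.Unitary Matrix Cfsg.Agent.KSG55.SUStep

variable {F : Type*} [Field F] [Fintype F] {q : ℕ} (hF : Fintype.card F = q ^ 2)

include hF

/-- A fixed scalar outside a small set. -/
theorem exists_fixed_avoid (s : Finset F) (hs : s.card < q) : ∃ T : F, T ^ q = T ∧ T ∉ s := by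
  classical
  have h := card_fixed hF
  rw [Nat.card_eq_fintype_card, Fintype.card_subtype] at h
  obtain ⟨T, hT, hn⟩ := Finset.exists_mem_notMem_of_card_lt_card
    (s := s) (t := Finset.univ.filter fun x : F => x ^ q = x) (by omega)
  exact ⟨T, (Finset.mem_filter.1 hT).2, hn⟩

/-- A norm one scalar outside a small set. -/
theorem exists_norm_avoid (s : Finset F) (hs : s.card ≤ q) : ∃ w : F, w ^ (q + 1) = 1 ∧ w ∉ s := by
  classical
  have h := card_norm_eq_one hF
  rw [Nat.card_eq_fintype_card, Fintype.card_subtype] at h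
  obtain ⟨T, hT, hn⟩ := Finset.exists_mem_notMem_of_card_lt_card
    (s := s) (t := Finset.univ.filter fun x : F => x ^ (q + 1) = 1) (by omega)
  exact ⟨T, (Finset.mem_filter.1 hT).2, hn⟩

/-- The trace of the norm one multiples of a nonzero scalar is not constant. -/
theorem exists_trace_avoid {X : F} (hX : X ≠ 0) (K : F) :
    ∃ w : F, w ^ (q + 1) = 1 ∧ w * X + (w * X) ^ q ≠ K := by
  classical
  by_contra hc
  push Not at hc
  have h2 := two_le_q hF
  obtain ⟨a, ha, -⟩ := exists_norm_avoid hF ∅ (by simp)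
  obtain ⟨b, hb, hba⟩ := exists_norm_avoid hF {a} (by simp; omega)
  obtain ⟨c, hc', hcab⟩ := exists_norm_avoid hF {a, b} (le_trans Finset.card_le_two h2)
  simp only [Finset.mem_insert, Finset.mem_singleton, not_or] at hba hcab
  have key : ∀ x y : F, x ^ (q + 1) = 1 → y ^ (q + 1) = 1 → x ≠ y → X * (x * y) = X ^ q := by
    intro x y hx hy hxy
    have hx' := hc x hx
    have hy' := hc y hy
    rw [mul_pow] at hx' hy'
    rw [pow_succ] at hx hy
    have h0 : (x - y) * (X * (x * y) - X ^ q) = 0 := by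
      linear_combination (x * y) * (hx'.trans hy'.symm) - y * X ^ q * hx + x * X ^ q * hy
    exact sub_eq_zero.1 ((mul_eq_zero.1 h0).resolve_left (sub_ne_zero.2 hxy))
  have hac := key a c ha hc' (Ne.symm hcab.1)
  have hab := key a b ha hb (Ne.symm hba)
  exact hcab.2 (mul_left_cancel₀ (ne_zero_of_norm ha) (mul_left_cancel₀ hX (hac.trans hab.symm)))

/-- Consecutive blocks of size two generate. -/
theorem gen_top (hq : 3 ≤ q) {m : ℕ} (hm : 2 ≤ m) : ∀ P : Subgroup (SU m F q),
    (∀ k, k + 2 ≤ m → ∀ A : SU 2 F q, bl m 2 k A ∈ P) → P = ⊤ := by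
  classical
  induction m, hm using Nat.le_induction with
  | base => exact fun P hP => eq_top_iff.2 fun g _ => by have := hP 0 le_rfl g; rwa [bl_self] at this
  | succ m hm ih =>
    intro P hP
    have hQ := ih (P.comap (bl (m + 1) m 1)) fun k hk A => by
      rw [Subgroup.mem_comap, bl_comp_apply (m := 1 + k) (by omega) hk rfl]
      exact hP _ (by omega) A
    have hfix : ∀ g : SU (m + 1) F q, g • (eI 0 : Fin (m + 1) → F) = eI 0 → g ∈ P := by
      intro g hg
      obtain ⟨A, rfl⟩ := exists_bl hF (k := 1) (a := m) (b := m + 1) (by omega) (g := g) fun j hj => by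
        rw [show j = 0 from Fin.ext (show (j : ℕ) = 0 by have := j.isLt; omega)]; exact hg
      have : A ∈ P.comap (bl (m + 1) m 1) := by rw [hQ]; trivial
      exact this
    set i1 : Fin (m + 1) := ⟨1, by omega⟩ with hi1
    have h01 : (0 : Fin (m + 1)) ≠ i1 := by simp [hi1, Fin.ext_iff]
    set S : Finset (Fin (m + 1)) := {0, i1}ᶜ with hS
    have hS2 : 2 ≤ Sᶜ.card := by rw [hS, compl_compl, Finset.card_pair h01]
    have heI : ∀ i, herm q (eI i) (eI i : Fin (m + 1) → F) = 1 := fun i => by rw [herm_eI_eI hF, if_pos rfl]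
    have hplane : ∀ v : Fin (m + 1) → F, herm q v v = 1 → v ∈ supp S → ∃ p ∈ P, p • v = eI 0 := by
      intro v hv hvS
      obtain ⟨p, hp, e⟩ := exists_fixS_one hF hS2 hvS (eI_mem_supp (i := 0) (by simp [hS])) hv (heI 0)
      obtain ⟨A, rfl⟩ := exists_bl hF (k := 0) (a := 2) (b := m + 1) (by omega) (g := p) fun j hj =>
        mem_fixS.1 hp j (by
          rw [hS, Finset.mem_compl, Finset.mem_insert, Finset.mem_singleton, hi1, Fin.ext_iff, Fin.ext_iff]
          simp only [Fin.val_zero]
          omega)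
      exact ⟨_, hP 0 (by omega) A, e⟩
    have hA : ∀ v : Fin (m + 1) → F, herm q v v = 1 → v 0 ^ (q + 1) ≠ 1 → ∃ p ∈ P, p • v = eI 0 := by
      intro v hv hv0
      set w := v - v 0 • eI 0 with hw
      have hw0 : w 0 = 0 := by simp [hw, eI]
      have hsum : v = v 0 • eI 0 + w := by rw [hw]; abel
      have he0w : herm q (eI 0) w = 0 := by rw [herm_eI_left, hw0, zero_pow_q hF]
      have hww : herm q w w = 1 - v 0 ^ (q + 1) := by
        have h := hv
        rw [hsum, herm_add_left, herm_add_right hF, herm_add_right hF, herm_smul_left, herm_smul_left,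
          herm_smul_right hF, heI 0, herm_smul_right hF, he0w, (herm_eq_zero_comm hF).1 he0w] at h
        rw [← h, pow_succ]; ring
      have hne : herm q w w ≠ 0 := by rw [hww, sub_ne_zero]; exact Ne.symm hv0
      obtain ⟨c, hc⟩ := exists_norm_eq hF (t := herm q w w) (herm_self_fixed hF w)
      have hc0 : c ≠ 0 := fun e => hne (by rw [← hc, e, zero_pow (by omega)])
      obtain ⟨p, hp, e⟩ := exists_fixS_one hF (S := {(0 : Fin (m + 1))})
        (by rw [Finset.card_compl, Fintype.card_fin]; simp; omega) (x := c⁻¹ • w) (x' := eI i1)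
        (fun i hi => by rw [Finset.mem_singleton.1 hi, Pi.smul_apply, hw0, smul_zero])
        (eI_mem_supp (by simp [hi1, Fin.ext_iff]))
        (by rw [herm_smul_left, herm_smul_right hF, ← hc, inv_pow, pow_succ]; field_simp) (heI i1)
      have hp0 : p • (eI 0 : Fin (m + 1) → F) = eI 0 := mem_fixS.1 hp 0 (Finset.mem_singleton_self 0)
      have hpv : p • v = v 0 • eI 0 + c • eI i1 := by
        calc p • v = p • (v 0 • eI 0 + c • (c⁻¹ • w)) := by rw [smul_smul, mul_inv_cancel₀ hc0, one_smul, ← hsum]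
          _ = _ := by rw [smul_add p, lineSmul p, lineSmul p, hp0, e]
      obtain ⟨p', hp', e'⟩ := hplane (p • v) (by rw [herm_smul_SU, hv]) (by
        rw [hpv]
        exact add_mem (Submodule.smul_mem _ _ (eI_mem_supp (by simp [hS])))
          (Submodule.smul_mem _ _ (eI_mem_supp (by simp [hS]))))
      exact ⟨p' * p, mul_mem hp' (hfix p hp0), by rw [mul_smul, e']⟩
    have hmove : ∀ v : Fin (m + 1) → F, herm q v v = 1 → ∃ p ∈ P, p • v = eI 0 := by
      intro v hv
      by_cases h0 : v 0 ^ (q + 1) ≠ 1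
      · exact hA v hv h0
      rw [ne_eq, not_not] at h0
      obtain ⟨T, hT, hTn⟩ := exists_fixed_avoid hF {0, 1} (lt_of_le_of_lt Finset.card_le_two (by omega))
      simp only [Finset.mem_insert, Finset.mem_singleton, not_or] at hTn
      obtain ⟨x, hx⟩ := exists_norm_eq hF hT
      obtain ⟨y, hy⟩ := exists_norm_eq hF (t := 1 - T) (by rw [sub_pow_q hF, one_pow, hT])
      have hx0 : x ≠ 0 := fun e => hTn.1 (by rw [← hx, e, zero_pow (by omega)])
      have hy0 : y ≠ 0 := fun e => hTn.2 (by
        rw [e, zero_pow (by omega)] at hy; exact (sub_eq_zero.1 hy.symm).symm)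
      obtain ⟨ω, hω, hne⟩ : ∃ ω : F, ω ^ (q + 1) = 1 ∧ (x * v 0 + ω * y * v i1) ^ (q + 1) ≠ 1 := by
        by_cases h1 : v i1 = 0
        · refine ⟨1, one_pow _, ?_⟩
          rw [h1, mul_zero, add_zero, mul_pow, h0, mul_one, hx]
          exact hTn.2
        obtain ⟨ω, hω, hne⟩ := exists_trace_avoid hF (X := y * v i1 * (x * v 0) ^ q)
          (mul_ne_zero (mul_ne_zero hy0 h1) (pow_ne_zero _ (mul_ne_zero hx0 (ne_zero_of_norm h0))))
          (1 - T - (1 - T) * v i1 ^ (q + 1))
        refine ⟨ω, hω, fun e => hne ?_⟩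
        rw [pow_succ] at h0 hx hy hω e
        simp only [mul_pow, add_pow_q hF, pow_q_pow_q hF, pow_succ] at e ⊢
        linear_combination e - (v 0 ^ q * v 0) * hx - T * h0 - (ω ^ q * ω * (v i1 ^ q * v i1)) * hy -
          (1 - T) * (v i1 ^ q * v i1) * hω
      have hb : bl (m + 1) 2 0 (mk2 x (ω * y) (by rw [mul_pow, hω, hx, hy]; ring) hF) ∈ P := hP 0 (by omega) _
      set g := bl (m + 1) 2 0 (mk2 x (ω * y) (by rw [mul_pow, hω, hx, hy]; ring) hF) with hg
      have hg0 : (g • v) 0 = x * v 0 + ω * y * v i1 := by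
        have := bl_smul_in (show 0 + 2 ≤ m + 1 by omega) (mk2 x (ω * y) (by rw [mul_pow, hω, hx, hy]; ring) hF) v 0
        rw [mk2_smul_zero] at this
        simp only [Function.comp_apply] at this
        rw [show shift 0 (show 0 + 2 ≤ m + 1 by omega) (0 : Fin 2) = 0 from Fin.ext (by simp [shift_val]),
          show shift 0 (show 0 + 2 ≤ m + 1 by omega) (1 : Fin 2) = i1 from Fin.ext (by simp [shift_val, hi1])] at this
        exact this
      obtain ⟨p, hp, e⟩ := hA (g • v) (by rw [herm_smul_SU, hv]) (by rw [hg0]; exact hne)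
      exact ⟨p * g, mul_mem hp hb, by rw [mul_smul, e]⟩
    refine eq_top_iff.2 fun g _ => ?_
    obtain ⟨p, hp, e⟩ := hmove (g • eI 0) (by rw [herm_smul_SU, heI])
    have := mul_mem (inv_mem hp) (hfix (p * g) (by rw [mul_smul, e]))
    rwa [inv_mul_cancel_left] at this

end Cfsg.Agent.KSG55.Phan
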