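import Cfsg.Agent.KSG55.Phan.Step

/-!
Automorphisms of `SU₃` preserving both standard blocks are diagonal semilinear twists.
-/

set_option autoImplicit false
set_option linter.unusedSectionVars false

namespace Cfsg.Agent.KSG55.Phan

open Cfsg.Agent.Unitary Matrix

variable {F : Type*} [Field F] [Fintype F] {q : ℕ}

/-- Elements with the same action on basis vectors are equal. -/
theorem ext_eI {n : ℕ} {g h : SU n F q} (e : ∀ i, g • (eI i : Fin n → F) = h • eI i) : g = h :=
  Subtype.ext (Subtype.ext (Matrix.ext_of_mulVec_single fun i => e i))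

variable (hF : Fintype.card F = q ^ 2)

include hF

/-- A block preserving injective endomorphism permutes the block. -/
theorem block_onto {k : ℕ} (hk : k + 2 ≤ 3) {δ : SU 3 F q →* SU 3 F q} (hinj : Function.Injective δ)
    (h : ∀ X, ∃ Y, δ (bl 3 2 k X) = bl 3 2 k Y) : ∃ α : MulAut (SU 2 F q), ∀ X, δ (bl 3 2 k X) = bl 3 2 k (α X) := by
  choose f hf using h
  let fh : SU 2 F q →* SU 2 F q :=
    MonoidHom.mk' f fun X Y => bl_injective hk (by rw [map_mul, ← hf, ← hf, ← hf, map_mul, map_mul])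
  have hfinj : Function.Injective fh := fun X Y e => bl_injective hk (hinj (by rw [hf, hf]; exact congrArg _ e))
  exact ⟨MulEquiv.ofBijective fh ((Finite.injective_iff_bijective).1 hfinj), hf⟩

/-- The case of an automorphism fixing the first block pointwise. -/
theorem exists_twist_fix (hq : 3 ≤ q) {δ : SU 3 F q →* SU 3 F q} (hinj : Function.Injective δ)
    (h0 : ∀ X, δ (bl 3 2 0 X) = bl 3 2 0 X) (h1 : ∀ X, ∃ Y, δ (bl 3 2 1 X) = bl 3 2 1 Y) :
    ∃ (r : F) (hd : ∀ i, (![1, 1, r] : Fin 3 → F) i ^ (q + 1) = 1),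
      δ = twist (RingEquiv.refl F) ![1, 1, r] hd := by
  classical
  obtain ⟨α, hα⟩ := block_onto hF (by norm_num) hinj h1
  have hD : ∀ (l : F) (hl : l ^ (q + 1) = 1) (he : ∀ i, (![l⁻¹, 1] : Fin 2 → F) i ^ (q + 1) = 1) X,
      α (twist (RingEquiv.refl F) ![l⁻¹, 1] he X) = twist (RingEquiv.refl F) ![l⁻¹, 1] he (α X) := by
    intro l hl he X
    obtain ⟨A0, hA0⟩ := exists_bl hF (k := 0) (a := 2) (b := 3) (by norm_num) (g := d3 l hl) fun j hj => by
      obtain rfl : j = 2 := by omega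
      rw [d3, dg_smul_eI]; simp
    have e : ∀ Z, d3 l hl * bl 3 2 1 Z * (d3 l hl)⁻¹ = bl 3 2 1 (twist (RingEquiv.refl F) ![l⁻¹, 1] he Z) := fun Z => by
      rw [d3, dg_conj, twist_bl (k := 1) (by norm_num) _ (norm_d3 hl) he fun i => by fin_cases i <;> rfl,
        mul_inv_cancel_right]
    refine bl_injective (show 1 + 2 ≤ 3 by norm_num) ?_
    rw [← hα, ← e, ← e, map_mul, map_mul, map_inv, hα, show δ (d3 l hl) = d3 l hl by rw [← hA0, h0]]
  have hinv : ∀ {l : F}, l ^ (q + 1) = 1 → ∀ i, (![l⁻¹, 1] : Fin 2 → F) i ^ (q + 1) = 1 := fun hl i => by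
    fin_cases i <;> simp [hl]
  have hdiag : ∀ X : SU 2 F q, mat X 0 1 = 0 → mat (α X) 0 1 = 0 := by
    intro X hX
    obtain ⟨l, hl, hl'⟩ := exists_norm_avoid hF ({1} : Finset F) (by simp; omega)
    rw [Finset.mem_singleton] at hl'
    have hfix : twist (RingEquiv.refl F) ![l⁻¹, 1] (hinv hl) X = X := su2_ext hF
      (by rw [twist_refl_apply]; simp [ne_zero_of_norm hl]; field_simp [ne_zero_of_norm hl])
      (by rw [twist_refl_apply, hX]; simp)
    have h := congrArg (fun g : SU 2 F q => mat g 0 1) (hD l hl (hinv hl) X)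
    simp only [hfix, twist_refl_apply] at h
    by_contra hne
    simp at h
    exact hl' (inv_eq_one.1 (mul_right_cancel₀ hne (h.symm.trans (one_mul _).symm)))
  obtain ⟨τ, r, hr, hτ⟩ := exists_twist hF α hdiag
  have hr0 : r ^ (q + 1) = 1 := hr 0
  have hfix : ∀ l : F, l ^ (q + 1) = 1 → τ l = l := by
    intro l hl
    have hl0 := ne_zero_of_norm hl
    have h := hD l hl (hinv hl) (mk2 (0 : F) 1 (by simp) hF)
    rw [hτ, hτ] at h
    have h' := congrArg (fun g : SU 2 F q => mat g 0 1) h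
    have e : mat (mk2 (0 : F) 1 (q := q) (by simp) hF) 0 1 = 1 := rfl
    have et : ∀ Z, mat (twist τ ![r, 1] hr Z) 0 1 = r * τ (mat Z 0 1) := fun Z => by
      show tmat τ ![r, 1] (mat Z) 0 1 = _
      simp [tmat, Matrix.mul_apply, Matrix.diagonal]
    simp only [et, twist_refl_apply, e] at h'
    simp at h'
    have hr' := ne_zero_of_norm hr0
    have h'' : (τ l)⁻¹ = l⁻¹ := mul_left_cancel₀ hr' (h'.trans (mul_comm _ _))
    exact inv_injective h''
  have hτid : ∀ x, τ x = x := Four.eq_univ_of_norm_mul hF (fun x => τ x = x) (map_zero τ)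
    (fun a b ha hb => by rw [map_add, ha, hb]) one_ne_zero fun w hw => by rw [one_mul]; exact hfix w hw
  have hτ1 : τ = RingEquiv.refl F := RingEquiv.ext hτid
  subst hτ1
  have hri : r⁻¹ ^ (q + 1) = 1 := by rw [inv_pow, hr0, inv_one]
  refine ⟨r⁻¹, fun i => by fin_cases i <;> simp [hr0], MonoidHom.ext fun Y => ?_⟩
  have := gen_top hF hq (show 2 ≤ 3 by norm_num)
    (δ.eqLocus (twist (RingEquiv.refl F) (![1, 1, r⁻¹] : Fin 3 → F) fun i => by fin_cases i <;> simp [hr0]))
    fun k hk X => by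
      show δ _ = twist _ _ _ _
      obtain rfl | rfl : k = 0 ∨ k = 1 := by omega
      · rw [h0, twist_bl (k := 0) hk _ _ (e := ![1, 1]) (fun i => by fin_cases i <;> simp) fun i => by fin_cases i <;> rfl,
          twist_one hF _ _ _ fun i => by fin_cases i <;> rfl]
      · rw [hα, hτ, twist_bl (k := 1) hk _ _ (e := ![1, r⁻¹]) (fun i => by fin_cases i <;> simp [hr0]) fun i => by
          fin_cases i <;> rfl]
        congr 1
        have hr' := ne_zero_of_norm hr0
        exact su2_ext hF (by simp [twist_refl_apply, hr']; field_simp) (by simp [twist_refl_apply, hr']; ring)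
  exact (this ▸ Subgroup.mem_top Y : Y ∈ MonoidHom.eqLocus _ _)

/-- An automorphism of `SU₃` preserving both blocks is a twist. -/
theorem exists_twist_three (hq : 3 ≤ q) {δ : SU 3 F q →* SU 3 F q} (hinj : Function.Injective δ)
    (h0 : ∀ X, ∃ Y, δ (bl 3 2 0 X) = bl 3 2 0 Y) (h1 : ∀ X, ∃ Y, δ (bl 3 2 1 X) = bl 3 2 1 Y) :
    ∃ (τ : F ≃+* F) (d : Fin 3 → F) (hd : ∀ i, d i ^ (q + 1) = 1), δ = twist τ d hd := by
  classical
  obtain ⟨α, hα⟩ := block_onto hF (by norm_num) hinj h0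
  obtain ⟨α1, hα1⟩ := block_onto hF (by norm_num) hinj h1
  obtain ⟨l, hl, hl'⟩ := exists_norm_avoid hF ({1} : Finset F) (by simp; omega)
  rw [Finset.mem_singleton] at hl'
  have hdiag : ∀ X : SU 2 F q, mat X 0 1 = 0 → mat (α X) 0 1 = 0 := by
    intro X hX
    obtain ⟨-, hX10, -⟩ := su2_shape hF X
    rw [hX, zero_pow_q hF, neg_zero] at hX10
    -- the image of a diagonal element normalises the second block
    have hline : bl 3 2 0 X • (eI 0 : Fin 3 → F) = mat X 0 0 • eI 0 := by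
      refine bl_smul_eI (show 0 + 2 ≤ 3 by norm_num) (i := 0) (j := 0) ?_
      funext i
      show (mat X *ᵥ Pi.single 0 1) i = _
      rw [Matrix.mulVec_single_one]
      fin_cases i
      · simp [eI]
      · simp [eI, hX10]
    set Z := α X with hZ
    set v := (bl 3 2 0 Z)⁻¹ • (eI 0 : Fin 3 → F) with hv
    have hkey : ∀ W' : SU 2 F q, bl 3 2 1 W' • v = v := by
      intro W'
      obtain ⟨W0', rfl⟩ := α1.surjective W'
      obtain ⟨U, hU⟩ := exists_bl hF (k := 1) (a := 2) (b := 3) (by norm_num)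
        (g := bl 3 2 0 X * bl 3 2 1 W0' * (bl 3 2 0 X)⁻¹) fun j hj => by
          obtain rfl : j = 0 := by omega
          have hx := ne_zero_of_norm (line_norm hF hline)
          have hinv : (bl 3 2 0 X)⁻¹ • (eI 0 : Fin 3 → F) = (mat X 0 0)⁻¹ • eI 0 := by
            rw [inv_smul_eq_iff, lineSmul, hline, smul_smul, inv_mul_cancel₀ hx, one_smul]
          rw [mul_smul, mul_smul, hinv, lineSmul, bl_fix hF (by norm_num) W0' (Or.inl (by simp)), lineSmul, hline,
            smul_smul, inv_mul_cancel₀ hx, one_smul]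
      have e := congrArg δ hU
      rw [map_mul, map_mul, map_inv, hα, hα1, hα1, ← hZ] at e
      rw [hv, ← mul_smul, show bl 3 2 1 (α1 W0') * (bl 3 2 0 Z)⁻¹ = (bl 3 2 0 Z)⁻¹ * bl 3 2 1 (α1 U) by
        rw [e]; group, mul_smul, bl_fix hF (by norm_num) (α1 U) (Or.inl (by simp))]
    have v1 : v 1 = 0 := by
      set e : Fin 2 → F := ![l, l⁻¹] with he
      have hne : ∀ i, e i ^ (q + 1) = 1 := fun i => by fin_cases i <;> simp [he, hl]
      have hp : ∏ i, e i = 1 := by simp [he, Fin.prod_univ_two, ne_zero_of_norm hl]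
      have := congrFun (hkey (dg e hne hp)) (shift 1 (show 1 + 2 ≤ 3 by norm_num) 0)
      rw [bl_smul_in (show 1 + 2 ≤ 3 by norm_num), dg_smul] at this
      change e 0 * v 1 = v 1 at this
      by_contra h
      exact hl' (mul_right_cancel₀ h (this.trans (one_mul _).symm))
    have h2 := bl_smul_in (show 0 + 2 ≤ 3 by norm_num) Z v 1
    rw [hv, smul_inv_smul] at h2
    simp [eI, shift_val, Fin.ext_iff] at h2
    change (0 : F) = (mat Z *ᵥ (v ∘ shift 0 (show 0 + 2 ≤ 3 by norm_num))) 1 at h2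
    simp [Matrix.mulVec, dotProduct, Fin.sum_univ_two] at h2
    rw [show v (shift 0 (show 0 + 2 ≤ 3 by norm_num) (1 : Fin 2)) = 0 from v1, mul_zero, add_zero] at h2
    have v0ne : v (shift 0 (show 0 + 2 ≤ 3 by norm_num) (0 : Fin 2)) ≠ 0 := by
      intro h0'
      have h3 := bl_smul_in (show 0 + 2 ≤ 3 by norm_num) Z v 0
      rw [hv, smul_inv_smul] at h3
      change (1 : F) = (mat Z *ᵥ (v ∘ shift 0 (show 0 + 2 ≤ 3 by norm_num))) 0 at h3
      simp [Matrix.mulVec, dotProduct, Fin.sum_univ_two] at h3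
      rw [show v (shift 0 (show 0 + 2 ≤ 3 by norm_num) (1 : Fin 2)) = 0 from v1, h0'] at h3
      simp at h3
    have h10 : mat Z 1 0 = 0 := (mul_eq_zero.1 h2.symm).resolve_right v0ne
    rw [(su2_shape hF Z).2.1, neg_eq_zero, pow_q_eq_zero_iff hF] at h10
    exact h10
  obtain ⟨τ, r, hr, hτ⟩ := exists_twist hF α hdiag
  have hr0 : r ^ (q + 1) = 1 := hr 0
  have hd3 : ∀ i, (![r, 1, 1] : Fin 3 → F) i ^ (q + 1) = 1 := fun i => by fin_cases i <;> simp [hr0]
  let β : SU 3 F q ≃* SU 3 F q :=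
    MulEquiv.ofBijective (twist τ (![r, 1, 1] : Fin 3 → F) hd3) ((Finite.injective_iff_bijective).1 (twist_injective τ hd3))
  have hone : ∀ i, (![1, 1] : Fin 2 → F) i ^ (q + 1) = 1 := fun i => by fin_cases i <;> simp
  obtain ⟨s, hs, hδ⟩ := exists_twist_fix hF hq (δ := β.symm.toMonoidHom.comp δ) (β.symm.injective.comp hinj)
    (fun X => β.injective (by
      show β (β.symm (δ _)) = twist τ _ hd3 (bl 3 2 0 X)
      rw [β.apply_symm_apply, hα, hτ, twist_bl (k := 0) (by norm_num) _ _ hr fun i => by fin_cases i <;> rfl]))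
    (fun X => by
      obtain ⟨Y, hY⟩ := h1 X
      obtain ⟨Y', rfl⟩ := ((Finite.injective_iff_surjective).1 (twist_injective τ hone)) Y
      refine ⟨Y', β.injective ?_⟩
      show β (β.symm (δ _)) = twist τ _ hd3 (bl 3 2 1 Y')
      rw [β.apply_symm_apply, hY, twist_bl (k := 1) (by norm_num) _ _ hone fun i => by fin_cases i <;> rfl])
  have hs0 : s ^ (q + 1) = 1 := hs 2
  have hd : ∀ i, (![r, 1, τ s] : Fin 3 → F) i ^ (q + 1) = 1 := fun i => by
    fin_cases i <;> simp [hr0, ← map_pow, hs0]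
  refine ⟨τ, ![r, 1, τ s], hd, MonoidHom.ext fun Y => ?_⟩
  have e : δ Y = β (twist (RingEquiv.refl F) ![1, 1, s] hs Y) := by
    rw [← hδ]
    exact (β.apply_symm_apply _).symm
  rw [e]
  refine eq_of_smul_eq_SU fun v => ?_
  obtain ⟨v, rfl⟩ := tvec_surjective τ (fun i => ne_zero_of_norm (hd i)) v
  rw [twist_tvec, show tvec τ ![r, 1, τ s] v = tvec τ ![r, 1, 1] (tvec (RingEquiv.refl F) ![1, 1, s] v) from
    funext fun i => by fin_cases i <;> simp [tvec]]
  show twist τ _ hd3 _ • _ = _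
  rw [twist_tvec, twist_tvec]
  funext i
  fin_cases i <;> simp [tvec]

end Cfsg.Agent.KSG55.Phan
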