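import Cfsg.Agent.KSG55.Phan.Coherent
import Cfsg.Agent.KSG55.Phan.Cover4
import Cfsg.Agent.KSG55.SUStep.Cover

/-!
`SU_m` is the universal completion of its system of consecutive blocks, for `m ≥ 3` and `q ≥ 4`.
-/

set_option autoImplicit false
set_option linter.unusedSectionVars false

namespace Cfsg.Agent.KSG55.Phan

open Cfsg.Agent.Unitary Matrix
open Cfsg.Agent.KSG55.SUStep (exists_fixS_one)

universe u w

variable {F : Type u} [Field F] [Fintype F] {q : ℕ}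

theorem prod_d3 {l : F} (h : l ^ (q + 1) = 1) : ∏ i, (![l, l⁻¹, 1] : Fin 3 → F) i = 1 := by
  simp [Fin.prod_univ_three, ne_zero_of_norm h]

theorem norm_d3 {l : F} (h : l ^ (q + 1) = 1) (i : Fin 3) : (![l, l⁻¹, 1] : Fin 3 → F) i ^ (q + 1) = 1 := by
  fin_cases i <;> simp [h]

/-- The torus element. -/
def d3 (l : F) (h : l ^ (q + 1) = 1) : SU 3 F q := dg ![l, l⁻¹, 1] (norm_d3 h) (prod_d3 h)

theorem d3_one : d3 (1 : F) (q := q) (one_pow _) = 1 := eq_of_smul_eq_SU fun v => by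
  rw [d3, dg_smul, one_smul]; funext i; fin_cases i <;> simp

theorem d3_mul {l m : F} (hl : l ^ (q + 1) = 1) (hm : m ^ (q + 1) = 1) (h : (l * m) ^ (q + 1) = 1) :
    d3 l hl * d3 m hm = (d3 (l * m) h : SU 3 F q) := eq_of_smul_eq_SU fun v => by
  simp only [mul_smul, d3, dg_smul]
  funext i; fin_cases i <;> simp <;> ring

theorem d3_inv {l : F} (hl : l ^ (q + 1) = 1) (h : l⁻¹ ^ (q + 1) = 1) : (d3 l hl)⁻¹ = (d3 l⁻¹ h : SU 3 F q) := by
  refine inv_eq_of_mul_eq_one_right ?_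
  rw [d3_mul hl h (by rw [mul_pow, hl, h, one_mul]), ← d3_one]
  congr 1
  exact mul_inv_cancel₀ (ne_zero_of_norm hl)

variable (hF : Fintype.card F = q ^ 2)

include hF

theorem twist_one (X : SU 2 F q) (e : Fin 2 → F) (he : ∀ i, e i ^ (q + 1) = 1) (he1 : ∀ i, e i = 1) :
    twist (RingEquiv.refl F) e he X = X :=
  su2_ext hF (by rw [twist_refl_apply]; simp [he1]) (by rw [twist_refl_apply]; simp [he1])

/-- An element fixing a coordinate line scales it by a norm one scalar. -/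
theorem line_norm {n : ℕ} {g : SU n F q} {i : Fin n} {c : F} (h : g • (eI i : Fin n → F) = c • eI i) :
    c ^ (q + 1) = 1 := by
  have h' := herm_smul_SU g (eI i) (eI i)
  rw [h, herm_smul_left, herm_smul_right hF, herm_eI_eI hF, if_pos rfl, mul_one] at h'
  rw [pow_succ']; exact h'

/-- The coordinate element exchanging two basis vectors. -/
def W : SU 2 F q := mk2 0 (-1) (by rw [zero_pow (by omega), pow_succ, neg_pow_q hF, one_pow]; ring) hF

theorem W_smul :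
    W hF • (eI 0 : Fin 2 → F) = (1 : F) • eI 1 ∧ W hF • (eI 1 : Fin 2 → F) = (-1 : F) • eI 0 := by
  constructor
  all_goals
    show (!![(0 : F), -1; -(-1) ^ q, 0 ^ q] *ᵥ _) = _
    funext i
    fin_cases i <;> simp [eI, Matrix.mulVec, dotProduct, Fin.sum_univ_two, neg_pow_q hF, zero_pow_q hF]

theorem W0_smul : bl 3 2 0 (W hF) • (eI 0 : Fin 3 → F) = eI 1 := by
  have h := bl_smul_eI (show 0 + 2 ≤ 3 by norm_num) (W_smul hF).1
  rw [one_smul] at h
  exact h

theorem W0_smul' : bl 3 2 0 (W hF) • (eI 1 : Fin 3 → F) = (-1 : F) • eI 0 :=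
  bl_smul_eI (show 0 + 2 ≤ 3 by norm_num) (W_smul hF).2

theorem W1_smul : bl 3 2 1 (W hF) • (eI 1 : Fin 3 → F) = eI 2 := by
  have h := bl_smul_eI (show 1 + 2 ≤ 3 by norm_num) (W_smul hF).1
  rw [one_smul] at h
  exact h

theorem W1_fix : bl 3 2 1 (W hF) • (eI 0 : Fin 3 → F) = eI 0 := bl_fix hF (by norm_num) _ (Or.inl (by simp))

/-- The values on blocks of size two. -/
theorem sys_chi {H : Type*} [Group H] {M : ℕ} (hM : 3 ≤ M) (S : Sys F q M H) {f : SU M F q →* H}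
    (hf : ∀ k, k + 3 ≤ M → f.comp (bl M 3 k) = S.ψ k) {k : ℕ} (hk : k + 2 ≤ M) (X : SU 2 F q) :
    f (bl M 2 k X) = S.χ k X := by
  by_cases h : k + 3 ≤ M
  · rw [← S.left k h, ← hf k h, MonoidHom.comp_apply, MonoidHom.comp_apply,
      bl_comp_apply (m := k) h (by norm_num) (Nat.add_zero k)]
  · obtain ⟨j, rfl⟩ : ∃ j, k = j + 1 := ⟨k - 1, by omega⟩
    rw [← S.right j (by omega), ← hf j (by omega), MonoidHom.comp_apply, MonoidHom.comp_apply,
      bl_comp_apply (m := j + 1) (by omega) (by norm_num) rfl]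

omit hF in
/-- The system on the first coordinates. -/
def Sys.head {H : Type*} [Group H] {M M' : ℕ} (S : Sys F q M H) (h : M' ≤ M) : Sys F q M' H where
  χ := S.χ
  ψ := S.ψ
  left k hk := S.left k (by omega)
  right k hk := S.right k (by omega)
  comm i j hij hj := S.comm i j hij (by omega)

omit hF in
/-- The system on the last coordinates. -/
def Sys.tail {H : Type*} [Group H] {M : ℕ} (S : Sys F q (M + 1) H) : Sys F q M H where
  χ k := S.χ (k + 1)
  ψ k := S.ψ (k + 1)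
  left k hk := S.left (k + 1) (by omega)
  right k hk := S.right (k + 1) (by omega)
  comm i j hij hj := S.comm (i + 1) (j + 1) (by omega) (by omega)

/-- The equations which replace `4 ≤ q` in dimension four. -/
def EqBase {H : Type*} [Group H] {M : ℕ} (S : Sys F q M H) : Prop :=
  let w : SU 3 F q := bl 3 2 0 (W hF)
  ∃ γ : F, γ ^ (q + 1) = -1 ∧ ∃ t1 t2 : F,
    (∀ P : F → Prop, P 0 → (∀ a b, P a → P b → P (a + b)) → P t1 → P t2 → ∀ x, P x) ∧
    ∀ t, (t = t1 ∨ t = t2) → ∃ a a' b b' c : SU 3 F q,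
      (bl 4 3 1 a : SU 4 F q) • (eI 1 : Fin 4 → F) = eI 3 ∧
      (bl 4 3 1 a' : SU 4 F q) • (eI 1 : Fin 4 → F) = Four.mv γ t ∧
      (bl 4 3 1 a * bl 4 3 0 w : SU 4 F q) • ((bl 4 3 1 b : SU 4 F q) • (eI 1 : Fin 4 → F)) = Four.vv γ ∧
      (bl 4 3 1 a * bl 4 3 0 w * bl 4 3 1 b * bl 4 3 0 w : SU 4 F q) =
        bl 4 3 1 a' * bl 4 3 0 w * bl 4 3 1 b' * bl 4 3 0 w * bl 4 3 1 c ∧
      S.ψ 1 a * S.ψ 0 w * S.ψ 1 b * S.ψ 0 w = S.ψ 1 a' * S.ψ 0 w * S.ψ 1 b' * S.ψ 0 w * S.ψ 1 c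

/-- The inductive step: the covering is injective. -/
theorem step_injective (hq3 : 3 ≤ q) {H : Type w} [Group H] {m : ℕ} (hm : 3 ≤ m) (S : Sys F q (m + 1) H)
    (φ : H →* SU (m + 1) F q) (hψ : ∀ k, k + 3 ≤ m + 1 → φ.comp (S.ψ k) = bl (m + 1) 3 k)
    (hgen : ∀ P : Subgroup H, (∀ k, k + 3 ≤ m + 1 → ∀ Y, S.ψ k Y ∈ P) → P = ⊤)
    (hq4 : m = 3 → 4 ≤ q ∨ EqBase hF S) (f1 : SU m F q →* H) (hf1 : ∀ k, k + 3 ≤ m → f1.comp (bl m 3 k) = S.ψ (k + 1))
    (h4 : 4 ≤ m → ∃ f4 : SU 4 F q →* H, ∀ k, k + 3 ≤ 4 → f4.comp (bl 4 3 k) = S.ψ k) :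
    Function.Injective φ := by
  classical
  have hχ : ∀ k, k + 2 ≤ m + 1 → ∀ X, φ (S.χ k X) = bl (m + 1) 2 k X := fun k hk X => by
    by_cases h : k + 3 ≤ m + 1
    · rw [← S.left k h, MonoidHom.comp_apply, ← MonoidHom.comp_apply φ, hψ k h,
        bl_comp_apply (m := k) h (by norm_num) (Nat.add_zero k)]
    · obtain ⟨j, rfl⟩ : ∃ j, k = j + 1 := ⟨k - 1, by omega⟩
      rw [← S.right j (by omega), MonoidHom.comp_apply, ← MonoidHom.comp_apply φ, hψ j (by omega),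
        bl_comp_apply (m := j + 1) (by omega) (by norm_num) rfl]
  have hf1χ : ∀ k, k + 2 ≤ m → ∀ X, f1 (bl m 2 k X) = S.χ (k + 1) X := fun k hk X => sys_chi hF hm S.tail hf1 hk X
  have hφf1 : ∀ A, φ (f1 A) = bl (m + 1) m 1 A := by
    have := gen_top hF hq3 (show 2 ≤ m by omega) ((φ.comp f1).eqLocus (bl (m + 1) m 1)) fun k hk X => by
      show φ (f1 _) = bl (m + 1) m 1 _
      rw [hf1χ k hk, hχ (k + 1) (by omega), bl_comp_apply (m := k + 1) (by omega) hk (by omega)]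
    exact fun A => show A ∈ (φ.comp f1).eqLocus (bl (m + 1) m 1) from this ▸ Subgroup.mem_top A
  have hψ0 : ∀ Y, φ (S.ψ 0 Y) = bl (m + 1) 3 0 Y := fun Y => DFunLike.congr_fun (hψ 0 (by omega)) Y
  have hψ0χ1 : ∀ X, S.ψ 0 (bl 3 2 1 X) = f1 (bl m 2 0 X) := fun X => by
    rw [hf1χ 0 (by omega), ← MonoidHom.comp_apply, S.right 0 (by omega)]
  have hψ0χ0 : ∀ X, S.ψ 0 (bl 3 2 0 X) = S.χ 0 X := fun X => by
    rw [← MonoidHom.comp_apply, S.left 0 (by omega)]
  -- the torus normalises the tail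
  have hnorm : ∀ (l : F) (hl : l ^ (q + 1) = 1) (A : SU m F q),
      ∃ A', f1 A * S.ψ 0 (d3 l hl) = S.ψ 0 (d3 l hl) * f1 A' := by
    intro l hl
    set e : Fin m → F := fun i => if (i : ℕ) = 0 then l else 1 with he'
    have he : ∀ i, e i ^ (q + 1) = 1 := fun i => by
      by_cases h : (i : ℕ) = 0 <;> simp [he', h, hl]
    set g := S.ψ 0 (d3 l hl) with hg
    have := gen_top hF hq3 (show 2 ≤ m by omega)
      (((MulAut.conj g⁻¹).toMonoidHom.comp f1).eqLocus (f1.comp (twist (RingEquiv.refl F) e he))) fun k hk X => by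
      show g⁻¹ * f1 _ * g⁻¹⁻¹ = f1 (twist _ _ _ _)
      rw [inv_inv, hf1χ k hk, mul_assoc, inv_mul_eq_iff_eq_mul]
      rcases Nat.eq_zero_or_pos k with rfl | hk0
      · have hl1 : ∀ i, (![l, 1] : Fin 2 → F) i ^ (q + 1) = 1 := fun i => by fin_cases i <;> simp [hl]
        rw [twist_bl hk _ he hl1 fun i => by fin_cases i <;> simp [he', shift_val], ← hf1χ 0 hk, ← hψ0χ1, ← hψ0χ1, hg,
          ← map_mul, ← map_mul, d3, dg_conj, twist_bl (k := 1) (by norm_num) _ (norm_d3 hl)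
            (e := ![l⁻¹, 1]) (fun i => by fin_cases i <;> simp [hl]) fun i => by fin_cases i <;> rfl]
        congr 3
        have hl0 := ne_zero_of_norm hl
        exact (su2_ext hF (by simp [twist_refl_apply, hl0]; field_simp)
          (by simp [twist_refl_apply, hl0])).symm
      · obtain ⟨A0, hA0⟩ := exists_bl hF (k := 0) (a := 2) (b := 3) (by norm_num) (g := d3 l hl) fun j hj => by
          obtain rfl : j = 2 := by omega
          rw [d3, dg_smul_eI]; simp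
        have h1 : ∀ i, (fun _ => (1 : F) : Fin 2 → F) i ^ (q + 1) = 1 := fun i => one_pow _
        rw [twist_bl hk _ he h1 fun i => by simp [he', shift_val]; omega, twist_one hF _ _ _ fun i => rfl,
          hf1χ k hk, hg, ← hA0, hψ0χ0]
        exact (S.comm 0 (k + 1) (by omega) (by omega) A0 X).eq.symm
    intro A
    refine ⟨twist (RingEquiv.refl F) e he A, ?_⟩
    have hA : (MulAut.conj g⁻¹).toMonoidHom.comp f1 A = f1.comp (twist (RingEquiv.refl F) e he) A :=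
      show A ∈ MonoidHom.eqLocus _ _ from this ▸ Subgroup.mem_top A
    rw [← MonoidHom.comp_apply f1, ← hA]
    simp [MulAut.conj_apply, ← mul_assoc]
  let K : Subgroup H :=
    { carrier := {x | ∃ (l : F) (hl : l ^ (q + 1) = 1) (A : SU m F q), x = S.ψ 0 (d3 l hl) * f1 A}
      one_mem' := ⟨1, one_pow _, 1, by rw [d3_one, map_one, map_one, mul_one]⟩
      mul_mem' := by
        rintro _ _ ⟨l, hl, A, rfl⟩ ⟨l', hl', A', rfl⟩
        obtain ⟨B, hB⟩ := hnorm l' hl' A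
        refine ⟨l * l', by rw [mul_pow, hl, hl', one_mul], B * A', ?_⟩
        rw [← d3_mul hl hl', map_mul (S.ψ 0), map_mul f1, mul_assoc, ← mul_assoc (f1 A), hB]
        group
      inv_mem' := by
        rintro _ ⟨l, hl, A, rfl⟩
        have hli : l⁻¹ ^ (q + 1) = 1 := by rw [inv_pow, hl, inv_one]
        obtain ⟨B, hB⟩ := hnorm l⁻¹ hli A⁻¹
        exact ⟨l⁻¹, hli, B, by rw [_root_.mul_inv_rev, ← map_inv, ← map_inv, d3_inv hl hli, hB]⟩ }
  have hKf : ∀ A, f1 A ∈ K := fun A => ⟨1, one_pow _, A, by rw [d3_one, map_one, one_mul]⟩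
  set i1 : Fin (m + 1) := ⟨1, by omega⟩ with hi1
  have hshift0 : shift 0 (show 0 + 3 ≤ m + 1 by omega) (0 : Fin 3) = 0 := Fin.ext (by simp [shift_val])
  have hshift1 : shift 0 (show 0 + 3 ≤ m + 1 by omega) (1 : Fin 3) = i1 := Fin.ext (by simp [shift_val, hi1])
  have hE0 : ∀ A, bl (m + 1) m 1 A • (eI 0 : Fin (m + 1) → F) = eI 0 := fun A =>
    bl_fix hF (by omega) A (Or.inl (by simp))
  have hD0 : ∀ (Y : SU 3 F q) (c : F), Y • (eI 0 : Fin 3 → F) = c • eI 0 →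
      bl (m + 1) 3 0 Y • (eI 0 : Fin (m + 1) → F) = c • eI 0 := fun Y c h => by
    have := bl_smul_eI (show 0 + 3 ≤ m + 1 by omega) h
    rwa [hshift0] at this
  have hd0 : ∀ (l : F) (hl : l ^ (q + 1) = 1), d3 l hl • (eI 0 : Fin 3 → F) = l • eI 0 := fun l hl => by
    rw [d3, dg_smul_eI]; rfl
  have hmemf : ∀ (Y : SU 3 F q) (c : F), Y • (eI 0 : Fin 3 → F) = c • eI 0 → S.ψ 0 Y ∈ K := by
    intro Y c h
    have hc := line_norm hF h
    obtain ⟨X, hX⟩ := exists_bl hF (k := 1) (a := 2) (b := 3) (by norm_num) (g := (d3 c hc)⁻¹ * Y) fun j hj => by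
      obtain rfl : j = 0 := by omega
      rw [mul_smul, h, inv_smul_eq_iff, hd0]
    refine ⟨c, hc, bl m 2 0 X, ?_⟩
    rw [← hψ0χ1, hX, ← map_mul, mul_inv_cancel_left]
  set s := S.ψ 0 (bl 3 2 0 (W hF)) with hs
  have hinj : ∀ x ∈ K, φ x = 1 → x = 1 := by
    rintro _ ⟨l, hl, A, rfl⟩ h
    rw [map_mul, hψ0, hφf1] at h
    have h0 := congrArg (fun g : SU (m + 1) F q => (g • (eI 0 : Fin (m + 1) → F)) 0) h
    simp only [mul_smul, hE0, hD0 _ _ (hd0 l hl), one_smul] at h0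
    obtain rfl : l = 1 := by simpa [eI] using h0
    rw [d3_one, map_one, one_mul] at h
    rw [d3_one, map_one, one_mul, bl_injective (by omega) (h.trans (map_one _).symm), map_one]
  have hmem : ∀ x ∈ K, ∃ c : F, φ x • (eI 0 : Fin (m + 1) → F) = c • eI 0 := by
    rintro _ ⟨l, hl, A, rfl⟩
    exact ⟨l, by rw [map_mul, hψ0, hφf1, mul_smul, hE0, hD0 _ _ (hd0 l hl)]⟩
  have hlift : ∀ g : SU (m + 1) F q, (∃ c : F, g • (eI 0 : Fin (m + 1) → F) = c • eI 0) → ∃ x ∈ K, φ x = g := by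
    rintro g ⟨c, hg⟩
    have hc := line_norm hF hg
    obtain ⟨A, hA⟩ := exists_bl hF (k := 1) (a := m) (b := m + 1) (by omega)
      (g := (bl (m + 1) 3 0 (d3 c hc))⁻¹ * g) fun j hj => by
      obtain rfl : j = 0 := Fin.ext (show (j : ℕ) = 0 by have := j.isLt; omega)
      rw [mul_smul, hg, inv_smul_eq_iff, hD0 _ _ (hd0 c hc)]
    exact ⟨_, ⟨c, hc, A, rfl⟩, by rw [map_mul, hψ0, hφf1, hA, mul_inv_cancel_left]⟩
  have hs0 : φ s • (eI 0 : Fin (m + 1) → F) = eI i1 := by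
    rw [hs, hψ0]
    have := bl_smul_eI (show 0 + 3 ≤ m + 1 by omega) (t := (1 : F)) (i := 0) (j := 1)
      (A := bl 3 2 0 (W hF)) (by rw [W0_smul, one_smul])
    rwa [hshift0, hshift1, one_smul] at this
  have hss : s * s ∈ K := by
    rw [hs, ← map_mul]
    exact hmemf _ (-1) (by rw [mul_smul, W0_smul, W0_smul'])
  have hcomm2 : ∀ (B : SU (m - 1) F q) (X : SU 2 F q), Commute (f1 (bl m (m - 1) 1 B)) (S.χ 0 X) := by
    intro B X
    have := gen_top hF hq3 (show 2 ≤ m - 1 by omega)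
      ((Subgroup.centralizer {S.χ 0 X}).comap (f1.comp (bl m (m - 1) 1))) fun k hk Z => by
      rw [Subgroup.mem_comap, Subgroup.mem_centralizer_singleton_iff, MonoidHom.comp_apply,
        bl_comp_apply (m := k + 1) (by omega) hk (by omega), hf1χ (k + 1) (by omega)]
      exact (S.comm 0 (k + 1 + 1) (by omega) (by omega) X Z).eq.symm
    have hB : B ∈ (Subgroup.centralizer {S.χ 0 X}).comap (f1.comp (bl m (m - 1) 1)) := this ▸ Subgroup.mem_top B
    exact Subgroup.mem_centralizer_singleton_iff.1 hB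
  have hstab : ∀ x ∈ K, (∃ c : F, φ x • (eI i1 : Fin (m + 1) → F) = c • eI i1) → s⁻¹ * x * s ∈ K := by
    rintro _ ⟨l, hl, A, rfl⟩ ⟨c, hc⟩
    have hl0 := ne_zero_of_norm hl
    have hD1 : bl (m + 1) 3 0 (d3 l hl) • (eI i1 : Fin (m + 1) → F) = l⁻¹ • eI i1 := by
      have := bl_smul_eI (show 0 + 3 ≤ m + 1 by omega) (show d3 (q := q) l hl • (eI 1 : Fin 3 → F) = l⁻¹ • eI 1 by
        rw [d3, dg_smul_eI]; rfl)
      rwa [hshift1] at this
    rw [map_mul, hψ0, hφf1, mul_smul, ← eq_inv_smul_iff, lineSmul] at hc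
    have hi : bl (m + 1) m 1 A • (eI i1 : Fin (m + 1) → F) = (c * l) • eI i1 := by
      rw [hc, ← inv_smul_eq_iff.2 (show (eI i1 : Fin (m + 1) → F) = bl (m + 1) 3 0 (d3 l hl) • (l • eI i1) by
        rw [lineSmul, hD1, smul_smul, mul_inv_cancel₀ hl0, one_smul]) |>.symm, smul_smul]
    set j0 : Fin m := ⟨0, by omega⟩ with hj0
    have hA : A • (eI j0 : Fin m → F) = (c * l) • eI j0 := by
      funext i
      have := congrFun hi (shift 1 (show 1 + m ≤ m + 1 by omega) i)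
      rw [bl_smul_in, show (eI i1 : Fin (m + 1) → F) ∘ shift 1 (show 1 + m ≤ m + 1 by omega) = eI j0 from funext fun t => by
        simp [eI, Pi.single_apply, hi1, hj0, Fin.ext_iff, shift_val]] at this
      rw [this]
      simp [eI, Pi.single_apply, hi1, hj0, Fin.ext_iff, shift_val]
    have hcl := line_norm hF hA
    set D2 := dg (![c * l, (c * l)⁻¹] : Fin 2 → F) (fun i => by
      fin_cases i
      · exact hcl
      · show (c * l)⁻¹ ^ (q + 1) = 1; rw [inv_pow, hcl, inv_one]) (by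
      simp only [Fin.prod_univ_two, Matrix.cons_val_zero, Matrix.cons_val_one]
      exact mul_inv_cancel₀ (ne_zero_of_norm hcl)) with hD2
    obtain ⟨B, hB⟩ := exists_bl hF (k := 1) (a := m - 1) (b := m) (by omega) (g := (bl m 2 0 D2)⁻¹ * A) fun j hj => by
      obtain rfl : j = j0 := Fin.ext (show (j : ℕ) = 0 by have := j.isLt; omega)
      have := bl_smul_eI (show 0 + 2 ≤ m by omega) (show D2 • (eI 0 : Fin 2 → F) = (c * l) • eI 0 by
        rw [hD2, dg_smul_eI]; rfl)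
      rw [show shift 0 (show 0 + 2 ≤ m by omega) (0 : Fin 2) = j0 from Fin.ext (by simp [shift_val, hj0])] at this
      rw [mul_smul, hA, inv_smul_eq_iff, this]
    have hx : S.ψ 0 (d3 l hl) * f1 A = S.ψ 0 (d3 l hl * bl 3 2 1 D2) * f1 (bl m (m - 1) 1 B) := by
      rw [map_mul (S.ψ 0), hψ0χ1, mul_assoc, ← map_mul f1, hB, mul_inv_cancel_left]
    set Y := d3 l hl * bl 3 2 1 D2 with hY
    have hY1 : Y • (eI 1 : Fin 3 → F) = c • eI 1 := by
      have := bl_smul_eI (show 1 + 2 ≤ 3 by norm_num) (show D2 • (eI 0 : Fin 2 → F) = (c * l) • eI 0 by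
        rw [hD2, dg_smul_eI]; rfl)
      rw [hY, mul_smul, show (eI 1 : Fin 3 → F) = eI (shift 1 (show 1 + 2 ≤ 3 by norm_num) (0 : Fin 2)) from rfl, this,
        show (eI (shift 1 (show 1 + 2 ≤ 3 by norm_num) (0 : Fin 2)) : Fin 3 → F) = eI 1 from rfl, lineSmul, d3,
        dg_smul_eI]
      simp [smul_smul, mul_assoc, mul_inv_cancel₀ hl0]
    have hfs : s⁻¹ * f1 (bl m (m - 1) 1 B) * s = f1 (bl m (m - 1) 1 B) := by
      rw [hs, hψ0χ0, mul_assoc, (hcomm2 B _).eq, inv_mul_cancel_left]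
    rw [hx, show s⁻¹ * (S.ψ 0 Y * f1 (bl m (m - 1) 1 B)) * s =
      (s⁻¹ * S.ψ 0 Y * s) * (s⁻¹ * f1 (bl m (m - 1) 1 B) * s) by group, hfs]
    refine mul_mem ?_ (hKf _)
    rw [hs, ← map_inv, ← map_mul, ← map_mul]
    refine hmemf _ c ?_
    rw [mul_smul, mul_smul, W0_smul, hY1, lineSmul, inv_smul_eq_iff.2 (W0_smul hF).symm]
  have hadj : ∀ Y : SU 3 F q, (Y • (eI 0 : Fin 3 → F)) 0 = 0 → ∃ x ∈ K, ∃ y ∈ K, S.ψ 0 Y = x * s * y := by
    intro Y hY
    obtain ⟨g, hg, hge⟩ := exists_fixS_one hF (n := 3) (S := {0}) (by decide) (x := eI 1) (x' := Y • eI 0)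
      (eI_mem_supp (by decide)) (fun i hi => by rw [Finset.mem_singleton.1 hi]; exact hY)
      (by rw [herm_eI_eI hF, if_pos rfl]) (by rw [herm_smul_SU, herm_eI_eI hF, if_pos rfl])
    refine ⟨S.ψ 0 g, hmemf g 1 (by rw [one_smul]; exact mem_fixS.1 hg 0 (by simp)),
      S.ψ 0 ((g * bl 3 2 0 (W hF))⁻¹ * Y), hmemf _ 1 ?_, ?_⟩
    · rw [one_smul, mul_smul, inv_smul_eq_iff, mul_smul, W0_smul, hge]
    · rw [hs, ← map_mul, ← map_mul, mul_inv_cancel_left]
  have hk1 : S.ψ 0 (bl 3 2 1 (W hF)) ∈ K := hmemf _ 1 (by rw [one_smul, W1_fix])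
  have hgenK : Subgroup.closure ((K : Set H) ∪ {s}) = ⊤ := by
    set P := Subgroup.closure ((K : Set H) ∪ {s}) with hP
    have hKP : ∀ {x}, x ∈ K → x ∈ P := fun h => Subgroup.subset_closure (Or.inl h)
    have hsP : s ∈ P := Subgroup.subset_closure (Or.inr rfl)
    refine hgen P fun k hk Y => ?_
    rcases Nat.eq_zero_or_pos k with rfl | hk0
    · set g := bl 3 2 1 (W hF) * bl 3 2 0 (W hF) with hg
      have hgP : S.ψ 0 g ∈ P := by rw [hg, map_mul, ← hs]; exact mul_mem (hKP hk1) hsP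
      have := gen_top hF hq3 (show 2 ≤ 3 by norm_num) (P.comap (S.ψ 0)) fun j hj X => by
        rw [Subgroup.mem_comap]
        obtain rfl | rfl : j = 0 ∨ j = 1 := by omega
        · have hK' : S.ψ 0 (g⁻¹ * bl 3 2 0 X * g) ∈ K := hmemf _ 1 (by
            rw [one_smul, mul_smul, mul_smul, inv_smul_eq_iff, hg, mul_smul, W0_smul, W1_smul,
              bl_fix hF (by norm_num) X (Or.inr le_rfl)])
          rw [show bl 3 2 0 X = g * (g⁻¹ * bl 3 2 0 X * g) * g⁻¹ by group, map_mul, map_mul, map_inv]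
          exact mul_mem (mul_mem hgP (hKP hK')) (inv_mem hgP)
        · exact hKP (hmemf _ 1 (by rw [one_smul, bl_fix hF (by norm_num) X (Or.inl (by simp))]))
      exact (this ▸ Subgroup.mem_top Y : Y ∈ P.comap (S.ψ 0))
    · obtain ⟨j, rfl⟩ : ∃ j, k = j + 1 := ⟨k - 1, by omega⟩
      rw [← hf1 j (by omega), MonoidHom.comp_apply]
      exact hKP (hKf _)
  have hi2 : ∀ (h2 : 2 < m + 1), φ (S.ψ 0 (bl 3 2 1 (W hF))) • (eI i1 : Fin (m + 1) → F) = eI ⟨2, h2⟩ := fun h2 => by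
    rw [hψ0]
    have := bl_smul_eI (show 0 + 3 ≤ m + 1 by omega) (t := (1 : F)) (i := 1) (j := 2)
      (A := bl 3 2 1 (W hF)) (by rw [W1_smul, one_smul])
    rw [hshift1, one_smul] at this
    rw [this]
    congr 1
  have htri : ∃ x ∈ K, ∃ y ∈ K, s⁻¹ * S.ψ 0 (bl 3 2 1 (W hF)) * s = x * s * y := by
    rw [hs, ← map_inv, ← map_mul, ← map_mul]
    refine hadj _ ?_
    rw [← herm_eI_right hF 0 (_ • _), mul_smul, mul_smul, W0_smul, W1_smul, ← herm_smul_SU (bl 3 2 0 (W hF)), smul_inv_smul,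
      W0_smul, herm_eI_eI hF, if_neg (by decide)]
  rcases Nat.eq_or_lt_of_le hm with rfl | hm4
  · -- dimension four
    refine (injective_iff_map_eq_one φ).2 (Four.cov4_injective_of (K := K) (s := s) ?_ hF hq3 ?_)
    swap
    · refine (hq4 rfl).imp id fun ⟨γ, hγ, t1, t2, hspan, ht⟩ => ⟨γ, hγ, t1, t2, hspan, fun t htt => ?_⟩
      obtain ⟨a, a', b, b', c, ea, ea', eb, -, heq⟩ := ht t htt
      have hf : ∀ A, f1 A = S.ψ 1 A := fun A => by
        have := DFunLike.congr_fun (hf1 0 le_rfl) A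
        rwa [MonoidHom.comp_apply, bl_self] at this
      have hK1 : ∀ A, S.ψ 1 A ∈ K := fun A => hf A ▸ hKf A
      have hφ1 : ∀ A, φ (S.ψ 1 A) = bl 4 3 1 A := fun A => DFunLike.congr_fun (hψ 1 le_rfl) A
      have hs1 : φ s • (eI 0 : Fin 4 → F) = eI 1 := hs0
      refine ⟨S.ψ 1 a * s * S.ψ 1 b * s, S.ψ 1 a * s, S.ψ 1 a' * s,
        ⟨_, hK1 a, 1, one_mem K, by group⟩, ⟨_, hK1 b, 1, one_mem K, by group⟩,
        ⟨_, hK1 a', 1, one_mem K, by group⟩, ⟨_, hK1 b', _, hK1 c, by rw [heq, ← hs]; group⟩, ?_, ?_, ?_⟩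
      · refine ⟨1, ?_⟩
        rw [one_smul, Four.vec, map_mul, mul_smul, hs1, map_mul, map_mul, mul_smul, hφ1, hφ1, ← eb, hs, hψ0]
      · refine ⟨1, ?_⟩
        rw [one_smul, Four.vec, map_mul, mul_smul, hs1, hφ1, ea]
      · refine ⟨1, ?_⟩
        rw [one_smul, Four.vec, map_mul, mul_smul, hs1, hφ1, ea']
    refine ⟨hinj, hmem, hlift, hs0, hss, hstab, ⟨_, hk1, hi2 (by norm_num), htri⟩, fun g hg => ?_, hgenK⟩
    obtain ⟨X, rfl⟩ := exists_bl hF (k := 0) (a := 2) (b := 4) (by norm_num) (g := g) fun j hj => by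
      refine mem_fixS.1 hg j ?_
      have := j.isLt
      simp only [Finset.mem_insert, Finset.mem_singleton, Fin.ext_iff]
      show (j : ℕ) = 2 ∨ (j : ℕ) = 3
      omega
    have hz : φ (S.χ 0 X) = bl 4 2 0 X := hχ 0 (by norm_num) X
    refine ⟨S.χ 0 X, S.ψ 0 (bl 3 2 1 (W hF) * bl 3 2 0 (W hF)), by rw [hz], ?_, ?_, ?_, fun u hu hug => ?_⟩
    · exact ⟨_, hk1, 1, one_mem K, by rw [inv_one, one_mul, mul_one, map_mul, ← hs]⟩
    · obtain ⟨x, hx, y, hy, e⟩ := hadj ((bl 3 2 1 (W hF) * bl 3 2 0 (W hF))⁻¹ * bl 3 2 0 X) (by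
        rw [← herm_eI_right hF 0 (_ • _), mul_smul, ← herm_smul_SU (bl 3 2 1 (W hF) * bl 3 2 0 (W hF)), smul_inv_smul,
          mul_smul, W0_smul, W1_smul, ← bl_fix hF (show 0 + 2 ≤ 3 by norm_num) X (j := (2 : Fin 3)) (Or.inr le_rfl),
          herm_smul_SU, herm_eI_eI hF, if_neg (by decide)])
      refine ⟨x, hx, y, hy, ?_⟩
      rw [← hψ0χ0, ← map_inv, ← map_mul, e]
    · refine ⟨1, ?_⟩
      rw [one_smul, hψ0]
      have := bl_smul_eI (show 0 + 3 ≤ 3 + 1 by omega) (t := (1 : F)) (i := 0) (j := 2)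
        (A := bl 3 2 1 (W hF) * bl 3 2 0 (W hF)) (by rw [mul_smul, W0_smul, W1_smul, one_smul])
      rw [one_smul] at this
      exact this
    · obtain ⟨U, hU⟩ := exists_bl hF (k := 2) (a := 2) (b := 4) (by norm_num) (g := φ u) fun j hj => by
        refine mem_fixS.1 hug j ?_
        have := j.isLt
        simp only [Finset.mem_insert, Finset.mem_singleton, Fin.ext_iff]
        show (j : ℕ) = 0 ∨ (j : ℕ) = 1
        omega
      have he : u = S.χ 2 U := by
        have hK2 : S.χ 2 U ∈ K := hf1χ 1 (by norm_num) U ▸ hKf _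
        rw [← mul_inv_eq_one]
        refine hinj _ (mul_mem hu (inv_mem hK2)) ?_
        rw [map_mul, map_inv, hχ 2 (by norm_num), hU, mul_inv_cancel]
      rw [he, mul_assoc, (S.comm 0 2 le_rfl (by norm_num) X U).symm.eq, inv_mul_cancel_left, ← he]
      exact hu
  · -- dimension at least five
    obtain ⟨k, rfl⟩ : ∃ k, m = k + 4 := ⟨m - 4, by omega⟩
    obtain ⟨f4, hf4⟩ := h4 (by omega)
    obtain ⟨γ, hγ⟩ := exists_norm_eq hF (t := (-1 : F)) (by rw [neg_pow_q hF, one_pow])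
    refine (injective_iff_map_eq_one φ).2 (SUStep.cov_injective (K := K) (s := s) (γ := γ) ?_ hF)
    have hf4χ : ∀ j, j + 2 ≤ 4 → ∀ X, f4 (bl 4 2 j X) = S.χ j X := fun j hj X =>
      sys_chi hF (by norm_num) (S.head (show 4 ≤ k + 4 + 1 by omega)) hf4 hj X
    have hφf4 : ∀ Y, φ (f4 Y) = bl (k + 4 + 1) 4 0 Y := by
      have := gen_top hF hq3 (show 2 ≤ 4 by norm_num) ((φ.comp f4).eqLocus (bl (k + 4 + 1) 4 0)) fun j hj X => by
        show φ (f4 _) = bl (k + 4 + 1) 4 0 _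
        rw [hf4χ j hj, hχ j (by omega), bl_comp_apply (m := j) (by omega) hj (Nat.zero_add j)]
      exact fun Y => show Y ∈ (φ.comp f4).eqLocus _ from this ▸ Subgroup.mem_top Y
    have hf4K : ∀ Y : SU 4 F q, Y • (eI 0 : Fin 4 → F) = eI 0 → f4 Y ∈ K := by
      intro Y hY
      obtain ⟨B, rfl⟩ := exists_bl hF (k := 1) (a := 3) (b := 4) (by norm_num) (g := Y) fun j hj => by
        obtain rfl : j = 0 := by omega
        exact hY
      rw [← MonoidHom.comp_apply, hf4 1 (by norm_num), ← hf1 0 (by omega)]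
      exact hKf _
    have hs4 : f4 (bl 4 2 0 (W hF)) = s := by rw [hf4χ 0 (by norm_num), hs, hψ0χ0]
    have hW4 : bl 4 2 0 (W hF) • (eI 0 : Fin 4 → F) = eI 1 := by
      have h := bl_smul_eI (show 0 + 2 ≤ 4 by norm_num) (W_smul hF).1
      rw [one_smul] at h
      exact h
    have hn : γ * γ ^ q = -1 := by rw [← pow_succ', hγ]
    set v3 : Fin 3 → F := ![1, 1, γ] with hv3
    obtain ⟨Y3, -, hY3⟩ := exists_fixS_one hF (n := 3) (S := ∅) (by decide) (x := eI 0) (x' := v3)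
      (fun i hi => absurd hi (by simp)) (fun i hi => absurd hi (by simp)) (by rw [herm_eI_eI hF, if_pos rfl]) (by
        rw [herm, hermForm, Fin.sum_univ_three]; simp [hv3]; linear_combination hn)
    set v4 := bl 4 3 0 Y3 • (eI 0 : Fin 4 → F) with hv4
    obtain ⟨a4, ha4, ha4e⟩ := exists_fixS_one hF (n := 4) (S := {0}) (by decide) (x := eI 1) (x' := eI 3)
      (eI_mem_supp (by decide)) (eI_mem_supp (by decide)) (by rw [herm_eI_eI hF, if_pos rfl])
      (by rw [herm_eI_eI hF, if_pos rfl])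
    have has : (a4 * bl 4 2 0 (W hF)) • (eI 0 : Fin 4 → F) = eI 3 := by rw [mul_smul, hW4, ha4e]
    obtain ⟨b4, hb4, hb4e⟩ := exists_fixS_one hF (n := 4) (S := {0}) (by decide) (x := eI 1)
      (x' := (a4 * bl 4 2 0 (W hF))⁻¹ • v4) (eI_mem_supp (by decide))
      (fun i hi => by
        rw [Finset.mem_singleton.1 hi, ← herm_eI_right hF 0 (_ • _), ← herm_smul_SU (a4 * bl 4 2 0 (W hF)), smul_inv_smul, has,
          hv4, ← bl_fix hF (show 0 + 3 ≤ 4 by norm_num) Y3 (j := (3 : Fin 4)) (Or.inr le_rfl), herm_smul_SU,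
          herm_eI_eI hF, if_neg (by decide)])
      (by rw [herm_eI_eI hF, if_pos rfl]) (by rw [herm_smul_SU, hv4, herm_smul_SU, herm_eI_eI hF, if_pos rfl])
    set g0 := a4 * bl 4 2 0 (W hF) * (b4 * bl 4 2 0 (W hF)) with hg0
    have hg0e : g0 • (eI 0 : Fin 4 → F) = v4 := by rw [hg0, mul_smul, mul_smul b4, hW4, hb4e, smul_inv_smul]
    have hR : f4 ((bl 4 3 0 Y3)⁻¹ * g0) ∈ K := hf4K _ (by rw [mul_smul, hg0e, hv4, inv_smul_smul])
    have hz0 : f4 a4 * s * (f4 b4 * s) = S.ψ 0 Y3 * f4 ((bl 4 3 0 Y3)⁻¹ * g0) := by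
      rw [← hs4, ← map_mul, ← map_mul, ← map_mul, ← hg0, ← hf4 0 (by norm_num), MonoidHom.comp_apply, ← map_mul,
        mul_inv_cancel_left]
    have hshift4 : ∀ (i : Fin 4), (shift 0 (show 0 + 4 ≤ k + 4 + 1 by omega) i : ℕ) = i := fun i => by
      simp [shift_val]
    have hbl4 : ∀ (Y : SU 4 F q) (v : Fin 4 → F) (v' : Fin (k + 4 + 1) → F), Y • (eI 0 : Fin 4 → F) = v →
        (∀ i, v' (shift 0 (show 0 + 4 ≤ k + 4 + 1 by omega) i) = v i) → (∀ j : Fin (k + 4 + 1), 4 ≤ (j : ℕ) → v' j = 0) →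
        bl (k + 4 + 1) 4 0 Y • (eI 0 : Fin (k + 4 + 1) → F) = v' := by
      intro Y v v' hY hin hout
      refine ext_parts (shift 0 (show 0 + 4 ≤ k + 4 + 1 by omega)) (fun i => ?_) fun j hj => ?_
      · rw [bl_smul_in, show (eI 0 : Fin (k + 4 + 1) → F) ∘ shift 0 (show 0 + 4 ≤ k + 4 + 1 by omega) = eI 0 from
          funext fun t => by simp [eI, Pi.single_apply, Fin.ext_iff, -Fin.val_eq_zero_iff, shift_val], hY, hin]
      · have h4j : 4 ≤ (j : ℕ) := by
          by_contra hc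
          exact hj ⟨j, by omega⟩ (Fin.ext (by simp [shift_val]))
        rw [bl_eq (show 0 + 4 ≤ k + 4 + 1 by omega), emap_off _ _ _ hj, hout j h4j]
        simp [eI, Pi.single_apply, Fin.ext_iff, -Fin.val_eq_zero_iff]; omega
    refine ⟨hinj, hmem, hlift, ?_, hss, fun x hx h => hstab x hx ?_, ⟨_, hk1, ?_, htri⟩, hγ,
      ⟨f4 a4, hf4K _ (mem_fixS.1 ha4 0 (by simp)), f4 b4, hf4K _ (mem_fixS.1 hb4 0 (by simp)), ?_, ?_,
        fun g hg x hx hxg => ?_⟩, hgenK⟩
    · exact hs0.trans (by congr 1)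
    · rw [show i1 = 1 from Fin.ext (by simp [hi1])]; exact h
    · rw [show (1 : Fin (k + 5)) = i1 from Fin.ext (by simp [hi1])]
      exact (hi2 (by omega)).trans (by congr 1)
    · rw [← hs4, ← map_mul, hφf4]
      refine hbl4 _ _ _ has (fun i => ?_) fun j hj => ?_
      · fin_cases i <;> simp [eI, Pi.single_apply, Fin.ext_iff, -Fin.val_eq_zero_iff, shift_val, Nat.mod_eq_of_lt]
      · simp [eI, Pi.single_apply, Fin.ext_iff, -Fin.val_eq_zero_iff, Nat.mod_eq_of_lt]; omega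
    · rw [hz0, ← hf4 0 (by norm_num), MonoidHom.comp_apply, ← map_mul, mul_inv_cancel_left, hφf4]
      refine hbl4 _ _ _ hg0e (fun i => ?_) fun j hj => ?_
      · rw [hv4]
        have hin : ∀ t : Fin 3, (bl 4 3 0 Y3 • (eI 0 : Fin 4 → F)) (shift 0 (show 0 + 3 ≤ 4 by norm_num) t) = v3 t := by
          intro t
          rw [bl_smul_in, show (eI 0 : Fin 4 → F) ∘ shift 0 (show 0 + 3 ≤ 4 by norm_num) = eI 0 from
            funext fun r => by simp [eI, Pi.single_apply, Fin.ext_iff, -Fin.val_eq_zero_iff, shift_val], hY3]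
        fin_cases i
        · refine Eq.trans ?_ (hin 0).symm; simp [SUStep.v0, hv3, eI, Pi.single_apply, Fin.ext_iff, -Fin.val_eq_zero_iff, shift_val, Nat.mod_eq_of_lt]
        · refine Eq.trans ?_ (hin 1).symm; simp [SUStep.v0, hv3, eI, Pi.single_apply, Fin.ext_iff, -Fin.val_eq_zero_iff, shift_val, Nat.mod_eq_of_lt]
        · refine Eq.trans ?_ (hin 2).symm; simp [SUStep.v0, hv3, eI, Pi.single_apply, Fin.ext_iff, -Fin.val_eq_zero_iff, shift_val, Nat.mod_eq_of_lt]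
        · rw [bl_eq (show 0 + 3 ≤ 4 by norm_num), emap_off _ _ _ fun t h => by
            have := congrArg Fin.val h; simp [shift_val] at this; omega]
          simp [SUStep.v0, eI, Pi.single_apply, Fin.ext_iff, -Fin.val_eq_zero_iff, shift_val, Nat.mod_eq_of_lt]
      · have e0 : j ≠ 0 := fun e => by rw [e] at hj; simp at hj
        have e1 : j ≠ 1 := fun e => by
          rw [e, Fin.val_one'] at hj; rw [Nat.mod_eq_of_lt (by omega)] at hj; omega
        have e2 : j ≠ 2 := fun e => by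
          rw [e, Fin.val_two] at hj; omega
        simp [SUStep.v0, eI, e0, e1, e2]
    · obtain ⟨Gm, hGm⟩ := exists_bl hF (k := 3) (a := k + 2) (b := k + 4 + 1) (by omega) (g := g) fun j hj => by
        refine mem_fixS.1 hg j ?_
        have := j.isLt
        simp [Fin.ext_iff, -Fin.val_eq_zero_iff, Nat.mod_eq_of_lt]
        omega
      have hxe : x = f1 (bl (k + 4) (k + 2) 2 Gm) := by
        rw [← mul_inv_eq_one]
        refine hinj _ (mul_mem hx (inv_mem (hKf _))) ?_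
        rw [map_mul, map_inv, hxg, hφf1, bl_comp_apply (m := 3) (by omega) (by omega) rfl, hGm, mul_inv_cancel]
      have hc3 : ∀ (Y : SU 3 F q) (B : SU (k + 2) F q), Commute (S.ψ 0 Y) (f1 (bl (k + 4) (k + 2) 2 B)) := by
        intro Y B
        have := gen_top hF hq3 (show 2 ≤ k + 2 by omega)
          ((Subgroup.centralizer {S.ψ 0 Y}).comap (f1.comp (bl (k + 4) (k + 2) 2))) fun j hj Z => by
          rw [Subgroup.mem_comap, Subgroup.mem_centralizer_singleton_iff, MonoidHom.comp_apply,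
            bl_comp_apply (m := j + 2) (by omega) hj (by omega), hf1χ (j + 2) (by omega)]
          have h3 := gen_top hF hq3 (show 2 ≤ 3 by norm_num)
            ((Subgroup.centralizer {S.χ (j + 2 + 1) Z}).comap (S.ψ 0)) fun i hi X => by
            rw [Subgroup.mem_comap, Subgroup.mem_centralizer_singleton_iff]
            obtain rfl | rfl : i = 0 ∨ i = 1 := by omega
            · rw [hψ0χ0]; exact (S.comm 0 _ (by omega) (by omega) X Z).eq
            · rw [hψ0χ1, hf1χ 0 (by omega)]; exact (S.comm 1 _ (by omega) (by omega) X Z).eq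
          have hY : Y ∈ (Subgroup.centralizer {S.χ (j + 2 + 1) Z}).comap (S.ψ 0) := h3 ▸ Subgroup.mem_top Y
          exact (Subgroup.mem_centralizer_singleton_iff.1 hY).symm
        have hB : B ∈ (Subgroup.centralizer {S.ψ 0 Y}).comap (f1.comp (bl (k + 4) (k + 2) 2)) := this ▸ Subgroup.mem_top B
        exact (Subgroup.mem_centralizer_singleton_iff.1 hB).symm
      rw [hz0, show (S.ψ 0 Y3 * f4 ((bl 4 3 0 Y3)⁻¹ * g0))⁻¹ * x * (S.ψ 0 Y3 * f4 ((bl 4 3 0 Y3)⁻¹ * g0)) =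
        (f4 ((bl 4 3 0 Y3)⁻¹ * g0))⁻¹ * ((S.ψ 0 Y3)⁻¹ * x * S.ψ 0 Y3) * f4 ((bl 4 3 0 Y3)⁻¹ * g0) by group]
      refine mul_mem (mul_mem (inv_mem hR) ?_) hR
      rw [hxe, mul_assoc, ← (hc3 Y3 Gm).eq, inv_mul_cancel_left]
      exact hKf _

/-- The universal property, given the universal maps in dimension four when `q < 4`. -/
theorem universal_of (hq : 3 ≤ q) : ∀ {M : ℕ}, 3 ≤ M → ∀ {H : Type (max u w)} [Group H] (S : Sys F q M H),
    (4 ≤ q ∨ ∀ k, k + 4 ≤ M → ∃ f4 : SU 4 F q →* H, ∀ j, j + 3 ≤ 4 → f4.comp (bl 4 3 j) = S.ψ (k + j)) →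
    ∃ f : SU M F q →* H, ∀ k, k + 3 ≤ M → f.comp (bl M 3 k) = S.ψ k := by
  classical
  intro M
  induction M using Nat.strong_induction_on with
  | _ M ih =>
  intro hM H _ S hbase
  rcases Nat.eq_or_lt_of_le hM with rfl | h4
  · refine ⟨S.ψ 0, fun k hk => ?_⟩
    obtain rfl : k = 0 := by omega
    exact MonoidHom.ext fun Y => by rw [MonoidHom.comp_apply, bl_self]
  obtain ⟨m, rfl⟩ : ∃ m, M = m + 1 := ⟨M - 1, by omega⟩
  by_cases hq4 : m = 3 ∧ q < 4
  · obtain ⟨rfl, hq4⟩ := hq4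
    obtain ⟨f4, hf4⟩ := hbase.resolve_left (by omega) 0 le_rfl
    exact ⟨f4, fun k hk => (hf4 k hk).trans (by rw [Nat.zero_add])⟩
  let R : Subgroup (H × SU (m + 1) F q) :=
    ⨆ (k : ℕ) (_ : k + 3 ≤ m + 1), ((S.ψ k).prod (bl (m + 1) 3 k)).range
  have hle : ∀ k, k + 3 ≤ m + 1 → ∀ Y, ((S.ψ k).prod (bl (m + 1) 3 k)) Y ∈ R := fun k hk Y =>
    le_iSup₂ (f := fun k (_ : k + 3 ≤ m + 1) => ((S.ψ k).prod (bl (m + 1) 3 k)).range) k hk ⟨Y, rfl⟩
  let ψ' : ℕ → (SU 3 F q →* R) := fun k =>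
    if hk : k + 3 ≤ m + 1 then ((S.ψ k).prod (bl (m + 1) 3 k)).codRestrict R (hle k hk) else 1
  have hψ' : ∀ k, k + 3 ≤ m + 1 → ∀ Y, ((ψ' k Y : R) : H × SU (m + 1) F q) = (S.ψ k Y, bl (m + 1) 3 k Y) :=
    fun k hk Y => by simp only [ψ', dif_pos hk]; rfl
  let χ' : ℕ → (SU 2 F q →* R) := fun k =>
    if k + 3 ≤ m + 1 then (ψ' k).comp (bl 3 2 0) else (ψ' (k - 1)).comp (bl 3 2 1)
  have hχ' : ∀ k, k + 2 ≤ m + 1 → ∀ X, ((χ' k X : R) : H × SU (m + 1) F q) = (S.χ k X, bl (m + 1) 2 k X) := by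
    intro k hk X
    by_cases h : k + 3 ≤ m + 1
    · simp only [χ', if_pos h, MonoidHom.comp_apply, hψ' k h]
      rw [← MonoidHom.comp_apply, S.left k h, bl_comp_apply (m := k) h (by norm_num) (Nat.add_zero k)]
    · simp only [χ', if_neg h, MonoidHom.comp_apply]
      obtain ⟨j, rfl⟩ : ∃ j, k = j + 1 := ⟨k - 1, by omega⟩
      rw [Nat.add_sub_cancel, hψ' j (by omega), ← MonoidHom.comp_apply, S.right j (by omega),
        bl_comp_apply (m := j + 1) (by omega) (by norm_num) rfl]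
  let S' : Sys F q (m + 1) R :=
    { χ := χ'
      ψ := ψ'
      left := fun k hk => by simp only [χ', if_pos hk]
      right := fun k hk => MonoidHom.ext fun X => Subtype.ext (by
        rw [MonoidHom.comp_apply, hψ' k hk, hχ' (k + 1) (by omega), ← MonoidHom.comp_apply, S.right k hk,
          bl_comp_apply (m := k + 1) hk (by norm_num) rfl])
      comm := fun i j hij hj A B => Subtype.ext (by
        rw [Subgroup.coe_mul, Subgroup.coe_mul, hχ' i (by omega), hχ' j hj]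
        exact Prod.ext (S.comm i j hij hj A B).eq (bl_commute (by omega) hj A B).eq) }
  let φ : R →* SU (m + 1) F q := (MonoidHom.snd H (SU (m + 1) F q)).comp R.subtype
  have hφψ : ∀ k, k + 3 ≤ m + 1 → φ.comp (ψ' k) = bl (m + 1) 3 k := fun k hk => MonoidHom.ext fun Y => by
    show ((ψ' k Y : R) : H × SU (m + 1) F q).2 = _
    rw [hψ' k hk]
  have hbase' : 4 ≤ q ∨ ∀ k, k + 4 ≤ m + 1 → ∃ f4 : SU 4 F q →* R, ∀ j, j + 3 ≤ 4 → f4.comp (bl 4 3 j) = ψ' (k + j) := by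
    refine hbase.imp id fun hb k hk => ?_
    obtain ⟨f4, hf4⟩ := hb k hk
    have hR : ∀ Y, (f4.prod (bl (m + 1) 4 k)) Y ∈ R := by
      have := gen_top hF hq (show 2 ≤ 4 by norm_num) (R.comap (f4.prod (bl (m + 1) 4 k))) fun j hj X => by
        rw [Subgroup.mem_comap]
        obtain ⟨t, ht, hjt⟩ : ∃ t, t + 3 ≤ 4 ∧ ∃ l, l + 2 ≤ 3 ∧ t + l = j := by
          by_cases h : j + 3 ≤ 4
          · exact ⟨j, h, 0, by norm_num, by omega⟩
          · exact ⟨j - 1, by omega, 1, le_rfl, by omega⟩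
        obtain ⟨l, hl, rfl⟩ := hjt
        rw [← bl_comp_apply (b := 3) ht hl rfl X, MonoidHom.prod_apply, ← MonoidHom.comp_apply f4, hf4 t ht,
          bl_comp_apply (m := k + t) hk ht rfl]
        exact hle (k + t) (by omega) _
      exact fun Y => (this ▸ Subgroup.mem_top Y : Y ∈ R.comap _)
    refine ⟨(f4.prod (bl (m + 1) 4 k)).codRestrict R hR, fun j hj => MonoidHom.ext fun Y => Subtype.ext ?_⟩
    rw [hψ' (k + j) (by omega)]
    show (f4 (bl 4 3 j Y), bl (m + 1) 4 k (bl 4 3 j Y)) = _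
    rw [← MonoidHom.comp_apply f4, hf4 j hj, bl_comp_apply (m := k + j) hk hj rfl]
  obtain ⟨f1, hf1⟩ := ih m (by omega) (by omega) S'.tail (hbase'.imp id fun hb k hk => by
    obtain ⟨f4, hf4⟩ := hb (k + 1) (by omega)
    exact ⟨f4, fun j hj => (hf4 j hj).trans (congrArg ψ' (by omega))⟩)
  have hinj := step_injective hF hq (show 3 ≤ m by omega) S' φ hφψ (fun P hP => eq_top_iff.2 fun x _ => by
      have hR : R ≤ P.map R.subtype := iSup₂_le fun k hk => by
        rintro _ ⟨Y, rfl⟩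
        exact ⟨ψ' k Y, hP k hk Y, hψ' k hk Y⟩
      obtain ⟨y, hy, e⟩ := hR x.2
      rwa [← Subtype.ext (e : (y : H × SU (m + 1) F q) = x)])
    (fun h3 => Or.inl (by by_contra h; exact hq4 ⟨h3, by omega⟩)) f1 hf1 (fun hm =>
      ih 4 (by omega) (by norm_num) (S'.head (by omega)) (hbase'.imp id fun hb k hk => hb k (by omega)))
  have hsurj : Function.Surjective φ := MonoidHom.range_eq_top.1 (gen_top hF (by omega) (by omega) φ.range fun k hk A =>
    ⟨χ' k A, by show ((χ' k A : R) : H × SU (m + 1) F q).2 = _; rw [hχ' k hk]⟩)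
  let e := MulEquiv.ofBijective φ ⟨hinj, hsurj⟩
  refine ⟨((MonoidHom.fst H (SU (m + 1) F q)).comp R.subtype).comp e.symm.toMonoidHom, fun k hk => MonoidHom.ext fun Y => ?_⟩
  have he : e.symm (bl (m + 1) 3 k Y) = ψ' k Y := e.injective (by
    rw [MulEquiv.apply_symm_apply]; exact (DFunLike.congr_fun (hφψ k hk) Y).symm)
  show ((e.symm (bl (m + 1) 3 k Y) : R) : H × SU (m + 1) F q).1 = _
  rw [he, hψ' k hk]

/-- The four dimensional universal property from the base equations. -/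
theorem exists_four (hq : 3 ≤ q) {H : Type w} [Group H] (S : Sys F q 4 H) (hb : EqBase hF S) :
    ∃ f4 : SU 4 F q →* H, ∀ j, j + 3 ≤ 4 → f4.comp (bl 4 3 j) = S.ψ j := by
  classical
  let R : Subgroup (H × SU 4 F q) := ⨆ (k : ℕ) (_ : k + 3 ≤ 4), ((S.ψ k).prod (bl 4 3 k)).range
  have hle : ∀ k, k + 3 ≤ 4 → ∀ Y, ((S.ψ k).prod (bl 4 3 k)) Y ∈ R := fun k hk Y =>
    le_iSup₂ (f := fun k (_ : k + 3 ≤ 4) => ((S.ψ k).prod (bl 4 3 k)).range) k hk ⟨Y, rfl⟩
  let ψ' : ℕ → (SU 3 F q →* R) := fun k =>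
    if hk : k + 3 ≤ 4 then ((S.ψ k).prod (bl 4 3 k)).codRestrict R (hle k hk) else 1
  have hψ' : ∀ k, k + 3 ≤ 4 → ∀ Y, ((ψ' k Y : R) : H × SU 4 F q) = (S.ψ k Y, bl 4 3 k Y) :=
    fun k hk Y => by simp only [ψ', dif_pos hk]; rfl
  let χ' : ℕ → (SU 2 F q →* R) := fun k =>
    if k + 3 ≤ 4 then (ψ' k).comp (bl 3 2 0) else (ψ' (k - 1)).comp (bl 3 2 1)
  have hχ' : ∀ k, k + 2 ≤ 4 → ∀ X, ((χ' k X : R) : H × SU 4 F q) = (S.χ k X, bl 4 2 k X) := by
    intro k hk X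
    by_cases h : k + 3 ≤ 4
    · simp only [χ', if_pos h, MonoidHom.comp_apply, hψ' k h]
      rw [← MonoidHom.comp_apply, S.left k h, bl_comp_apply (m := k) h (by norm_num) (Nat.add_zero k)]
    · simp only [χ', if_neg h, MonoidHom.comp_apply]
      obtain ⟨j, rfl⟩ : ∃ j, k = j + 1 := ⟨k - 1, by omega⟩
      rw [Nat.add_sub_cancel, hψ' j (by omega), ← MonoidHom.comp_apply, S.right j (by omega),
        bl_comp_apply (m := j + 1) (by omega) (by norm_num) rfl]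
  let S' : Sys F q 4 R :=
    { χ := χ'
      ψ := ψ'
      left := fun k hk => by simp only [χ', if_pos hk]
      right := fun k hk => MonoidHom.ext fun X => Subtype.ext (by
        rw [MonoidHom.comp_apply, hψ' k hk, hχ' (k + 1) (by omega), ← MonoidHom.comp_apply, S.right k hk,
          bl_comp_apply (m := k + 1) hk (by norm_num) rfl])
      comm := fun i j hij hj A B => Subtype.ext (by
        rw [Subgroup.coe_mul, Subgroup.coe_mul, hχ' i (by omega), hχ' j hj]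
        exact Prod.ext (S.comm i j hij hj A B).eq (bl_commute (by omega) hj A B).eq) }
  let φ : R →* SU 4 F q := (MonoidHom.snd H (SU 4 F q)).comp R.subtype
  have hφψ : ∀ k, k + 3 ≤ 4 → φ.comp (ψ' k) = bl 4 3 k := fun k hk => MonoidHom.ext fun Y => by
    show ((ψ' k Y : R) : H × SU 4 F q).2 = _
    rw [hψ' k hk]
  have hb' : EqBase hF S' := by
    obtain ⟨γ, hγ, t1, t2, hspan, ht⟩ := hb
    refine ⟨γ, hγ, t1, t2, hspan, fun t htt => ?_⟩
    obtain ⟨a, a', b, b', c, e1, e2, e3, e4, e5⟩ := ht t htt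
    refine ⟨a, a', b, b', c, e1, e2, e3, e4, Subtype.ext ?_⟩
    simp only [S', Subgroup.coe_mul, hψ' 0 (by norm_num), hψ' 1 le_rfl]
    exact Prod.ext e5 e4
  have hinj := step_injective hF hq (show 3 ≤ 3 from le_rfl) S' φ hφψ (fun P hP => eq_top_iff.2 fun x _ => by
      have hR : R ≤ P.map R.subtype := iSup₂_le fun k hk => by
        rintro _ ⟨Y, rfl⟩
        exact ⟨ψ' k Y, hP k hk Y, hψ' k hk Y⟩
      obtain ⟨y, hy, e⟩ := hR x.2
      rwa [← Subtype.ext (e : (y : H × SU 4 F q) = x)])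
    (fun _ => Or.inr hb') (ψ' 1) (fun k hk => by
      obtain rfl : k = 0 := by omega
      exact MonoidHom.ext fun Y => by rw [MonoidHom.comp_apply, bl_self]) (fun h => absurd h (by norm_num))
  have hsurj : Function.Surjective φ := MonoidHom.range_eq_top.1 (gen_top hF (by omega) (by omega) φ.range fun k hk A =>
    ⟨χ' k A, by show ((χ' k A : R) : H × SU 4 F q).2 = _; rw [hχ' k hk]⟩)
  let e := MulEquiv.ofBijective φ ⟨hinj, hsurj⟩
  refine ⟨((MonoidHom.fst H (SU 4 F q)).comp R.subtype).comp e.symm.toMonoidHom, fun k hk => MonoidHom.ext fun Y => ?_⟩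
  have he : e.symm (bl 4 3 k Y) = ψ' k Y := e.injective (by
    rw [MulEquiv.apply_symm_apply]; exact (DFunLike.congr_fun (hφψ k hk) Y).symm)
  show ((e.symm (bl 4 3 k Y) : R) : H × SU 4 F q).1 = _
  rw [he, hψ' k hk]

/-- The universal property for `q ≥ 4`. -/
theorem universal (hq : 4 ≤ q) {M : ℕ} (hM : 3 ≤ M) {H : Type (max u w)} [Group H] (S : Sys F q M H) :
    ∃ f : SU M F q →* H, ∀ k, k + 3 ≤ M → f.comp (bl M 3 k) = S.ψ k :=
  universal_of.{u, w} hF (by omega) hM S (Or.inl hq)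

end Cfsg.Agent.KSG55.Phan
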