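import Cfsg.Agent.KSG55.Phan.Rigid
import Cfsg.Agent.SuMult50.Three
import Cfsg.Agent.S0281
import Cfsg.Agent.Lib.Unitary.Simple

/-!
`q = 3`: a homomorphism from `SU₄(3)` whose range contains two overlapping standard pairs can be chosen to extend
both of them.
-/

set_option autoImplicit false
set_option linter.unusedSectionVars false

namespace Cfsg.Agent.KSG55.Phan.Three

open Cfsg.Agent.Unitary Matrix Cfsg.Agent.CharB.PSLMult
open Cfsg.Agent.KSG55.SUStep (Orth orth_nil exists_fixS_one exists_fixS_two exists_norm_one_perp)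

universe u v

variable {F : Type v} [Field F] [Fintype F] {G : Type u} [Group G]

/-- The value `-1` of `SU₂`. -/
def negOne (hF : Fintype.card F = 3 ^ 2) : SU 2 F 3 :=
  dg (fun _ => -1) (fun _ => by ring) (by simp)

variable (hF : Fintype.card F = 3 ^ 2)

include hF

theorem char_three : CharP F 3 := by
  obtain ⟨p, k, hp, hk, hchar, hqk⟩ := exists_prime_pow hF
  have : p = 3 := (Nat.prime_dvd_prime_iff_eq hp Nat.prime_three).1 (hqk ▸ dvd_pow_self p hk.ne')
  exact this ▸ hchar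

theorem two_ne : (2 : F) ≠ 0 := fun h => by
  haveI := char_three hF
  have := (CharP.cast_eq_zero_iff F 3 2).1 (by exact_mod_cast h)
  norm_num at this

theorem neg_one_ne : (-1 : F) ≠ 1 := fun h => two_ne hF (by linear_combination -h)

/-- Scalars of norm one have order dividing four, so those of order three are trivial. -/
theorem eq_one_of_cube {c : F} (h4 : c ^ (3 + 1) = 1) (h3 : c ^ 3 = 1) : c = 1 := by
  rw [pow_succ, h3, one_mul] at h4; exact h4

/-- `SU₂(3)` is generated by elements of order three. -/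
theorem closure_cube_two : Subgroup.closure {x : SU 2 F 3 | x ^ 3 = 1} = ⊤ := by
  classical
  let L := (conjHom hF).eqLocusField (RingHom.id F)
  haveI : Fintype L := Fintype.ofFinite L
  have hK : Fintype.card L = 3 := by
    rw [← Nat.card_eq_fintype_card (α := L)]
    exact (Nat.card_congr (Equiv.subtypeEquivRight fun x => Iff.rfl)).trans (card_fixed hF)
  haveI : CharP L 3 := (L.subtype.charP_iff L.subtype.injective 3).2 (char_three hF)
  obtain ⟨e⟩ := S0281.equiv_SL hF hK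
  refine Subgroup.comap_injective (f := e.symm.toMonoidHom) e.symm.surjective ?_
  rw [Subgroup.comap_top]
  refine LinearGroup.eq_top_of_transvection_mem fun i j hij c => Subgroup.subset_closure ?_
  show e.symm _ ^ 3 = 1
  rw [← map_pow]
  refine (congrArg e.symm ?_).trans (map_one _)
  have key : ∀ k : ℕ, Matrix.SpecialLinearGroup.transvection hij c ^ k =
      Matrix.SpecialLinearGroup.transvection hij ((k : L) * c) := by
    intro k
    induction k with
    | zero => simp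
    | succ k ih =>
      rw [pow_succ, ih, ← Matrix.SpecialLinearGroup.transvection_add, Nat.cast_succ, add_mul, one_mul]
  rw [key, show ((3 : ℕ) : L) = 0 from CharP.cast_eq_zero L 3, zero_mul]
  exact Subtype.ext (Matrix.transvection_zero _ _)

/-- `SU₃(3)` is generated by elements of order three. -/
theorem closure_cube_three : Subgroup.closure {x : SU 3 F 3 | x ^ 3 = 1} = ⊤ := by
  refine gen_top hF le_rfl (by norm_num) _ fun k hk A => ?_
  have hle : Subgroup.closure {x : SU 2 F 3 | x ^ 3 = 1} ≤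
      (Subgroup.closure {x : SU 3 F 3 | x ^ 3 = 1}).comap (bl 3 2 k) :=
    (Subgroup.closure_le _).2 fun x hx => Subgroup.subset_closure (by
      show bl 3 2 k x ^ 3 = 1
      rw [← map_pow, show x ^ 3 = 1 from hx, map_one])
  exact hle (closure_cube_two hF ▸ Subgroup.mem_top A)

theorem center_bot : Subgroup.center (SU 3 F 3) = ⊥ :=
  Subgroup.eq_bot_of_card_eq _ (by rw [card_center hF (by norm_num)]; norm_num)

/-- The kernel of a nontrivial homomorphism from `SU₄(3)` is central. -/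
theorem ker_le_center {g : SU 4 F 3 →* G} (hg : g.ker ≠ ⊤) : g.ker ≤ Subgroup.center _ := by
  haveI := isSimpleGroup_PSU hF (n := 4) (by norm_num) (by norm_num)
  set π := QuotientGroup.mk' (Subgroup.center (SU 4 F 3)) with hπ
  haveI := (inferInstance : g.ker.Normal).map π (QuotientGroup.mk'_surjective _)
  rcases Subgroup.Normal.eq_bot_or_eq_top (H := g.ker.map π) inferInstance with h | h
  · rw [Subgroup.map_eq_bot_iff, hπ, QuotientGroup.ker_mk'] at h
    exact h
  · exfalso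
    apply hg
    have hperf := commutator_SU_eq_top hF (n := 4) (by norm_num) (by norm_num)
    rw [eq_top_iff, ← hperf, commutator_def, Subgroup.commutator_le]
    intro a _ b _
    obtain ⟨k, hk, ek⟩ := (h ▸ Subgroup.mem_top (π a) : π a ∈ g.ker.map π)
    obtain ⟨k', hk', ek'⟩ := (h ▸ Subgroup.mem_top (π b) : π b ∈ g.ker.map π)
    have hz : k⁻¹ * a ∈ Subgroup.center _ := QuotientGroup.eq.1 (show (QuotientGroup.mk k : _ ⧸ _) = QuotientGroup.mk a from ek)
    have hz' : k'⁻¹ * b ∈ Subgroup.center _ :=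
      QuotientGroup.eq.1 (show (QuotientGroup.mk k' : _ ⧸ _) = QuotientGroup.mk b from ek')
    have hc : ∀ x, Commute (k⁻¹ * a) x := fun x => ((Subgroup.mem_center_iff.1 hz) x).symm
    have hc' : ∀ x, Commute (k'⁻¹ * b) x := fun x => ((Subgroup.mem_center_iff.1 hz') x).symm
    rw [MonoidHom.mem_ker, commutatorElement_def, map_mul, map_mul, map_mul, map_inv, map_inv]
    have hga : g a = g (k⁻¹ * a) := by rw [map_mul, map_inv, MonoidHom.mem_ker.1 hk, inv_one, one_mul]
    have hgb : g b = g (k'⁻¹ * b) := by rw [map_mul, map_inv, MonoidHom.mem_ker.1 hk', inv_one, one_mul]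
    rw [hga, hgb, ((hc _).map g).eq]
    group

/-- A kernel element is a scalar, killed by the fourth power. -/
theorem ker_pow_four {g : SU 4 F 3 →* G} (hg : g.ker ≤ Subgroup.center _) {z : SU 4 F 3} (hz : g z = 1) :
    z ^ 4 = 1 := by
  obtain ⟨r, hr⟩ := (mem_center_iff hF (by norm_num)).1 (hg hz)
  have hr4 : r ^ (3 + 1) = 1 := line_norm hF (i := (0 : Fin 4)) (hr _)
  refine eq_of_smul_eq_SU fun x => ?_
  rw [pow_succ, pow_succ, pow_succ, pow_one, mul_smul, mul_smul, mul_smul, hr, hr, hr, hr, one_smul, smul_smul,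
    smul_smul, smul_smul]
  rw [show r * r * r * r = 1 by rw [← hr4]; ring, one_smul]

/-- Homomorphisms into `SU₄(3)` with the same composite agree on elements of order three. -/
theorem lift_unique {g : SU 4 F 3 →* G} (hg : g.ker ≤ Subgroup.center _) {A : Type*} [Group A]
    (hA : Subgroup.closure {x : A | x ^ 3 = 1} = ⊤) {f f' : A →* SU 4 F 3} (h : g.comp f = g.comp f') : f = f' := by
  refine MonoidHom.eq_of_eqOn_dense hA fun x hx => ?_
  have hz : g (f x * (f' x)⁻¹) = 1 := by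
    rw [map_mul, map_inv]
    exact mul_inv_eq_one.2 (DFunLike.congr_fun h x)
  set z := f x * (f' x)⁻¹ with hzdef
  have hfx : f x = z * f' x := by rw [hzdef, inv_mul_cancel_right]
  have hc : Commute z (f' x) := ((Subgroup.mem_center_iff.1 (hg hz)) _).symm
  have h3 : z ^ 3 = 1 := by
    have := congrArg (· ^ 3) hfx
    simp only [hc.mul_pow, ← map_pow, show x ^ 3 = 1 from hx, map_one, mul_one] at this
    exact this.symm
  have h4 := ker_pow_four hF hg hz
  rw [pow_succ, h3, one_mul] at h4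
  rw [hfx, h4, one_mul]

/-- Elements with commuting images commute, if one has order three. -/
theorem commute_of_image {g : SU 4 F 3 →* G} (hg : g.ker ≤ Subgroup.center _) {a b : SU 4 F 3} (ha : a ^ 3 = 1)
    (h : Commute (g a) (g b)) : Commute a b := by
  set z := b * a * b⁻¹ * a⁻¹ with hz
  have hgz : g z = 1 := by rw [hz, map_mul, map_mul, map_mul, map_inv, map_inv, ← h.eq]; group
  have hc : Commute z a := ((Subgroup.mem_center_iff.1 (hg hgz)) _).symm
  have hb : b * a * b⁻¹ = z * a := by rw [hz]; group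
  have h3 : z ^ 3 = 1 := by
    have := congrArg (· ^ 3) hb
    simp only [hc.mul_pow, conj_pow, ha, mul_one] at this
    rw [← this]; group
  have h4 := ker_pow_four hF hg hgz
  rw [pow_succ, h3, one_mul] at h4
  rw [h4, one_mul] at hb
  exact (mul_inv_eq_iff_eq_mul.1 hb).symm

/-- Lifting a copy of `SU₃(3)`. -/
theorem exists_lift {g : SU 4 F 3 →* G} (hg : g.ker ≤ Subgroup.center _) {ψ : SU 3 F 3 →* G}
    (hψ : Function.Injective ψ) (hr : ψ.range ≤ g.range) :
    ∃ Φ : SU 3 F 3 →* SU 4 F 3, g.comp Φ = ψ := by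
  classical
  haveI := char_three hF
  set T : Set (SU 4 F 3) := {y | y ^ 3 = 1 ∧ g y ∈ ψ.range} with hT
  set Γ := Subgroup.closure T with hΓ
  have hle : ∀ y ∈ Γ, g y ∈ ψ.range := fun y hy =>
    show y ∈ ψ.range.comap g from ((Subgroup.closure_le _).2 fun z hz => hz.2) hy
  let e := MonoidHom.ofInjective hψ
  let σ : Γ →* SU 3 F 3 := e.symm.toMonoidHom.comp ((g.comp Γ.subtype).codRestrict ψ.range fun y => hle _ y.2)
  have hσ : ∀ y : Γ, ψ (σ y) = g y := fun y => congrArg Subtype.val (e.apply_symm_apply _)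
  have hker : ∀ y : Γ, σ y = 1 → g (y : SU 4 F 3) = 1 := fun y h => by rw [← hσ, h, map_one]
  have hsurj : Function.Surjective σ := by
    refine MonoidHom.range_eq_top.1 (eq_top_iff.2 ?_)
    rw [← closure_cube_three hF, Subgroup.closure_le]
    intro x hx
    obtain ⟨y0, hy0⟩ := hr ⟨x, rfl⟩
    have h3 : g (y0 ^ 3) = 1 := by rw [map_pow, hy0, ← map_pow, show x ^ 3 = 1 from hx, map_one]
    have hy : g (y0 ^ 4) = ψ x := by rw [pow_succ, map_mul, h3, one_mul, hy0]
    have hyT : y0 ^ 4 ∈ T := ⟨by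
      rw [← pow_mul, mul_comm, pow_mul]; exact ker_pow_four hF hg h3, by rw [hy]; exact ⟨x, rfl⟩⟩
    exact ⟨⟨y0 ^ 4, Subgroup.subset_closure hyT⟩, hψ (by rw [hσ]; exact hy)⟩
  have hcen : σ.ker ≤ Subgroup.center Γ := fun y hy => Subgroup.mem_center_iff.2 fun x =>
    Subtype.ext (Subgroup.mem_center_iff.1 (hg (hker y hy)) _)
  have hcop : ¬ 3 ∣ Nat.card σ.ker := by
    intro h3
    have hdvd : Nat.card σ.ker ∣ Nat.card (Subgroup.center (SU 4 F 3)) :=
      Subgroup.card_dvd_of_injective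
        (((Γ.subtype).comp σ.ker.subtype).codRestrict (Subgroup.center (SU 4 F 3)) fun y => hg (hker _ y.2))
        fun a b e => Subtype.ext (Subtype.ext (congrArg Subtype.val e :))
    rw [card_center hF (by norm_num)] at hdvd
    exact absurd (h3.trans hdvd) (by norm_num)
  have hbot : σ.ker = ⊥ := SuMult50.ptriv_SU_three hF (p := 3) le_rfl Γ σ ⟨Nat.prime_three, hsurj, hcen, hcop⟩ (by
    rw [eq_top_iff, ← Subgroup.closure_closure_coe_preimage (k := T)]
    exact Subgroup.closure_mono fun y hy => ⟨1, Subtype.ext (by simpa using (hy : ((y : Γ) : SU 4 F 3) ∈ T).1)⟩)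
  let eσ := MulEquiv.ofBijective σ ⟨(MonoidHom.ker_eq_bot_iff σ).1 hbot, hsurj⟩
  refine ⟨Γ.subtype.comp eσ.symm.toMonoidHom, MonoidHom.ext fun x => ?_⟩
  show g ((eσ.symm x : Γ) : SU 4 F 3) = ψ x
  rw [← hσ]
  exact congrArg ψ (eσ.apply_symm_apply x)

/-! ### Commuting involutions -/

/-- A component of a nonisotropic vector in an eigenspace of an involution. -/
theorem exists_eigen {a : SU 4 F 3} (ha : a * a = 1) {v : Fin 4 → F} (hv : herm 3 v v ≠ 0) :
    ∃ σ : F, (σ = 1 ∨ σ = -1) ∧ herm 3 (v + σ • (a • v)) (v + σ • (a • v)) ≠ 0 ∧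
      a • (v + σ • (a • v)) = σ • (v + σ • (a • v)) := by
  have haa : a • (a • v) = v := by rw [← mul_smul, ha, one_smul]
  have hsym : herm 3 v (a • v) = herm 3 (a • v) v := by
    conv_lhs => rw [← herm_smul_SU a, haa]
  have hN : herm 3 (v + (1 : F) • (a • v)) (v + (1 : F) • (a • v)) +
      herm 3 (v + (-1 : F) • (a • v)) (v + (-1 : F) • (a • v)) = 4 * herm 3 v v := by
    simp only [herm_add_left, herm_add_right hF, herm_smul_left, herm_smul_right hF, herm_smul_SU, hsym]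
    ring
  have key : ∀ σ : F, σ * σ = 1 → a • (v + σ • (a • v)) = σ • (v + σ • (a • v)) := fun σ hσ => by
    rw [smul_add a, lineSmul, haa, smul_add σ, smul_smul, hσ, one_smul, add_comm]
  by_cases h : herm 3 (v + (1 : F) • (a • v)) (v + (1 : F) • (a • v)) = 0
  · refine ⟨-1, Or.inr rfl, ?_, key _ (by ring)⟩
    rw [h, zero_add] at hN
    rw [hN]
    refine mul_ne_zero ?_ hv
    rw [show (4 : F) = 2 * 2 by norm_num]
    exact mul_ne_zero (two_ne hF) (two_ne hF)
  · exact ⟨1, Or.inl rfl, h, key _ (one_mul 1)⟩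

/-- Joint eigenvectors of two commuting involutions, orthogonal to given ones. -/
theorem exists_joint {a b : SU 4 F 3} (ha : a * a = 1) (hb : b * b = 1) (hab : Commute a b) {k : ℕ} (hk : k < 4)
    {X : Fin k → Fin 4 → F} (hX : Orth 3 X)
    (hXa : ∀ i, ∃ σ : F, (σ = 1 ∨ σ = -1) ∧ a • X i = σ • X i)
    (hXb : ∀ i, ∃ σ : F, (σ = 1 ∨ σ = -1) ∧ b • X i = σ • X i) :
    ∃ w, herm 3 w w = 1 ∧ (∀ i, herm 3 w (X i) = 0) ∧
      (∃ σ : F, (σ = 1 ∨ σ = -1) ∧ a • w = σ • w) ∧ ∃ σ : F, (σ = 1 ∨ σ = -1) ∧ b • w = σ • w := by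
  obtain ⟨v, hv, hvX⟩ := exists_norm_one_perp hF hX hk
  have hperp : ∀ {c : SU 4 F 3}, c * c = 1 → (∀ i, ∃ σ : F, (σ = 1 ∨ σ = -1) ∧ c • X i = σ • X i) →
      ∀ u : Fin 4 → F, (∀ i, herm 3 u (X i) = 0) → ∀ t : F, ∀ i, herm 3 (u + t • (c • u)) (X i) = 0 := by
    intro c hc hXc u hu t i
    obtain ⟨σ, hσ, e⟩ := hXc i
    have : herm 3 (c • u) (X i) = 0 := by
      rw [← herm_smul_SU c, ← mul_smul, hc, one_smul, e, herm_smul_right hF, hu, mul_zero]
    rw [herm_add_left, herm_smul_left, hu, this, mul_zero, add_zero]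
  obtain ⟨σ, hσ, hn1, e1⟩ := exists_eigen hF ha (v := v) (by rw [hv]; exact one_ne_zero)
  set v1 := v + σ • (a • v)
  have hv1 : ∀ i, herm 3 v1 (X i) = 0 := hperp ha hXa v hvX σ
  obtain ⟨τ, hτ, hn2, e2⟩ := exists_eigen hF hb hn1
  set v2 := v1 + τ • (b • v1) with hv2
  have e3 : a • v2 = σ • v2 := by
    rw [hv2, smul_add a, lineSmul, ← mul_smul, hab.eq, mul_smul, e1, lineSmul]
    funext i
    simp only [Pi.add_apply, Pi.smul_apply, smul_eq_mul]
    ring
  obtain ⟨c, hc⟩ := exists_norm_eq hF (t := herm 3 v2 v2) (herm_self_fixed hF v2)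
  have hc0 : c ≠ 0 := fun e => hn2 (by rw [← hc, e]; ring)
  refine ⟨c⁻¹ • v2, ?_, fun i => ?_, ⟨σ, hσ, ?_⟩, ⟨τ, hτ, ?_⟩⟩
  · rw [herm_smul_left, herm_smul_right hF, ← hc, inv_pow, pow_succ]; field_simp
  · rw [herm_smul_left, hperp hb hXb v1 hv1 τ i, mul_zero]
  · rw [lineSmul, e3, smul_comm]
  · rw [lineSmul, e2, smul_comm]

omit hF in
/-- Signs of two involutions whose product is not scalar. -/
theorem patterns_injective : ∀ s0 s1 s2 s3 t0 t1 t2 t3 : Bool,
    ((s0 ^^ s1) ^^ (s2 ^^ s3)) = false → ((t0 ^^ t1) ^^ (t2 ^^ t3)) = false →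
    ¬(s0 = s1 ∧ s1 = s2 ∧ s2 = s3) → ¬(t0 = t1 ∧ t1 = t2 ∧ t2 = t3) →
    ¬((s0 ^^ t0) = (s1 ^^ t1) ∧ (s1 ^^ t1) = (s2 ^^ t2) ∧ (s2 ^^ t2) = (s3 ^^ t3)) →
    Function.Injective ![(s0, t0), (s1, t1), (s2, t2), (s3, t3)] := by
  decide

/-- A sign. -/
def sgn (F : Type v) [Field F] (b : Bool) : F := if b then -1 else 1

/-- Two commuting involutions with non-scalar product can be put in standard position. -/
theorem exists_frame {a b : SU 4 F 3} (ha : a * a = 1) (hb : b * b = 1) (hab : Commute a b)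
    (hna : a ∉ Subgroup.center (SU 4 F 3)) (hnb : b ∉ Subgroup.center (SU 4 F 3))
    (hnab : a * b ∉ Subgroup.center (SU 4 F 3)) :
    ∃ h : SU 4 F 3, h * a * h⁻¹ = bl 4 2 0 (negOne hF) ∧ h * b * h⁻¹ = bl 4 2 1 (negOne hF) := by
  classical
  have e0 : ∀ i, herm 3 (eI i) (eI i : Fin 4 → F) = 1 := fun i => by rw [herm_eI_eI hF, if_pos rfl]
  obtain ⟨x0, n0, -, a0, b0⟩ := exists_joint hF ha hb hab (k := 0) (by norm_num) (X := ![]) (orth_nil hF)
    (fun i => i.elim0) fun i => i.elim0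
  have o1 := (orth_nil hF (n := 4) (q := 3)).cons hF (x := x0) (by rw [n0]; exact one_ne_zero) fun i => i.elim0
  obtain ⟨x1, n1, p1, a1, b1⟩ := exists_joint hF ha hb hab (k := 1) (by norm_num) o1
    (fun i => by fin_cases i; exact a0) (fun i => by fin_cases i; exact b0)
  have o2 := o1.cons hF (x := x1) (by rw [n1]; exact one_ne_zero) p1
  obtain ⟨x2, n2, p2, a2, b2⟩ := exists_joint hF ha hb hab (k := 2) (by norm_num) o2
    (fun i => by fin_cases i <;> assumption) (fun i => by fin_cases i <;> assumption)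
  have o3 := o2.cons hF (x := x2) (by rw [n2]; exact one_ne_zero) p2
  obtain ⟨x3, n3, p3, a3, b3⟩ := exists_joint hF ha hb hab (k := 3) (by norm_num) o3
    (fun i => by fin_cases i <;> assumption) (fun i => by fin_cases i <;> assumption)
  have hsgn : ∀ {c : SU 4 F 3} {x : Fin 4 → F}, (∃ σ : F, (σ = 1 ∨ σ = -1) ∧ c • x = σ • x) →
      ∃ s : Bool, c • x = sgn F s • x := by
    rintro c x ⟨σ, rfl | rfl, e⟩
    · exact ⟨false, by simpa [sgn] using e⟩
    · exact ⟨true, by simpa [sgn] using e⟩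
  set X : Fin 4 → Fin 4 → F := ![x0, x1, x2, x3] with hX
  have hn : ∀ i, herm 3 (X i) (X i) = 1 := fun i => by fin_cases i <;> assumption
  have q01 : herm 3 x1 x0 = 0 := p1 0
  have q12 : herm 3 x2 x1 = 0 := p2 0
  have q02 : herm 3 x2 x0 = 0 := p2 1
  have q23 : herm 3 x3 x2 = 0 := p3 0
  have q13 : herm 3 x3 x1 = 0 := p3 1
  have q03 : herm 3 x3 x0 = 0 := p3 2
  have hp : ∀ i j, i ≠ j → herm 3 (X i) (X j) = 0 := by
    intro i j hij
    fin_cases i <;> fin_cases j <;> first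
      | exact absurd rfl hij
      | assumption
      | (refine (herm_eq_zero_comm hF).1 ?_; assumption)
  obtain ⟨s, hs⟩ : ∃ s : Fin 4 → Bool, ∀ i, a • X i = sgn F (s i) • X i := by
    refine Classical.axiomOfChoice fun i => hsgn ?_
    fin_cases i <;> assumption
  obtain ⟨t, ht⟩ : ∃ t : Fin 4 → Bool, ∀ i, b • X i = sgn F (t i) • X i := by
    refine Classical.axiomOfChoice fun i => hsgn ?_
    fin_cases i <;> assumption
  -- a change of basis making both diagonal
  obtain ⟨k1, hk1, k1e0, k1e1⟩ := exists_fixS_two hF (S := ∅) (by simp) (a := X 0) (b := X 1) (a' := eI 0) (b' := eI 1)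
    (fun i hi => absurd hi (by simp)) (fun i hi => absurd hi (by simp)) (fun i hi => absurd hi (by simp))
    (fun i hi => absurd hi (by simp)) (hn 0) (hn 1) (hp 0 1 (by decide)) (e0 0) (e0 1)
    (by rw [herm_eI_eI hF, if_neg (by decide)])
  have hk10 : ∀ v, herm 3 v (X 0) = 0 → (k1 • v) 0 = 0 := fun v hv => by
    rw [← herm_eI_right hF 0 (k1 • v), ← k1e0, herm_smul_SU, hv]
  have hk11 : ∀ v, herm 3 v (X 1) = 0 → (k1 • v) 1 = 0 := fun v hv => by
    rw [← herm_eI_right hF 1 (k1 • v), ← k1e1, herm_smul_SU, hv]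
  obtain ⟨k2, hk2, k2e⟩ := exists_fixS_one hF (S := ({0, 1} : Finset (Fin 4))) (by decide) (x := k1 • X 2) (x' := eI 2)
    (fun i hi => by
      simp only [Finset.mem_insert, Finset.mem_singleton] at hi
      rcases hi with rfl | rfl
      · exact hk10 _ (hp 2 0 (by decide))
      · exact hk11 _ (hp 2 1 (by decide)))
    (eI_mem_supp (by decide)) (by rw [herm_smul_SU, hn]) (e0 2)
  set k := k2 * k1 with hk
  have hke : ∀ i, ∃ c : F, c ≠ 0 ∧ k • X i = c • eI i := by
    have h0 : k • X 0 = eI 0 := by rw [hk, mul_smul, k1e0, mem_fixS.1 hk2 0 (by decide)]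
    have h1 : k • X 1 = eI 1 := by rw [hk, mul_smul, k1e1, mem_fixS.1 hk2 1 (by decide)]
    have h2 : k • X 2 = eI 2 := by rw [hk, mul_smul, k2e]
    have h3 : ∀ j : Fin 4, j ≠ 3 → (k • X 3) j = 0 := fun j hj => by
      have hkj : k • X j = eI j := by fin_cases j <;> first | exact absurd rfl hj | assumption
      rw [← herm_eI_right hF j (k • X 3), ← hkj, herm_smul_SU]
      exact hp 3 j (Ne.symm hj)
    have h33 : k • X 3 = (k • X 3) 3 • eI 3 := funext fun j => by
      by_cases hj : j = 3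
      · subst hj; simp [eI]
      · simp [eI, hj, h3 j hj]
    have hne : (k • X 3) 3 ≠ 0 := fun e => by
      rw [e, zero_smul, smul_eq_zero_iff_eq] at h33
      have := hn 3
      rw [h33, herm_zero_left] at this
      exact zero_ne_one this
    intro i
    fin_cases i
    · exact ⟨1, one_ne_zero, by rw [one_smul]; exact h0⟩
    · exact ⟨1, one_ne_zero, by rw [one_smul]; exact h1⟩
    · exact ⟨1, one_ne_zero, by rw [one_smul]; exact h2⟩
    · exact ⟨_, hne, h33⟩
  have hdiag : ∀ (c : SU 4 F 3) (s : Fin 4 → Bool), (∀ i, c • X i = sgn F (s i) • X i) →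
      ∀ i, (k * c * k⁻¹) • (eI i : Fin 4 → F) = sgn F (s i) • eI i := by
    intro c s hcs i
    obtain ⟨e, he, hei⟩ := hke i
    have : k⁻¹ • (eI i : Fin 4 → F) = e⁻¹ • X i := by
      rw [inv_smul_eq_iff, lineSmul, hei, smul_smul, inv_mul_cancel₀ he, one_smul]
    rw [mul_smul, mul_smul, this, lineSmul, hcs, lineSmul, lineSmul, hei, smul_smul, smul_smul]
    congr 1
    field_simp
  -- the sign patterns
  have hparity : ∀ (c : SU 4 F 3) (s : Fin 4 → Bool), (∀ i, c • X i = sgn F (s i) • X i) →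
      ((s 0 ^^ s 1) ^^ (s 2 ^^ s 3)) = false ∧
        (c ∉ Subgroup.center (SU 4 F 3) → ¬(s 0 = s 1 ∧ s 1 = s 2 ∧ s 2 = s 3)) := by
    intro c s hcs
    have hd := hdiag c s hcs
    constructor
    · have hM : ((k * c * k⁻¹).1 : Matrix (Fin 4) (Fin 4) F) = Matrix.diagonal fun i => sgn F (s i) :=
        Matrix.ext_of_mulVec_single fun i => by
          refine (hd i).trans ?_
          funext j
          rw [Matrix.mulVec_diagonal]
          by_cases hj : j = i
          · subst hj; rfl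
          · simp [eI, hj]
      have hdet := (k * c * k⁻¹).1.2
      rw [hM, Matrix.det_diagonal, Fin.prod_univ_four] at hdet
      have := neg_one_ne hF
      revert hdet
      cases s 0 <;> cases s 1 <;> cases s 2 <;> cases s 3 <;> simp [sgn, this]
    · intro hc ⟨e1, e2, e3⟩
      apply hc
      have hall : ∀ i, s i = s 0 := fun i => by
        fin_cases i
        · rfl
        · exact e1.symm
        · exact (e1.trans e2).symm
        · exact (e1.trans (e2.trans e3)).symm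
      refine (mem_center_iff hF (by norm_num)).2 ⟨sgn F (s 0), fun x => ?_⟩
      have hz : ∀ y : Fin 4 → F, (k * c * k⁻¹) • y = sgn F (s 0) • y := fun y => by
        rw [eq_sum_eI y, Finset.smul_sum, Finset.smul_sum]
        exact Finset.sum_congr rfl fun i _ => by rw [lineSmul, hd, hall, smul_comm]
      have := hz (k • x)
      rwa [mul_smul, mul_smul, inv_smul_smul, ← lineSmul, smul_left_cancel_iff] at this
  have hsxt : ∀ i, (a * b) • X i = sgn F (s i ^^ t i) • X i := fun i => by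
    rw [mul_smul, ht, lineSmul, hs, smul_smul]
    congr 1
    cases s i <;> cases t i <;> simp [sgn]
  have hpatinj := patterns_injective (s 0) (s 1) (s 2) (s 3) (t 0) (t 1) (t 2) (t 3) (hparity a s hs).1
    (hparity b t ht).1 ((hparity a s hs).2 hna) ((hparity b t ht).2 hnb) ((hparity (a * b) _ hsxt).2 hnab)
  have hsurj : ∀ p : Bool × Bool, ∃ i, (s i, t i) = p := fun p => by
    obtain ⟨i, hi⟩ := ((Fintype.bijective_iff_injective_and_card _).2 ⟨hpatinj, by simp⟩).2 p
    exact ⟨i, by rw [← hi]; fin_cases i <;> rfl⟩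
  obtain ⟨i0, hi0⟩ := hsurj (true, false)
  obtain ⟨i1, hi1⟩ := hsurj (true, true)
  obtain ⟨i2, hi2⟩ := hsurj (false, true)
  obtain ⟨i3, hi3⟩ := hsurj (false, false)
  rw [Prod.ext_iff] at hi0 hi1 hi2 hi3
  simp only at hi0 hi1 hi2 hi3
  have h01 : i0 ≠ i1 := fun e => absurd (hi0.2.symm.trans ((congrArg t e).trans hi1.2)) (by decide)
  have h02 : i0 ≠ i2 := fun e => absurd (hi0.1.symm.trans ((congrArg s e).trans hi2.1)) (by decide)
  have h12 : i1 ≠ i2 := fun e => absurd (hi1.1.symm.trans ((congrArg s e).trans hi2.1)) (by decide)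
  have h03 : i0 ≠ i3 := fun e => absurd (hi0.1.symm.trans ((congrArg s e).trans hi3.1)) (by decide)
  have h13 : i1 ≠ i3 := fun e => absurd (hi1.1.symm.trans ((congrArg s e).trans hi3.1)) (by decide)
  have h23 : i2 ≠ i3 := fun e => absurd (hi2.2.symm.trans ((congrArg t e).trans hi3.2)) (by decide)
  -- move them into standard position
  obtain ⟨m1, -, m1e0, m1e1⟩ := exists_fixS_two hF (S := ∅) (by simp) (a := X i0) (b := X i1) (a' := eI 0) (b' := eI 1)
    (fun i hi => absurd hi (by simp)) (fun i hi => absurd hi (by simp)) (fun i hi => absurd hi (by simp))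
    (fun i hi => absurd hi (by simp)) (hn _) (hn _) (hp _ _ h01) (e0 0) (e0 1)
    (by rw [herm_eI_eI hF, if_neg (by decide)])
  obtain ⟨m2, hm2, m2e⟩ := exists_fixS_one hF (S := ({0, 1} : Finset (Fin 4))) (by decide) (x := m1 • X i2) (x' := eI 2)
    (fun i hi => by
      simp only [Finset.mem_insert, Finset.mem_singleton] at hi
      rcases hi with rfl | rfl
      · rw [← herm_eI_right hF 0 (m1 • X i2), ← m1e0, herm_smul_SU]; exact hp _ _ (Ne.symm h02)
      · rw [← herm_eI_right hF 1 (m1 • X i2), ← m1e1, herm_smul_SU]; exact hp _ _ (Ne.symm h12))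
    (eI_mem_supp (by decide)) (by rw [herm_smul_SU, hn]) (e0 2)
  set h := m2 * m1 with hh
  have g0 : h • X i0 = eI 0 := by rw [hh, mul_smul, m1e0, mem_fixS.1 hm2 0 (by decide)]
  have g1 : h • X i1 = eI 1 := by rw [hh, mul_smul, m1e1, mem_fixS.1 hm2 1 (by decide)]
  have g2 : h • X i2 = eI 2 := by rw [hh, mul_smul, m2e]
  have g3 : h • X i3 = (h • X i3) 3 • eI 3 := funext fun j => by
    fin_cases j
    · show (h • X i3) 0 = _
      rw [← herm_eI_right hF 0 (h • X i3), ← g0, herm_smul_SU, hp _ _ (Ne.symm h03)]; simp [eI]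
    · show (h • X i3) 1 = _
      rw [← herm_eI_right hF 1 (h • X i3), ← g1, herm_smul_SU, hp _ _ (Ne.symm h13)]; simp [eI]
    · show (h • X i3) 2 = _
      rw [← herm_eI_right hF 2 (h • X i3), ← g2, herm_smul_SU, hp _ _ (Ne.symm h23)]; simp [eI]
    · simp [eI]
  have g3ne : (h • X i3) 3 ≠ 0 := fun e => by
    rw [e, zero_smul, smul_eq_zero_iff_eq] at g3
    have := hn i3
    rw [g3, herm_zero_left] at this
    exact zero_ne_one this
  have hN : ∀ (k : ℕ) (hk : k + 2 ≤ 4) (i : Fin 4), bl 4 2 k (negOne hF) • (eI i : Fin 4 → F) =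
      (if k ≤ (i : ℕ) ∧ (i : ℕ) < k + 2 then (-1 : F) else 1) • eI i := by
    intro k hk i
    split_ifs with hi
    · have := bl_smul_eI hk (A := negOne hF) (i := ⟨i - k, by omega⟩) (j := ⟨i - k, by omega⟩)
        (dg_smul_eI _ _ _ _)
      rwa [show shift k hk ⟨i - k, by omega⟩ = i from Fin.ext (by simp [shift_val]; omega)] at this
    · rw [bl_fix hF hk _ (by omega), one_smul]
  have conjEval : ∀ (c : SU 4 F 3) (s : Fin 4 → Bool) (i : Fin 4) (j : Fin 4) (e : F), e ≠ 0 →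
      h • X j = e • eI i → c • X j = sgn F (s j) • X j → (h * c * h⁻¹) • (eI i : Fin 4 → F) = sgn F (s j) • eI i := by
    intro c s i j e he hj hc
    have : h⁻¹ • (eI i : Fin 4 → F) = e⁻¹ • X j := by
      rw [inv_smul_eq_iff, lineSmul, hj, smul_smul, inv_mul_cancel₀ he, one_smul]
    rw [mul_smul, mul_smul, this, lineSmul, hc, lineSmul, lineSmul, hj, smul_smul, smul_smul]
    congr 1
    field_simp
  refine ⟨h, ext_eI fun i => ?_, ext_eI fun i => ?_⟩ <;> rw [hN _ (by norm_num)] <;> fin_cases i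
  · rw [conjEval a s _ i0 1 one_ne_zero (by rw [one_smul]; exact g0) (hs _), hi0.1]; simp [sgn]
  · rw [conjEval a s _ i1 1 one_ne_zero (by rw [one_smul]; exact g1) (hs _), hi1.1]; simp [sgn]
  · rw [conjEval a s _ i2 1 one_ne_zero (by rw [one_smul]; exact g2) (hs _), hi2.1]; simp [sgn]
  · exact (conjEval a s 3 i3 _ g3ne g3 (hs _)).trans (by rw [hi3.1]; simp [sgn])
  · rw [conjEval b t _ i0 1 one_ne_zero (by rw [one_smul]; exact g0) (ht _), hi0.2]; simp [sgn]
  · rw [conjEval b t _ i1 1 one_ne_zero (by rw [one_smul]; exact g1) (ht _), hi1.2]; simp [sgn]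
  · rw [conjEval b t _ i2 1 one_ne_zero (by rw [one_smul]; exact g2) (ht _), hi2.2]; simp [sgn]
  · exact (conjEval b t 3 i3 _ g3ne g3 (ht _)).trans (by rw [hi3.2]; simp [sgn])

/-- Membership of a coordinate in the first block. -/
def pA (i : Fin 4) : Bool := decide ((i : ℕ) < 2)

/-- Membership of a coordinate in the middle block. -/
def pB (i : Fin 4) : Bool := decide (1 ≤ (i : ℕ) ∧ (i : ℕ) < 3)

theorem sgn_inj {a b : Bool} (h : sgn F a = sgn F b) : a = b := by
  have := neg_one_ne hF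
  cases a <;> cases b <;> simp [sgn, this, Ne.symm this] at h ⊢

theorem negOne_smul {b : ℕ} (k : ℕ) (hk : k + 2 ≤ b) (i : Fin b) :
    bl b 2 k (negOne hF) • (eI i : Fin b → F) =
      (if k ≤ (i : ℕ) ∧ (i : ℕ) < k + 2 then (-1 : F) else 1) • eI i := by
  split_ifs with hi
  · have := bl_smul_eI hk (A := negOne hF) (i := ⟨i - k, by omega⟩) (j := ⟨i - k, by omega⟩) (dg_smul_eI _ _ _ _)
    rwa [show shift k hk ⟨i - k, by omega⟩ = i from Fin.ext (by simp [shift_val]; omega)] at this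
  · rw [bl_fix hF hk _ (by omega), one_smul]

theorem Z0_smul (i : Fin 4) : bl 4 2 0 (negOne hF) • (eI i : Fin 4 → F) = sgn F (pA i) • eI i := by
  rw [negOne_smul hF 0 (by norm_num)]
  by_cases h : (i : ℕ) < 2 <;> simp [pA, sgn, h]

theorem Z1_smul (i : Fin 4) : bl 4 2 1 (negOne hF) • (eI i : Fin 4 → F) = sgn F (pB i) • eI i := by
  rw [negOne_smul hF 1 (by norm_num)]
  by_cases h : 1 ≤ (i : ℕ) ∧ (i : ℕ) < 3 <;> simp [pB, sgn, h]

omit hF in
/-- The action of an element with coordinate vectors as eigenvectors. -/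
theorem diag_smul {n : ℕ} {g : SU n F 3} {c : Fin n → F} (h : ∀ i, g • (eI i : Fin n → F) = c i • eI i)
    (v : Fin n → F) (j : Fin n) : (g • v) j = c j * v j := by
  rw [eq_sum_eI v, Finset.smul_sum]
  simp only [lineSmul, h, Finset.sum_apply, Pi.smul_apply, smul_eq_mul]
  rw [Finset.sum_eq_single j (fun l _ hl => by simp [eI, Ne.symm hl]) (by simp),
    Finset.sum_eq_single j (fun l _ hl => by simp [eI, Ne.symm hl]) (by simp)]
  ring

/-- A joint eigenvector of the two sign elements is a coordinate vector. -/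
theorem toLine {u : Fin 4 → F} (j : Fin 4) {a b : Bool} (h0 : bl 4 2 0 (negOne hF) • u = sgn F a • u)
    (h1 : bl 4 2 1 (negOne hF) • u = sgn F b • u) (hj : ∀ i : Fin 4, i ≠ j → pA i ≠ a ∨ pB i ≠ b) :
    u = u j • eI j := by
  funext i
  by_cases h : i = j
  · subst h; simp [eI]
  · have e0 := congrFun h0 i
    have e1 := congrFun h1 i
    rw [diag_smul (Z0_smul hF), Pi.smul_apply, smul_eq_mul] at e0
    rw [diag_smul (Z1_smul hF), Pi.smul_apply, smul_eq_mul] at e1
    have : u i = 0 := by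
      by_contra hne
      rcases hj i h with h' | h'
      · exact h' (sgn_inj hF (mul_right_cancel₀ hne e0))
      · exact h' (sgn_inj hF (mul_right_cancel₀ hne e1))
    simp [eI, h, this]

/-- A lift in standard position respects both blocks. -/
theorem lift_blocks (Φ : SU 3 F 3 →* SU 4 F 3) (hZ0 : Φ (bl 3 2 0 (negOne hF)) = bl 4 2 0 (negOne hF))
    (hZ1 : Φ (bl 3 2 1 (negOne hF)) = bl 4 2 1 (negOne hF)) :
    (∀ X, Φ (bl 3 2 0 X) • (eI 2 : Fin 4 → F) = eI 2 ∧ Φ (bl 3 2 0 X) • (eI 3 : Fin 4 → F) = eI 3) ∧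
      ∀ X, Φ (bl 3 2 1 X) • (eI 0 : Fin 4 → F) = eI 0 ∧ Φ (bl 3 2 1 X) • (eI 3 : Fin 4 → F) = eI 3 := by
  classical
  have hne := neg_one_ne hF
  have hne' : (1 : F) ≠ -1 := Ne.symm hne
  set N := negOne hF with hNdef
  set Z0 : SU 4 F 3 := bl 4 2 0 N with hZ0def
  set Z1 : SU 4 F 3 := bl 4 2 1 N with hZ1def
  have hN : ∀ {b : ℕ} (k : ℕ) (hk : k + 2 ≤ b) (i : Fin b), bl b 2 k N • (eI i : Fin b → F) =
      (if k ≤ (i : ℕ) ∧ (i : ℕ) < k + 2 then (-1 : F) else 1) • eI i := fun k hk i => negOne_smul hF k hk i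
  -- elements of SU₃
  set z0 : SU 3 F 3 := bl 3 2 0 N with hz0
  set z1 : SU 3 F 3 := bl 3 2 1 N with hz1
  set W0 : SU 3 F 3 := bl 3 2 0 (W hF) with hW0
  set R : SU 3 F 3 := bl 3 2 1 (W hF) * bl 3 2 0 (W hF) with hR
  have r0 : R • (eI 0 : Fin 3 → F) = (1 : F) • eI 2 := by rw [hR, mul_smul, W0_smul, W1_smul, one_smul]
  have r1 : R • (eI 1 : Fin 3 → F) = (-1 : F) • eI 0 := by rw [hR, mul_smul, W0_smul', lineSmul, W1_fix]
  have r2 : R • (eI 2 : Fin 3 → F) = (-1 : F) • eI 1 := by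
    rw [hR, mul_smul, bl_fix hF (by norm_num) _ (Or.inr le_rfl)]
    exact bl_smul_eI (show 1 + 2 ≤ 3 by norm_num) (i := (1 : Fin 2)) (j := (0 : Fin 2)) (W_smul hF).2
  have w1' : W0 • (eI 1 : Fin 3 → F) = (-1 : F) • eI 0 := W0_smul' hF
  have w0' : W0 • (eI 0 : Fin 3 → F) = (1 : F) • eI 1 := by rw [one_smul]; exact W0_smul hF
  have w2' : W0 • (eI 2 : Fin 3 → F) = (1 : F) • eI 2 := by
    rw [one_smul]; exact bl_fix hF (by norm_num) _ (Or.inr le_rfl)
  have hW1' : z1 * W0 = W0 * (z0 * z1) := ext_eI fun i => by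
    fin_cases i <;> simp [hz0, hz1, mul_smul, lineSmul, hN, w0', w1', w2', smul_smul]
  have hNcomm : ∀ X : SU 2 F 3, N * X = X * N := fun X => by
    refine su2_ext hF ?_ ?_
    · show (mat N * mat X) 0 0 = (mat X * mat N) 0 0
      simp [hNdef, negOne, dg, mat, Matrix.mul_apply, Fin.sum_univ_two, mul_comm]
    · show (mat N * mat X) 0 1 = (mat X * mat N) 0 1
      simp [hNdef, negOne, dg, mat, Matrix.mul_apply, Fin.sum_univ_two, mul_comm]
  have hW0' : z0 * W0 = W0 * z0 := by rw [hz0, hW0, ← map_mul, ← map_mul, hNcomm]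
  have hR0 : z0 * R = R * z1 := ext_eI fun i => by
    fin_cases i <;> simp [hz0, hz1, mul_smul, lineSmul, hN, r0, r1, r2, smul_smul]
  have hR1 : z1 * R = R * (z0 * z1) := ext_eI fun i => by
    fin_cases i <;> simp [hz0, hz1, mul_smul, lineSmul, hN, r0, r1, r2, smul_smul]
  have hΦ0 : Φ z0 = Z0 := hZ0
  have hΦ1' : Φ z1 = Z1 := hZ1
  have transport : ∀ {Y : SU 3 F 3} (Y0 Y1 : SU 3 F 3) (v : Fin 4 → F) (σ τ : F), z0 * Y = Y * Y0 → z1 * Y = Y * Y1 →
      Φ Y0 • v = σ • v → Φ Y1 • v = τ • v → Z0 • (Φ Y • v) = σ • (Φ Y • v) ∧ Z1 • (Φ Y • v) = τ • (Φ Y • v) := by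
    intro Y Y0 Y1 v σ τ h0 h1 e0 e1
    refine ⟨?_, ?_⟩
    · rw [← hΦ0, ← mul_smul, ← map_mul, h0, map_mul, mul_smul, e0, lineSmul]
    · rw [← hΦ1', ← mul_smul, ← map_mul, h1, map_mul, mul_smul, e1, lineSmul]
  -- the scalars
  obtain ⟨l, hl, hl'⟩ := exists_norm_avoid hF ({1, -1} : Finset F) (le_trans Finset.card_le_two (by norm_num))
  simp only [Finset.mem_insert, Finset.mem_singleton, not_or] at hl'
  have hll : l * l = -1 := by
    have h : (l * l) * (l * l) = 1 := by rw [← hl]; ring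
    rcases mul_self_eq_one_iff.1 h with h | h
    · rcases mul_self_eq_one_iff.1 h with h | h
      exacts [absurd h hl'.1, absurd h hl'.2]
    · exact h
  set D3 : SU 3 F 3 := dg ![l, l, -1] (fun i => by fin_cases i <;> simp [hl] <;> ring)
    (by simp [Fin.prod_univ_three, hll]) with hD3
  have hD3e : D3 • (eI 0 : Fin 3 → F) = l • eI 0 ∧ D3 • (eI 1 : Fin 3 → F) = l • eI 1 ∧
      D3 • (eI 2 : Fin 3 → F) = (-1 : F) • eI 2 := by
    refine ⟨?_, ?_, ?_⟩ <;> rw [hD3, dg_smul_eI] <;> rfl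
  obtain ⟨d0e, d1e, d2e⟩ := hD3e
  have hDz0 : z0 * D3 = D3 * z0 := ext_eI fun i => by
    fin_cases i <;> simp [hz0, mul_smul, lineSmul, hN, d0e, d1e, d2e, smul_smul, mul_comm]
  have hDz1 : z1 * D3 = D3 * z1 := ext_eI fun i => by
    fin_cases i <;> simp [hz1, mul_smul, lineSmul, hN, d0e, d1e, d2e, smul_smul, mul_comm]
  have hDsq : D3 * D3 = z0 := ext_eI fun i => by
    fin_cases i <;> simp [hz0, mul_smul, lineSmul, hN, d0e, d1e, d2e, smul_smul, hll]
  have hDX : ∀ X, bl 3 2 0 X * D3 = D3 * bl 3 2 0 X := fun X => by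
    rw [hD3, dg_conj, twist_bl (k := 0) (by norm_num) _ _ (e := fun _ => l) (fun _ => hl) fun i => by fin_cases i <;> rfl]
    congr 2
    have hl0 := ne_zero_of_norm hl
    exact (su2_ext hF (by simp [twist_refl_apply, hl0]; field_simp) (by simp [twist_refl_apply, hl0]; field_simp)).symm
  -- the image of the diagonal element
  have hpair : ∀ i j : Fin 4, j ≠ i → pA j ≠ pA i ∨ pB j ≠ pB i := by decide
  have hDi : ∀ i : Fin 4, Φ D3 • (eI i : Fin 4 → F) = (Φ D3 • (eI i : Fin 4 → F)) i • eI i := fun i => by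
    obtain ⟨h0, h1⟩ := transport z0 z1 (eI i) _ _ hDz0 hDz1 (by rw [hΦ0]; exact Z0_smul hF i)
      (by rw [hΦ1']; exact Z1_smul hF i)
    exact toLine hF i h0 h1 (hpair i)
  set d : Fin 4 → F := fun i => (Φ D3 • (eI i : Fin 4 → F)) i with hd
  have hdd : ∀ i : Fin 4, d i * d i = sgn F (pA i) := fun i => by
    have h : Φ D3 • (Φ D3 • (eI i : Fin 4 → F)) = sgn F (pA i) • eI i := by
      rw [← mul_smul, ← map_mul, hDsq, hΦ0]; exact Z0_smul hF i
    rw [hDi, lineSmul, hDi, smul_smul] at h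
    have := congrFun h i
    simpa [eI, hd] using this
  have hWe : ∃ c : F, c ≠ 0 ∧ Φ W0 • (eI 0 : Fin 4 → F) = c • eI 1 := by
    obtain ⟨h0, h1⟩ := transport z0 (z0 * z1) (eI 0) (sgn F true) (sgn F true) hW0' hW1'
      (by rw [hΦ0]; exact Z0_smul hF 0) (by
        rw [map_mul, hΦ0, hΦ1', mul_smul, show Z1 • (eI 0 : Fin 4 → F) = _ from Z1_smul hF 0, lineSmul,
          show Z0 • (eI 0 : Fin 4 → F) = _ from Z0_smul hF 0]
        simp [pA, pB, sgn])
    have e := toLine hF (1 : Fin 4) h0 h1 (by decide)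
    refine ⟨_, fun hc => ?_, e⟩
    rw [hc, zero_smul, smul_eq_zero_iff_eq] at e
    have := congrFun e 0
    simp [eI] at this
  have hd01 : d 1 = d 0 := by
    obtain ⟨c, hc, e⟩ := hWe
    have h := congrArg (fun g : SU 4 F 3 => g • (eI 0 : Fin 4 → F)) (congrArg Φ (hDX (W hF)))
    have hDi' : ∀ i, Φ D3 • (eI i : Fin 4 → F) = d i • eI i := hDi
    simp only [map_mul, mul_smul, ← hW0, e, lineSmul, hDi'] at h
    simp only [smul_smul] at h
    have := congrFun h 1
    simp [eI] at this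
    exact mul_left_cancel₀ hc (by linear_combination -this)
  have hdet : d 0 * d 1 * (d 2 * d 3) = 1 := by
    have hM : ((Φ D3).1 : Matrix (Fin 4) (Fin 4) F) = Matrix.diagonal d :=
      Matrix.ext_of_mulVec_single fun i => by
        refine (hDi i).trans ?_
        funext j
        rw [Matrix.mulVec_diagonal]
        by_cases hj : j = i
        · subst hj; rfl
        · simp [eI, hj]
    have := (Φ D3).1.2
    rw [hM, Matrix.det_diagonal, Fin.prod_univ_four] at this
    linear_combination this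
  have hd23 : d 2 ≠ d 3 := by
    intro e
    rw [hd01, e, hdd 0, hdd 3] at hdet
    simp [pA, sgn] at hdet
    exact hne hdet
  -- the first block
  have hblock0 : ∀ X, Φ (bl 3 2 0 X) • (eI 2 : Fin 4 → F) = eI 2 ∧ Φ (bl 3 2 0 X) • (eI 3 : Fin 4 → F) = eI 3 := by
    have hline : ∀ X (i : Fin 4), pA i = false → Φ (bl 3 2 0 X) • (eI i : Fin 4 → F) =
        (Φ (bl 3 2 0 X) • (eI i : Fin 4 → F)) i • eI i := by
      intro X i hi
      set u := Φ (bl 3 2 0 X) • (eI i : Fin 4 → F) with hu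
      have hD : Φ D3 • u = d i • u := by
        rw [hu, ← mul_smul, ← map_mul, ← hDX, map_mul, mul_smul, hDi, lineSmul]
      funext j
      by_cases hj : j = i
      · subst hj; simp [eI]
      · have hjv : u j = 0 := by
          have e := congrFun hD j
          rw [diag_smul (c := d) hDi, Pi.smul_apply, smul_eq_mul] at e
          by_contra hne0
          have hdji : d j = d i := mul_right_cancel₀ hne0 e
          have h1 := hdd j
          rw [hdji, hdd i] at h1
          have hp := sgn_inj hF h1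
          rw [hi] at hp
          have hall : ∀ i j : Fin 4, pA i = false → pA j = false → j ≠ i → (i = 2 ∧ j = 3) ∨ (i = 3 ∧ j = 2) := by decide
          rcases hall i j hi hp.symm hj with ⟨rfl, rfl⟩ | ⟨rfl, rfl⟩
          · exact hd23 hdji.symm
          · exact hd23 hdji
        simp [eI, hj, hjv]
    have htriv : ∀ (i : Fin 4), pA i = false → ∀ X, Φ (bl 3 2 0 X) • (eI i : Fin 4 → F) = eI i := by
      intro i hi
      have hle : Subgroup.closure {x : SU 2 F 3 | x ^ 3 = 1} ≤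
          (MulAction.stabilizer (SU 4 F 3) (eI i : Fin 4 → F)).comap (Φ.comp (bl 3 2 0)) := by
        rw [Subgroup.closure_le]
        intro x hx
        show Φ (bl 3 2 0 x) • (eI i : Fin 4 → F) = eI i
        set c := (Φ (bl 3 2 0 x) • (eI i : Fin 4 → F)) i with hc
        have e : Φ (bl 3 2 0 x) • (eI i : Fin 4 → F) = c • eI i := hline x i hi
        have h3 : (Φ (bl 3 2 0 x)) ^ 3 • (eI i : Fin 4 → F) = (c * c * c) • eI i := by
          rw [pow_succ, pow_succ, pow_one, mul_smul, mul_smul, e, lineSmul, e, lineSmul, lineSmul, e, smul_smul, smul_smul]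
        rw [← map_pow, ← map_pow, show x ^ 3 = 1 from hx, map_one, map_one, one_smul] at h3
        have hc3 := congrFun h3 i
        simp [eI] at hc3
        rw [e, eq_one_of_cube hF (line_norm hF e) (by linear_combination -hc3), one_smul]
      exact fun X => hle (closure_cube_two hF ▸ Subgroup.mem_top X)
    exact fun X => ⟨htriv 2 rfl X, htriv 3 rfl X⟩
  -- the second block, by conjugation
  have hRl : ∀ (i j : Fin 4),
      (∀ t : Fin 4, t ≠ j → pA t ≠ pB i ∨ pB t ≠ (pA i ^^ pB i)) →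
      ∃ c : F, Φ R • (eI i : Fin 4 → F) = c • eI j := fun i j hj => by
    obtain ⟨h0, h1⟩ := transport z1 (z0 * z1) (eI i) (sgn F (pB i)) (sgn F (pA i ^^ pB i)) hR0 hR1
      (by rw [hΦ1']; exact Z1_smul hF i) (by
        rw [map_mul, hΦ0, hΦ1', mul_smul, show Z1 • (eI i : Fin 4 → F) = _ from Z1_smul hF i, lineSmul,
          show Z0 • (eI i : Fin 4 → F) = _ from Z0_smul hF i, smul_smul]
        congr 1
        cases pA i <;> cases pB i <;> simp [sgn])
    exact ⟨_, toLine hF j h0 h1 hj⟩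
  obtain ⟨c21, R2⟩ := hRl 2 1 (by decide)
  obtain ⟨c10, R1⟩ := hRl 1 0 (by decide)
  obtain ⟨c33, R3⟩ := hRl 3 3 (by decide)
  have nz : ∀ {g : SU 4 F 3} {i j : Fin 4} {c : F}, g • (eI i : Fin 4 → F) = c • eI j → c ≠ 0 := fun {g i j c} e hc => by
    rw [hc, zero_smul, smul_eq_zero_iff_eq] at e
    simpa [eI] using congrFun e i
  have hblock1 : ∀ X, Φ (bl 3 2 1 X) • (eI 0 : Fin 4 → F) = eI 0 ∧ Φ (bl 3 2 1 X) • (eI 3 : Fin 4 → F) = eI 3 := by
    intro X
    have hRR2 : (R * R) • (eI 2 : Fin 3 → F) = eI 0 := by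
      rw [mul_smul, r2, lineSmul, r1, smul_smul]; simp
    obtain ⟨Y, hY⟩ := exists_bl hF (k := 0) (a := 2) (b := 3) (by norm_num)
      (g := (R * R)⁻¹ * bl 3 2 1 X * (R * R)) fun j hj => by
        obtain rfl : j = 2 := by omega
        rw [mul_smul, mul_smul, inv_smul_eq_iff, hRR2, bl_fix hF (by norm_num) X (Or.inl (by simp))]
    have hX : bl 3 2 1 X = (R * R) * bl 3 2 0 Y * (R * R)⁻¹ := by rw [hY]; group
    have key : ∀ (i j : Fin 4) (c : F), c ≠ 0 → Φ (R * R) • (eI i : Fin 4 → F) = c • eI j →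
        Φ (bl 3 2 0 Y) • (eI i : Fin 4 → F) = eI i → Φ (bl 3 2 1 X) • (eI j : Fin 4 → F) = eI j := by
      intro i j c hc e hfix
      have hinv : (Φ (R * R))⁻¹ • (eI j : Fin 4 → F) = c⁻¹ • eI i := by
        rw [inv_smul_eq_iff, lineSmul, e, smul_smul, inv_mul_cancel₀ hc, one_smul]
      rw [hX, map_mul, map_mul Φ (R * R), map_inv, mul_smul, mul_smul, hinv, lineSmul, hfix, lineSmul, e, smul_smul,
        inv_mul_cancel₀ hc, one_smul]
    refine ⟨key 2 0 (c21 * c10) (mul_ne_zero (nz R2) (nz R1)) ?_ (hblock0 Y).1,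
      key 3 3 (c33 * c33) (mul_ne_zero (nz R3) (nz R3)) ?_ (hblock0 Y).2⟩
    · rw [map_mul, mul_smul, R2, lineSmul, R1, smul_smul]
    · rw [map_mul, mul_smul, R3, lineSmul, R3, smul_smul]
  exact ⟨hblock0, hblock1⟩

/-- The lifts in standard position. -/
theorem exists_f4_std {g : SU 4 F 3 →* G} (hg : g.ker ≤ Subgroup.center _) {ψ0 ψ1 : SU 3 F 3 →* G}
    (hi0 : Function.Injective ψ0) (hi1 : Function.Injective ψ1)
    (hagree : ψ0.comp (bl 3 2 1) = ψ1.comp (bl 3 2 0))
    (hcomm : ∀ A B, Commute (ψ0 (bl 3 2 0 A)) (ψ1 (bl 3 2 1 B)))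
    {Φ Φ1 : SU 3 F 3 →* SU 4 F 3} (hΦ : g.comp Φ = ψ0) (hΦ1 : g.comp Φ1 = ψ1)
    (hZ0 : Φ (bl 3 2 0 (negOne hF)) = bl 4 2 0 (negOne hF))
    (hZ1 : Φ (bl 3 2 1 (negOne hF)) = bl 4 2 1 (negOne hF)) :
    ∃ f4 : SU 4 F 3 →* G, f4.comp (bl 4 3 0) = ψ0 ∧ f4.comp (bl 4 3 1) = ψ1 := by
  classical
  have h2 := two_ne hF
  obtain ⟨hblock0, hblock1⟩ := lift_blocks hF Φ hZ0 hZ1
  obtain ⟨l, hl, hl'⟩ := exists_norm_avoid hF ({1, -1} : Finset F) (le_trans Finset.card_le_two (by norm_num))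
  simp only [Finset.mem_insert, Finset.mem_singleton, not_or] at hl'
  have hll : l * l = -1 := by
    have h : (l * l) * (l * l) = 1 := by rw [← hl]; ring
    rcases mul_self_eq_one_iff.1 h with h | h
    · rcases mul_self_eq_one_iff.1 h with h | h
      exacts [absurd h hl'.1, absurd h hl'.2]
    · exact h
  have hq : 3 ≤ 3 := le_rfl
  have hfix3 : ∀ Y, Φ Y • (eI 3 : Fin 4 → F) = eI 3 := by
    have := gen_top hF hq (show 2 ≤ 3 by norm_num) ((MulAction.stabilizer (SU 4 F 3) (eI 3 : Fin 4 → F)).comap Φ)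
      fun k hk X => by
        obtain rfl | rfl : k = 0 ∨ k = 1 := by omega
        exacts [(hblock0 X).2, (hblock1 X).2]
    exact fun Y => (this ▸ Subgroup.mem_top Y : Y ∈ (MulAction.stabilizer (SU 4 F 3) (eI 3 : Fin 4 → F)).comap Φ)
  have hex : ∀ Y, ∃ Y', bl 4 3 0 Y' = Φ Y := fun Y => exists_bl hF (by norm_num) fun j hj => by
    obtain rfl : j = 3 := Fin.ext (show (j : ℕ) = 3 by have := j.isLt; omega)
    exact hfix3 Y
  choose δf hδf using hex
  let δ : SU 3 F 3 →* SU 3 F 3 := MonoidHom.mk' δf fun x y => bl_injective (show 0 + 3 ≤ 4 by norm_num)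
    (by rw [map_mul, hδf, hδf, hδf, map_mul])
  have hδ : ∀ Y, bl 4 3 0 (δ Y) = Φ Y := hδf
  have hΦinj : Function.Injective Φ := fun x y e => hi0 (by rw [← hΦ]; exact congrArg g e)
  have hδinj : Function.Injective δ := fun x y e => hΦinj (by rw [← hδ, ← hδ, e])
  have hδ0 : ∀ X, ∃ Y, δ (bl 3 2 0 X) = bl 3 2 0 Y := fun X => by
    obtain ⟨Y, hY⟩ := exists_bl hF (k := 0) (a := 2) (b := 4) (by norm_num) (g := Φ (bl 3 2 0 X)) fun j hj => by
      obtain rfl | rfl : j = 2 ∨ j = 3 := by omega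
      exacts [(hblock0 X).1, (hblock0 X).2]
    exact ⟨Y, bl_injective (show 0 + 3 ≤ 4 by norm_num) (by
      rw [hδ, bl_comp_apply (m := 0) (by norm_num) (by norm_num) rfl, hY])⟩
  have hδ1 : ∀ X, ∃ Y, δ (bl 3 2 1 X) = bl 3 2 1 Y := fun X => by
    obtain ⟨Y, hY⟩ := exists_bl hF (k := 1) (a := 2) (b := 4) (by norm_num) (g := Φ (bl 3 2 1 X)) fun j hj => by
      obtain rfl | rfl : j = 0 ∨ j = 3 := by omega
      exacts [(hblock1 X).1, (hblock1 X).2]
    exact ⟨Y, bl_injective (show 0 + 3 ≤ 4 by norm_num) (by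
      rw [hδ, bl_comp_apply (m := 1) (by norm_num) (by norm_num) rfl, hY])⟩
  obtain ⟨τ, e, he, hδτ⟩ := exists_twist_three hF hq hδinj hδ0 hδ1
  have hτi : ∀ (c : Fin 2 → F) (hc : ∀ i, c i ^ (3 + 1) = 1),
      Function.Surjective (twist τ c hc : SU 2 F 3 → SU 2 F 3) := fun c hc =>
    (Finite.injective_iff_surjective).1 (twist_injective τ hc)
  -- the second copy
  have hagree' : Φ1.comp (bl 3 2 0) = Φ.comp (bl 3 2 1) := lift_unique hF hg (closure_cube_two hF) (by
    rw [← MonoidHom.comp_assoc, hΦ1, ← MonoidHom.comp_assoc, hΦ, hagree])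
  have hcomm' : ∀ A B, Commute (Φ (bl 3 2 0 A)) (Φ1 (bl 3 2 1 B)) := by
    intro A B
    have hle : Subgroup.closure {x : SU 2 F 3 | x ^ 3 = 1} ≤
        (Subgroup.centralizer {Φ1 (bl 3 2 1 B)}).comap (Φ.comp (bl 3 2 0)) := by
      rw [Subgroup.closure_le]
      intro x hx
      show Φ (bl 3 2 0 x) ∈ Subgroup.centralizer {Φ1 (bl 3 2 1 B)}
      rw [Subgroup.mem_centralizer_singleton_iff]
      refine (commute_of_image hF hg (by rw [← map_pow, ← map_pow, show x ^ 3 = 1 from hx, map_one, map_one]) ?_).eq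
      rw [← MonoidHom.comp_apply g, ← MonoidHom.comp_apply g Φ1, hΦ, hΦ1]
      exact hcomm x B
    exact Subgroup.mem_centralizer_singleton_iff.1 (hle (closure_cube_two hF ▸ Subgroup.mem_top A))
  have he2 : ∀ i, (![e 0, e 1] : Fin 2 → F) i ^ (3 + 1) = 1 := fun i => by fin_cases i <;> exact he _
  have hΦ0range : ∀ A, ∃ A', Φ (bl 3 2 0 A') = bl 4 2 0 A := fun A => by
    obtain ⟨A', rfl⟩ := hτi ![e 0, e 1] he2 A
    refine ⟨A', ?_⟩
    rw [← hδ, hδτ, twist_bl (k := 0) (by norm_num) _ _ he2 fun i => by fin_cases i <;> rfl,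
      bl_comp_apply (m := 0) (by norm_num) (by norm_num) rfl]
  have hY01 : ∀ X, ∃ μ : F, Φ1 (bl 3 2 1 X) • (eI 0 : Fin 4 → F) = μ • eI 0 ∧
      Φ1 (bl 3 2 1 X) • (eI 1 : Fin 4 → F) = μ • eI 1 := by
    intro X
    set Y := Φ1 (bl 3 2 1 X) with hY
    have hl0 := ne_zero_of_norm hl
    obtain ⟨A', hA'⟩ := hΦ0range (dg (q := 3) ![l, l⁻¹] (fun i => by fin_cases i <;> simp [hl])
      (by simp [Fin.prod_univ_two, hl0]))
    set T := bl 4 2 0 (dg (q := 3) ![l, l⁻¹] (fun i => by fin_cases i <;> simp [hl]) (by simp [Fin.prod_univ_two, hl0])) with hT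
    have hTe : ∀ i : Fin 4, T • (eI i : Fin 4 → F) = (![l, l⁻¹, 1, 1] i) • eI i := fun i => by
      fin_cases i
      · exact bl_smul_eI (show 0 + 2 ≤ 4 by norm_num) (i := (0 : Fin 2)) (j := (0 : Fin 2)) (dg_smul_eI _ _ _ _)
      · exact bl_smul_eI (show 0 + 2 ≤ 4 by norm_num) (i := (1 : Fin 2)) (j := (1 : Fin 2)) (dg_smul_eI _ _ _ _)
      · exact (bl_fix hF (by norm_num) _ (Or.inr (by decide))).trans (one_smul F _).symm
      · exact (bl_fix hF (by norm_num) _ (Or.inr (by decide))).trans (one_smul F _).symm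
    have hTY : T * Y = Y * T := by rw [← hA']; exact (hcomm' A' X).eq
    have hsmul : ∀ (v : Fin 4 → F) j, (T • v) j = ![l, l⁻¹, 1, 1] j * v j := fun v j => by
      rw [eq_sum_eI v, Finset.smul_sum]
      simp only [lineSmul, hTe, Finset.sum_apply, Pi.smul_apply, smul_eq_mul]
      rw [Finset.sum_eq_single j (fun l _ hl => by simp [eI, Ne.symm hl]) (by simp),
        Finset.sum_eq_single j (fun l _ hl => by simp [eI, Ne.symm hl]) (by simp)]
      ring
    have hlinv : l⁻¹ = -l := inv_eq_of_mul_eq_one_right (by linear_combination -hll)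
    have hu : Y • (eI 0 : Fin 4 → F) = (Y • (eI 0 : Fin 4 → F)) 0 • eI 0 := by
      set u := Y • (eI 0 : Fin 4 → F) with hu
      have h : T • u = l • u := by rw [hu, ← mul_smul, hTY, mul_smul, hTe, lineSmul]; rfl
      funext j
      by_cases hj : j = 0
      · subst hj; simp [eI]
      · have e' := congrFun h j
        rw [hsmul, Pi.smul_apply, smul_eq_mul] at e'
        have : u j = 0 := by
          by_contra hne0
          have h' := mul_right_cancel₀ hne0 e'
          fin_cases j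
          · exact hj rfl
          · simp [hlinv] at h'
            exact h2 ((mul_eq_zero.1 (show (2 : F) * l = 0 by linear_combination -h')).resolve_right hl0)
          · simp at h'; exact hl'.1 h'.symm
          · simp at h'; exact hl'.1 h'.symm
        simp [eI, hj, this]
    obtain ⟨A', hA'⟩ := hΦ0range (W hF)
    have hW4 : bl 4 2 0 (W hF) • (eI 0 : Fin 4 → F) = eI 1 := by
      have h := bl_smul_eI (show 0 + 2 ≤ 4 by norm_num) (W_smul hF).1
      rw [one_smul] at h
      exact h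
    generalize hμ : (Y • (eI 0 : Fin 4 → F)) 0 = μ at hu
    refine ⟨μ, hu, ?_⟩
    rw [← hW4, ← mul_smul, show Y * bl 4 2 0 (W hF) = bl 4 2 0 (W hF) * Y by rw [← hA']; exact (hcomm' A' X).eq.symm,
      mul_smul, hu, lineSmul]
  have hblock2 : ∀ X, Φ1 (bl 3 2 1 X) • (eI 0 : Fin 4 → F) = eI 0 ∧ Φ1 (bl 3 2 1 X) • (eI 1 : Fin 4 → F) = eI 1 := by
    have hle : Subgroup.closure {x : SU 2 F 3 | x ^ 3 = 1} ≤
        (MulAction.stabilizer (SU 4 F 3) (eI 0 : Fin 4 → F) ⊓ MulAction.stabilizer (SU 4 F 3) (eI 1 : Fin 4 → F)).comap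
          (Φ1.comp (bl 3 2 1)) := by
      rw [Subgroup.closure_le]
      intro x hx
      obtain ⟨c, e0, e1⟩ := hY01 x
      have h3 : (Φ1 (bl 3 2 1 x)) ^ 3 • (eI 0 : Fin 4 → F) = (c * c * c) • eI 0 := by
        rw [pow_succ, pow_succ, pow_one, mul_smul, mul_smul, e0, lineSmul, e0, lineSmul, lineSmul, e0, smul_smul, smul_smul]
      rw [← map_pow, ← map_pow, show x ^ 3 = 1 from hx, map_one, map_one, one_smul] at h3
      have hc3 := congrFun h3 0
      simp [eI] at hc3
      have hc1 : c = 1 := eq_one_of_cube hF (line_norm hF e0) (by linear_combination -hc3)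
      rw [hc1, one_smul] at e0 e1
      exact ⟨e0, e1⟩
    exact fun X => hle (closure_cube_two hF ▸ Subgroup.mem_top X)
  have hfix0 : ∀ Y, Φ1 Y • (eI 0 : Fin 4 → F) = eI 0 := by
    have := gen_top hF hq (show 2 ≤ 3 by norm_num) ((MulAction.stabilizer (SU 4 F 3) (eI 0 : Fin 4 → F)).comap Φ1)
      fun k hk X => by
        obtain rfl | rfl : k = 0 ∨ k = 1 := by omega
        · show (Φ1.comp (bl 3 2 0)) X • (eI 0 : Fin 4 → F) = eI 0
          rw [hagree']; exact (hblock1 X).1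
        · exact (hblock2 X).1
    exact fun Y => (this ▸ Subgroup.mem_top Y : Y ∈ (MulAction.stabilizer (SU 4 F 3) (eI 0 : Fin 4 → F)).comap Φ1)
  have hex1 : ∀ Y, ∃ Y', bl 4 3 1 Y' = Φ1 Y := fun Y => exists_bl hF (by norm_num) fun j hj => by
    obtain rfl : j = 0 := Fin.ext (show (j : ℕ) = 0 by have := j.isLt; omega)
    exact hfix0 Y
  choose εf hεf using hex1
  let ε : SU 3 F 3 →* SU 3 F 3 := MonoidHom.mk' εf fun x y => bl_injective (show 1 + 3 ≤ 4 by norm_num)
    (by rw [map_mul, hεf, hεf, hεf, map_mul])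
  have hε : ∀ Y, bl 4 3 1 (ε Y) = Φ1 Y := hεf
  have hεinj : Function.Injective ε := fun x y e' => hi1 (by
    rw [← hΦ1, MonoidHom.comp_apply, MonoidHom.comp_apply, ← hε, ← hε, e'])
  -- normalise by the first twist
  have he3 : ∀ i, (![e 1, e 2, e 2] : Fin 3 → F) i ^ (3 + 1) = 1 := fun i => by fin_cases i <;> exact he _
  let β : SU 3 F 3 ≃* SU 3 F 3 :=
    MulEquiv.ofBijective (twist τ (![e 1, e 2, e 2] : Fin 3 → F) he3)
      ((Finite.injective_iff_bijective).1 (twist_injective τ he3))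
  have he12 : ∀ i, (![e 1, e 2] : Fin 2 → F) i ^ (3 + 1) = 1 := fun i => by fin_cases i <;> exact he _
  have he22 : ∀ i, (![e 2, e 2] : Fin 2 → F) i ^ (3 + 1) = 1 := fun i => by fin_cases i <;> exact he _
  obtain ⟨r, hr, hεr⟩ := exists_twist_fix hF hq (δ := β.symm.toMonoidHom.comp ε) (β.symm.injective.comp hεinj)
    (fun X => β.injective (by
      show β (β.symm (ε _)) = twist τ _ he3 (bl 3 2 0 X)
      rw [β.apply_symm_apply, twist_bl (k := 0) (by norm_num) _ _ he12 fun i => by fin_cases i <;> rfl]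
      refine bl_injective (show 1 + 3 ≤ 4 by norm_num) ?_
      rw [hε, bl_comp_apply (m := 1) (by norm_num) (by norm_num) rfl, ← MonoidHom.comp_apply Φ1, hagree',
        MonoidHom.comp_apply, ← hδ, hδτ, twist_bl (k := 1) (by norm_num) _ _ he12 fun i => by fin_cases i <;> rfl,
        bl_comp_apply (m := 1) (by norm_num) (by norm_num) rfl]))
    (fun X => by
      obtain ⟨Y, hY⟩ := exists_bl hF (k := 2) (a := 2) (b := 4) (by norm_num) (g := Φ1 (bl 3 2 1 X)) fun j hj => by
        obtain rfl | rfl : j = 0 ∨ j = 1 := by omega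
        exacts [(hblock2 X).1, (hblock2 X).2]
      obtain ⟨Y', rfl⟩ := hτi ![e 2, e 2] he22 Y
      refine ⟨Y', β.injective ?_⟩
      show β (β.symm (ε _)) = twist τ _ he3 (bl 3 2 1 Y')
      rw [β.apply_symm_apply, twist_bl (k := 1) (by norm_num) _ _ he22 fun i => by fin_cases i <;> rfl]
      refine bl_injective (show 1 + 3 ≤ 4 by norm_num) ?_
      rw [hε, bl_comp_apply (m := 2) (by norm_num) (by norm_num) rfl, hY])
  have hr2 : r ^ (3 + 1) = 1 := hr 2
  have he4 : ∀ i, (![e 0, e 1, e 2, e 2 * τ r] : Fin 4 → F) i ^ (3 + 1) = 1 := fun i => by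
    fin_cases i
    · exact he _
    · exact he _
    · exact he _
    · show (e 2 * τ r) ^ (3 + 1) = 1
      rw [mul_pow, he, ← map_pow, hr2, map_one, one_mul]
  refine ⟨g.comp (twist τ _ he4), MonoidHom.ext fun Y => ?_, MonoidHom.ext fun Y => ?_⟩
  · rw [← hΦ]
    show g (twist τ _ he4 (bl 4 3 0 Y)) = g (Φ Y)
    rw [twist_bl (k := 0) (by norm_num) _ _ he fun i => by fin_cases i <;> rfl, ← hδτ, hδ]
  · rw [← hΦ1]
    show g (twist τ _ he4 (bl 4 3 1 Y)) = g (Φ1 Y)
    have he5 : ∀ i, (![e 1, e 2, e 2 * τ r] : Fin 3 → F) i ^ (3 + 1) = 1 := fun i => by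
      fin_cases i
      · exact he _
      · exact he _
      · exact he4 3
    rw [twist_bl (k := 1) (by norm_num) _ _ he5 fun i => by fin_cases i <;> rfl, ← hε]
    congr 2
    have hεY : ε Y = β (twist (RingEquiv.refl F) ![1, 1, r] hr Y) := by
      rw [← hεr]
      exact (β.apply_symm_apply _).symm
    rw [hεY]
    refine eq_of_smul_eq_SU fun v => ?_
    obtain ⟨v, rfl⟩ := tvec_surjective τ (fun i => ne_zero_of_norm (he5 i)) v
    rw [twist_tvec, show tvec τ ![e 1, e 2, e 2 * τ r] v =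
      tvec τ ![e 1, e 2, e 2] (tvec (RingEquiv.refl F) ![1, 1, r] v) from
      funext fun i => by fin_cases i <;> simp [tvec, mul_assoc]]
    show _ = twist τ _ he3 _ • _
    rw [twist_tvec, twist_tvec]
    funext i
    fin_cases i <;> simp [tvec, mul_assoc]

/-- A homomorphism of `SU₄(3)` covering both pairs can be chosen to extend them. -/
theorem exists_f4 (g : SU 4 F 3 →* G) (ψ0 ψ1 : SU 3 F 3 →* G) (hi0 : Function.Injective ψ0)
    (hi1 : Function.Injective ψ1) (hagree : ψ0.comp (bl 3 2 1) = ψ1.comp (bl 3 2 0))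
    (hcomm : ∀ A B, Commute (ψ0 (bl 3 2 0 A)) (ψ1 (bl 3 2 1 B))) (hr0 : ψ0.range ≤ g.range)
    (hr1 : ψ1.range ≤ g.range) :
    ∃ f4 : SU 4 F 3 →* G, f4.comp (bl 4 3 0) = ψ0 ∧ f4.comp (bl 4 3 1) = ψ1 := by
  classical
  have hN : ∀ {b : ℕ} (k : ℕ) (hk : k + 2 ≤ b) (i : Fin b), bl b 2 k (negOne hF) • (eI i : Fin b → F) =
      (if k ≤ (i : ℕ) ∧ (i : ℕ) < k + 2 then (-1 : F) else 1) • eI i := by
    intro b k hk i
    split_ifs with hi
    · have := bl_smul_eI hk (A := negOne hF) (i := ⟨i - k, by omega⟩) (j := ⟨i - k, by omega⟩) (dg_smul_eI _ _ _ _)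
      rwa [show shift k hk ⟨i - k, by omega⟩ = i from Fin.ext (by simp [shift_val]; omega)] at this
    · rw [bl_fix hF hk _ (by omega), one_smul]
  have hne := neg_one_ne hF
  set z0 : SU 3 F 3 := bl 3 2 0 (negOne hF) with hz0
  set z1 : SU 3 F 3 := bl 3 2 1 (negOne hF) with hz1
  have z0sq : z0 * z0 = 1 := ext_eI fun i => by fin_cases i <;> simp [hz0, mul_smul, lineSmul, hN, smul_smul]
  have z1sq : z1 * z1 = 1 := ext_eI fun i => by fin_cases i <;> simp [hz1, mul_smul, lineSmul, hN, smul_smul]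
  have zcomm : z0 * z1 = z1 * z0 := ext_eI fun i => by
    fin_cases i <;> simp [hz0, hz1, mul_smul, lineSmul, hN, smul_smul]
  have hne0 : z0 ≠ 1 := fun e => hne (by
    have := congrFun (congrArg (fun g : SU 3 F 3 => g • (eI 0 : Fin 3 → F)) e) 0
    rw [hz0, hN 0 (by norm_num), one_smul] at this
    simpa [eI] using this)
  have hne1 : z1 ≠ 1 := fun e => hne (by
    have := congrFun (congrArg (fun g : SU 3 F 3 => g • (eI 1 : Fin 3 → F)) e) 1
    rw [hz1, hN 1 (by norm_num), one_smul] at this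
    simpa [eI] using this)
  have hne01 : z0 * z1 ≠ 1 := fun e => hne (by
    have := congrFun (congrArg (fun g : SU 3 F 3 => g • (eI 0 : Fin 3 → F)) e) 0
    rw [hz0, hz1, mul_smul, hN 1 (by norm_num), lineSmul, hN 0 (by norm_num), smul_smul, one_smul] at this
    simpa [eI] using this)
  have hgne : g.ker ≠ ⊤ := fun e => hne0 (hi0 (by
    obtain ⟨y, hy⟩ := hr0 ⟨z0, rfl⟩
    rw [← hy, map_one]
    exact MonoidHom.mem_ker.1 (e ▸ Subgroup.mem_top y)))
  have hg := ker_le_center hF hgne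
  obtain ⟨Φ, hΦ⟩ := exists_lift hF hg hi0 hr0
  obtain ⟨Φ1, hΦ1⟩ := exists_lift hF hg hi1 hr1
  have hΦinj : Function.Injective Φ := fun x y e => hi0 (by rw [← hΦ]; exact congrArg g e)
  have hnc : ∀ x : SU 3 F 3, x ≠ 1 → Φ x ∉ Subgroup.center (SU 4 F 3) := fun x hx hc => hx (by
    have hmem : x ∈ Subgroup.center (SU 3 F 3) := Subgroup.mem_center_iff.2 fun y => hΦinj (by
      rw [map_mul, map_mul]; exact Subgroup.mem_center_iff.1 hc _)
    rwa [center_bot hF, Subgroup.mem_bot] at hmem)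
  obtain ⟨h, hh0, hh1⟩ := exists_frame hF (a := Φ z0) (b := Φ z1) (by rw [← map_mul, z0sq, map_one])
    (by rw [← map_mul, z1sq, map_one]) ((show Commute z0 z1 from zcomm).map Φ) (hnc _ hne0) (hnc _ hne1)
    (by rw [← map_mul]; exact hnc _ hne01)
  set g' := g.comp (MulAut.conj h⁻¹).toMonoidHom with hg'
  have hker' : g'.ker ≤ Subgroup.center _ := fun x hx => by
    have := hg (show (MulAut.conj h⁻¹).toMonoidHom x ∈ g.ker from hx)
    have h2 := Subgroup.mem_center_iff.1 this h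
    simp only [MulEquiv.coe_toMonoidHom, MulAut.conj_apply, inv_inv] at h2 this
    have e : x = h⁻¹ * x * h := by
      calc x = h * (h⁻¹ * x * h) * h⁻¹ := by group
        _ = _ := by rw [h2, mul_inv_cancel_right]
    rw [e]
    exact this
  exact exists_f4_std hF hker' hi0 hi1 hagree hcomm (Φ := (MulAut.conj h).toMonoidHom.comp Φ)
    (Φ1 := (MulAut.conj h).toMonoidHom.comp Φ1)
    (by rw [← hΦ]; ext x; show g (h⁻¹ * (h * Φ x * h⁻¹) * h⁻¹⁻¹) = g (Φ x); group)
    (by rw [← hΦ1]; ext x; show g (h⁻¹ * (h * Φ1 x * h⁻¹) * h⁻¹⁻¹) = g (Φ1 x); group)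
    hh0 hh1

end Cfsg.Agent.KSG55.Phan.Three
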